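import Cfsg.Agent.Sec62.Layer2
import Cfsg.Agent.Class49.CharTwo
import Cfsg.Agent.Lib.PGroup.Basic
import Cfsg.Agent.S3103
import Cfsg.Prelude.Def_Transfer

/-!
The radical of a 2-constrained group of sectional rank four over the simple group of order 168.
-/

set_option autoImplicit false
set_option linter.style.haveILetI false

namespace Cfsg.Agent.Sec62

universe u

variable {X : Type u} [Group X] [Finite X] {Q : Subgroup X}

theorem minimal_central [Q.Normal] (hQp : IsPGroup 2 Q) (M : Subgroup X) [hMn : M.Normal] (hMQ : M ≤ Q)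
    (hM1 : M ≠ ⊥) (hmin : ∀ Y : Subgroup X, Y.Normal → Y ≤ M → Y = ⊥ ∨ Y = M) :
    (∀ m ∈ M, ∀ q ∈ Q, m * q = q * m) ∧ ∀ m ∈ M, m * m = 1 := by
  classical
  haveI := Fact.mk Nat.prime_two
  letI : MulAction Q M := MulAction.compHom _ ((MulAut.conjNormal (H := M)).comp Q.subtype)
  let Z : Subgroup X := M ⊓ Subgroup.centralizer (Q : Set X)
  have hZn : Z.Normal := ⟨fun z hz g => ⟨hMn.conj_mem z hz.1 g, fun q hq => by
    have hq' := ‹Q.Normal›.conj_mem q hq g⁻¹
    rw [inv_inv] at hq'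
    calc q * (g * z * g⁻¹) = g * ((g⁻¹ * q * g) * z) * g⁻¹ := by group
      _ = g * (z * (g⁻¹ * q * g)) * g⁻¹ := by rw [hz.2 _ hq']
      _ = g * z * g⁻¹ * q := by group⟩⟩
  have heven : 2 ∣ Nat.card M := by
    obtain ⟨j, hj⟩ := (hQp.to_le hMQ).exists_card_eq
    rcases j with _ | j
    · exact absurd (Subgroup.eq_bot_of_card_eq M (by rw [hj, pow_zero])) hM1
    · exact hj ▸ dvd_pow_self 2 (Nat.succ_ne_zero j)
  have hZ : Z = M := by
    refine (hmin Z hZn inf_le_left).resolve_left fun hb => ?_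
    have h := hQp.card_modEq_card_fixedPoints M
    have e : Nat.card (MulAction.fixedPoints Q M) = 1 := by
      rw [Nat.card_eq_one_iff_unique]
      refine ⟨⟨fun a b => ?_⟩, ⟨⟨1, fun q => Subtype.ext (show ((MulAut.conjNormal (q : X) (1 : M) : M) : X) = _ by simp)⟩⟩⟩
      have key : ∀ c : MulAction.fixedPoints Q M, (c.1 : X) = 1 := by
        rintro ⟨c, hc⟩
        have : (c : X) ∈ Z := ⟨c.2, fun q hq => by
          have h1 : ((MulAut.conjNormal q c : M) : X) = c := congrArg Subtype.val (hc ⟨q, hq⟩)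
          rw [MulAut.conjNormal_apply] at h1
          exact mul_inv_eq_iff_eq_mul.mp h1⟩
        rw [hb] at this
        exact Subgroup.mem_bot.mp this
      exact Subtype.ext (Subtype.ext ((key a).trans (key b).symm))
    rw [e] at h
    have h2 := (Nat.modEq_zero_iff_dvd.mpr heven).symm.trans h
    exact absurd h2 (by decide)
  have hc : ∀ m ∈ M, ∀ q ∈ Q, m * q = q * m := fun m hm q hq => ((hZ.ge hm).2 q hq).symm
  refine ⟨hc, ?_⟩
  let T : Subgroup X :=
    { carrier := {m | m ∈ M ∧ m * m = 1}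
      one_mem' := ⟨one_mem _, one_mul _⟩
      mul_mem' := by
        rintro a b ⟨ha, ha'⟩ ⟨hb, hb'⟩
        refine ⟨mul_mem ha hb, ?_⟩
        rw [mul_assoc, ← mul_assoc b, hc b hb a (hMQ ha), mul_assoc a b, hb', mul_one, ha']
      inv_mem' := by
        rintro a ⟨ha, ha'⟩
        exact ⟨inv_mem ha, by rw [inv_eq_of_mul_eq_one_right ha', ha']⟩ }
  have hTn : T.Normal := ⟨by
    rintro m ⟨hm, hm'⟩ g
    exact ⟨hMn.conj_mem m hm g, by rw [show g * m * g⁻¹ * (g * m * g⁻¹) = g * (m * m) * g⁻¹ by group, hm']; group⟩⟩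
  rcases hmin T hTn (fun m hm => hm.1) with h | h
  · exfalso
    obtain ⟨x, hx⟩ := exists_prime_orderOf_dvd_card' (G := M) 2 heven
    have hx2 : x * x = 1 := by rw [← pow_two, ← hx]; exact pow_orderOf_eq_one x
    have : (x : X) ∈ (⊥ : Subgroup X) := h ▸ (⟨x.2, congrArg Subtype.val hx2⟩ : (x : X) ∈ T)
    rw [Subgroup.mem_bot] at this
    rw [show x = 1 from Subtype.ext this, orderOf_one] at hx
    exact absurd hx (by norm_num)
  · exact fun m hm => (h.ge hm).2

theorem exists_maximal_below (M : Subgroup X) (hM : M ≠ ⊥) :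
    ∃ N : Subgroup X, N.Normal ∧ N < M ∧ ∀ Y : Subgroup X, Y.Normal → N ≤ Y → Y < M → Y = N := by
  classical
  haveI : Nonempty {N : Subgroup X // N.Normal ∧ N < M} := ⟨⟨⊥, inferInstance, bot_lt_iff_ne_bot.mpr hM⟩⟩
  haveI : Finite {N : Subgroup X // N.Normal ∧ N < M} := inferInstance
  obtain ⟨⟨N, hN, hNM⟩, hmax⟩ := Finite.exists_max (fun N : {N : Subgroup X // N.Normal ∧ N < M} => Nat.card N.1)
  exact ⟨N, hN, hNM, fun Y hY hNY hYM => (Subgroup.eq_of_le_of_card_ge hNY (hmax ⟨Y, hY, hYM⟩)).symm⟩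

theorem card_map_mk (N A : Subgroup X) [N.Normal] (h : N ≤ A) :
    Nat.card (A.map (QuotientGroup.mk' N)) * Nat.card N = Nat.card A := by
  let g := (QuotientGroup.mk' N).comp A.subtype
  have hr : g.range = A.map (QuotientGroup.mk' N) := by
    rw [MonoidHom.range_comp, Subgroup.range_subtype]
  have h' := g.ker.card_mul_index
  rw [Subgroup.index_ker, hr, Nat.card_congr (show g.ker ≃ N from
    ⟨fun q => ⟨q.1.1, (QuotientGroup.eq_one_iff _).mp q.2⟩,
      fun m => ⟨⟨m.1, h m.2⟩, (QuotientGroup.eq_one_iff _).mpr m.2⟩, fun q => rfl, fun m => rfl⟩)] at h'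
  rw [mul_comm]; exact h'

/-- data of a chief step below the squares -/
theorem quotient_step [Q.Normal] [IsSimpleGroup (X ⧸ Q)] (hcard : Nat.card (X ⧸ Q) = 168)
    (hQp : IsPGroup 2 Q) (A N : Subgroup X) [hA : A.Normal] [hN : N.Normal] (hNA : N < A) (hAQ : A ≤ Q)
    (hmax : ∀ Y : Subgroup X, Y.Normal → N ≤ Y → Y < A → Y = N) :
    IsSimpleGroup ((X ⧸ N) ⧸ Q.map (QuotientGroup.mk' N)) ∧
    Nat.card ((X ⧸ N) ⧸ Q.map (QuotientGroup.mk' N)) = 168 ∧
    A.map (QuotientGroup.mk' N) ≠ ⊥ ∧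
    (∀ Y : Subgroup (X ⧸ N), Y.Normal → Y ≤ A.map (QuotientGroup.mk' N) → Y = ⊥ ∨ Y = A.map (QuotientGroup.mk' N)) ∧
    (∀ m ∈ A.map (QuotientGroup.mk' N), ∀ q ∈ Q.map (QuotientGroup.mk' N), m * q = q * m) ∧
    ∀ m ∈ A.map (QuotientGroup.mk' N), m * m = 1 := by
  classical
  have hfs := QuotientGroup.mk'_surjective N
  haveI : (Q.map (QuotientGroup.mk' N)).Normal := ‹Q.Normal›.map _ hfs
  haveI : (A.map (QuotientGroup.mk' N)).Normal := hA.map _ hfs
  have hNQ : N ≤ Q := hNA.le.trans hAQ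
  let g : X →* (X ⧸ N) ⧸ Q.map (QuotientGroup.mk' N) :=
    (QuotientGroup.mk' (Q.map (QuotientGroup.mk' N))).comp (QuotientGroup.mk' N)
  have hg : Function.Surjective g := (QuotientGroup.mk'_surjective _).comp hfs
  have hgker : g.ker = Q := by
    rw [← MonoidHom.comap_ker, QuotientGroup.ker_mk', Subgroup.comap_map_eq, QuotientGroup.ker_mk', sup_eq_left]
    exact hNQ
  let e : X ⧸ Q ≃* (X ⧸ N) ⧸ Q.map (QuotientGroup.mk' N) :=
    (QuotientGroup.quotientMulEquivOfEq hgker.symm).trans (QuotientGroup.quotientKerEquivOfSurjective g hg)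
  haveI : Nontrivial ((X ⧸ N) ⧸ Q.map (QuotientGroup.mk' N)) := e.symm.toEquiv.nontrivial
  have hne : A.map (QuotientGroup.mk' N) ≠ ⊥ := by
    intro h
    rw [Subgroup.map_eq_bot_iff, QuotientGroup.ker_mk'] at h
    exact hNA.ne (le_antisymm hNA.le h)
  have hmin : ∀ Y : Subgroup (X ⧸ N), Y.Normal → Y ≤ A.map (QuotientGroup.mk' N) →
      Y = ⊥ ∨ Y = A.map (QuotientGroup.mk' N) := by
    intro Y hY hYA
    have hle : Y.comap (QuotientGroup.mk' N) ≤ A := by
      refine (Subgroup.comap_mono hYA).trans ?_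
      rw [Subgroup.comap_map_eq, QuotientGroup.ker_mk', sup_le_iff]
      exact ⟨le_rfl, hNA.le⟩
    have hNY : N ≤ Y.comap (QuotientGroup.mk' N) := fun n hn => by
      rw [Subgroup.mem_comap, show QuotientGroup.mk' N n = 1 from (QuotientGroup.eq_one_iff n).mpr hn]
      exact one_mem _
    rcases eq_or_lt_of_le hle with h | h
    · right
      rw [← h, Subgroup.map_comap_eq_self_of_surjective hfs]
    · left
      have h' := hmax _ (hY.comap _) hNY h
      rw [← Subgroup.map_comap_eq_self_of_surjective hfs Y, h', Subgroup.map_eq_bot_iff, QuotientGroup.ker_mk']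
  obtain ⟨hc, h2⟩ := minimal_central (hQp.map _) (A.map (QuotientGroup.mk' N)) (Subgroup.map_mono hAQ) hne hmin
  exact ⟨IsSimpleGroup.isSimpleGroup_of_surjective e.toMonoidHom e.surjective,
    by rw [← Nat.card_congr e.toEquiv, hcard], hne, hmin, hc, h2⟩

theorem card_ge_eight [Q.Normal] [IsSimpleGroup (X ⧸ Q)] (hcard : Nat.card (X ⧸ Q) = 168)
    (hQQ : ∀ p ∈ Q, ∀ q ∈ Q, p * q * p⁻¹ * q⁻¹ ∈ (⊥ : Subgroup X))
    (hne : ∃ x : X, ∃ q ∈ Q, x * q * x⁻¹ * q⁻¹ ∉ (⊥ : Subgroup X)) : 4 < Nat.card Q := by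
  classical
  by_contra hle
  push Not at hle
  let f : X ⧸ Q → ({q : Q // q ≠ 1} → Q) := fun v q => MulAut.conjNormal v.out q.1
  have hf : Function.Injective f := by
    intro v w h
    rw [← QuotientGroup.out_eq' v, ← QuotientGroup.out_eq' w, QuotientGroup.eq]
    refine ker_act ⊥ hQQ hne _ fun q hq => Subgroup.mem_bot.mpr ?_
    by_cases hq1 : q = 1
    · subst hq1; group
    have h1 := congrArg Subtype.val (congrFun h ⟨⟨q, hq⟩, fun e => hq1 (congrArg Subtype.val e)⟩)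
    simp only [f, MulAut.conjNormal_apply] at h1
    calc v.out⁻¹ * w.out * q * (v.out⁻¹ * w.out)⁻¹ * q⁻¹ = v.out⁻¹ * (w.out * q * w.out⁻¹) * v.out * q⁻¹ := by group
      _ = 1 := by rw [← h1]; group
  have h := Nat.card_le_card_of_injective f hf
  rw [hcard, Nat.card_fun] at h
  have hc3 : Nat.card {q : Q // q ≠ 1} ≤ 3 := by
    haveI := Fintype.ofFinite Q
    rw [Nat.card_eq_fintype_card, Fintype.card_subtype_compl, Fintype.card_subtype_eq, ← Nat.card_eq_fintype_card]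
    omega
  have : Nat.card Q ^ Nat.card {q : Q // q ≠ 1} ≤ 4 ^ 3 :=
    (Nat.pow_le_pow_left hle _).trans (Nat.pow_le_pow_right (by norm_num) hc3)
  omega

theorem iso_four_eight (hc : ∀ p ∈ Q, ∀ q ∈ Q, p * q = q * p) (hQ32 : Nat.card Q = 32)
    (E : Subgroup X) (hEQ : E ≤ Q) (hE16 : Nat.card E = 16) (hE2 : ∀ p ∈ E, p * p = 1)
    (x0 : X) (hx0 : x0 ∈ Q) (hx2 : x0 * x0 ≠ 1) (hxE : x0 * x0 ∈ E) :
    Nonempty (↥Q ≃* Multiplicative (ZMod 4) × (Fin 3 → Multiplicative (ZMod 2))) := by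
  classical
  obtain ⟨m, hm⟩ : ∃ m, m = x0 * x0 := ⟨_, rfl⟩
  rw [← hm] at hx2 hxE
  have hm2 : m * m = 1 := hE2 m hxE
  -- a complement of `m` in `E`
  haveI : Nonempty {Y : Subgroup X // Y ≤ E ∧ m ∉ Y} := ⟨⟨⊥, bot_le, fun h => hx2 (Subgroup.mem_bot.mp h)⟩⟩
  obtain ⟨⟨Y, hYE, hmY⟩, hmax⟩ :=
    Finite.exists_max (fun Y : {Y : Subgroup X // Y ≤ E ∧ m ∉ Y} => Nat.card Y.1)
  have hcE : ∀ p ∈ E, ∀ q ∈ E, p * q = q * p := fun p hp q hq => hc p (hEQ hp) q (hEQ hq)
  have hYcov : ∀ p ∈ E, p ∈ Y ∨ m * p ∈ Y := by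
    intro p hp
    by_contra hno
    push Not at hno
    let Y' : Subgroup X :=
      { carrier := {a | a ∈ E ∧ (a ∈ Y ∨ p * a ∈ Y)}
        one_mem' := ⟨one_mem _, Or.inl (one_mem _)⟩
        mul_mem' := by
          rintro a b ⟨ha, ha'⟩ ⟨hb, hb'⟩
          refine ⟨mul_mem ha hb, ?_⟩
          rcases ha' with ha' | ha' <;> rcases hb' with hb' | hb'
          · exact Or.inl (mul_mem ha' hb')
          · right; rw [← mul_assoc, hcE p hp a ha, mul_assoc]; exact mul_mem ha' hb'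
          · right; rw [← mul_assoc]; exact mul_mem ha' hb'
          · left
            have h := mul_mem ha' hb'
            rwa [show p * a * (p * b) = p * (a * p) * b by group, ← hcE p hp a ha,
              show p * (p * a) * b = p * p * (a * b) by group, hE2 p hp, one_mul] at h
        inv_mem' := by
          rintro a ⟨ha, ha'⟩
          rw [inv_eq_of_mul_eq_one_right (hE2 a ha)]
          exact ⟨ha, ha'⟩ }
    have hmY' : m ∉ Y' := by
      rintro ⟨-, h | h⟩
      · exact hmY h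
      · exact hno.2 (by rwa [hcE p hp m hxE] at h)
    have hle := hmax ⟨Y', fun a ha => ha.1, hmY'⟩
    have hYY' : Y ≤ Y' := fun a ha => ⟨hYE ha, Or.inl ha⟩
    have heq := Subgroup.eq_of_le_of_card_ge hYY' hle
    exact hno.1 (heq.ge ⟨hp, Or.inr (by rw [hE2 p hp]; exact one_mem _)⟩)
  have hY8 : Nat.card Y = 8 := by
    have h : Nat.card (Y ⊕ Y) = Nat.card E := by
      refine Nat.card_congr (Equiv.ofBijective (Sum.elim (fun y : Y => (⟨y, hYE y.2⟩ : E))
        (fun y : Y => (⟨m * y, mul_mem hxE (hYE y.2)⟩ : E))) ⟨?_, ?_⟩)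
      · rintro (a | a) (b | b) h <;> simp only [Sum.elim_inl, Sum.elim_inr, Subtype.mk.injEq] at h
        · exact congrArg _ (Subtype.ext h)
        · exact absurd (by rw [eq_mul_inv_of_mul_eq h.symm]; exact mul_mem a.2 (inv_mem b.2)) hmY
        · exact absurd (by rw [eq_mul_inv_of_mul_eq h]; exact mul_mem b.2 (inv_mem a.2)) hmY
        · exact congrArg _ (Subtype.ext (mul_left_cancel h))
      · rintro ⟨p, hp⟩
        rcases hYcov p hp with h | h
        · exact ⟨Sum.inl ⟨p, h⟩, rfl⟩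
        · exact ⟨Sum.inr ⟨_, h⟩, Subtype.ext (show m * (m * p) = p by rw [← mul_assoc, hm2, one_mul])⟩
    rw [Nat.card_sum, hE16] at h
    omega
  letI : CommGroup Y := { (inferInstance : Group Y) with mul_comm := fun a b => Subtype.ext (hcE a (hYE a.2) b (hYE b.2)) }
  obtain ⟨e, -, he, hadd, -, -, -⟩ := exists_basis (W := Y) (fun w => Subtype.ext (hE2 _ (hYE w.2))) hY8
  let eY : Y ≃* (Fin 3 → Multiplicative (ZMod 2)) :=
    { toFun := fun y i => Multiplicative.ofAdd (e y i)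
      invFun := fun v => (Equiv.ofBijective e he).symm (fun i => (v i).toAdd)
      left_inv := fun y => (Equiv.ofBijective e he).symm_apply_apply y
      right_inv := fun v => funext fun i => by
        show Multiplicative.ofAdd (e ((Equiv.ofBijective e he).symm _) i) = v i
        rw [show e ((Equiv.ofBijective e he).symm (fun i => (v i).toAdd)) = fun i => (v i).toAdd from
          (Equiv.ofBijective e he).apply_symm_apply _]
        rfl
      map_mul' := fun a b => funext fun i => by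
        show Multiplicative.ofAdd (e (a * b) i) = _
        rw [hadd]; rfl }
  obtain ⟨z, hz⟩ : ∃ z : Q, z = ⟨x0, hx0⟩ := ⟨_, rfl⟩
  have hz4 : z ^ 4 = 1 := by
    rw [hz]; refine Subtype.ext ?_
    show x0 ^ 4 = 1
    rw [show x0 ^ 4 = m * m by rw [hm]; simp [pow_succ, mul_assoc], hm2]
  letI : CommGroup Q := { (inferInstance : Group Q) with mul_comm := fun a b => Subtype.ext (hc a a.2 b b.2) }
  let φ : Multiplicative (ZMod 4) × (Fin 3 → Multiplicative (ZMod 2)) →* Q :=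
    MonoidHom.mk' (fun t => z ^ t.1.toAdd.val * ⟨(eY.symm t.2 : Y), hEQ (hYE (eY.symm t.2).2)⟩) (fun a b => by
      have e1 : z ^ (a.1 * b.1).toAdd.val = z ^ a.1.toAdd.val * z ^ b.1.toAdd.val := by
        rw [toAdd_mul, ZMod.val_add, ← pow_add]
        conv_rhs => rw [← Nat.div_add_mod (a.1.toAdd.val + b.1.toAdd.val) 4, pow_add, pow_mul, hz4, one_pow, one_mul]
      have e2 : (⟨(eY.symm (a.2 * b.2) : Y), hEQ (hYE (eY.symm (a.2 * b.2)).2)⟩ : Q) =
          ⟨(eY.symm a.2 : Y), hEQ (hYE (eY.symm a.2).2)⟩ * ⟨(eY.symm b.2 : Y), hEQ (hYE (eY.symm b.2).2)⟩ :=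
        Subtype.ext (by rw [Subgroup.coe_mul, map_mul]; rfl)
      show z ^ (a.1 * b.1).toAdd.val * _ = _
      rw [Prod.snd_mul, e1, e2]
      exact mul_mul_mul_comm _ _ _ _)
  have hinj : Function.Injective φ := by
    rw [injective_iff_map_eq_one]
    rintro ⟨k, v⟩ h
    have h' : x0 ^ k.toAdd.val * ((eY.symm v : Y) : X) = 1 := by
      have := congrArg Subtype.val h
      simpa [φ, hz] using this
    have hpow : x0 ^ k.toAdd.val ∈ Y := by
      rw [eq_inv_of_mul_eq_one_left h']; exact inv_mem (eY.symm v).2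
    have hk : k.toAdd = 0 := by
      have hx0E : x0 ∉ E := fun he => hx2 (hm.trans (hE2 x0 he))
      rcases (show ∀ t : ZMod 4, t = 0 ∨ t = 1 ∨ t = 2 ∨ t = 3 by decide) k.toAdd with hv | hv | hv | hv
      · exact hv
      · rw [hv, show (1 : ZMod 4).val = 1 from rfl, pow_one] at hpow
        exact absurd (hYE hpow) hx0E
      · rw [hv, show (2 : ZMod 4).val = 2 from rfl, pow_two, ← hm] at hpow
        exact absurd hpow hmY
      · rw [hv, show (3 : ZMod 4).val = 3 from rfl, pow_succ, pow_two, ← hm] at hpow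
        refine absurd ?_ hx0E
        have := mul_mem (inv_mem hxE) (hYE hpow)
        rwa [inv_mul_cancel_left] at this
    rw [hk, ZMod.val_zero, pow_zero, one_mul] at h'
    refine Prod.ext (Multiplicative.toAdd.injective hk) ?_
    exact eY.symm.injective ((Subtype.ext h' : eY.symm v = 1).trans (map_one eY.symm).symm)
  have hbij := (Nat.bijective_iff_injective_and_card φ).mpr ⟨hinj, by simp [hQ32]⟩
  exact ⟨(MulEquiv.ofBijective φ hbij).symm⟩

/-- the three possibilities for the radical -/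
theorem radical_shape (h4 : Cfsg.SectionalPRankLE 2 4 X) [Q.Normal] [IsSimpleGroup (X ⧸ Q)]
    (hcard : Nat.card (X ⧸ Q) = 168) (hQp : IsPGroup 2 Q) (P : Subgroup X) [hPn : P.Normal] (hPQ : P ≤ Q)
    (hsq : ∀ q ∈ Q, q * q ∈ P) (hgen : P ≤ Subgroup.closure {m | ∃ q ∈ Q, q * q = m})
    (hne : ∃ x : X, ∃ q ∈ Q, x * q * x⁻¹ * q⁻¹ ∉ P) :
    (((∀ p ∈ Q, ∀ q ∈ Q, p * q = q * p) ∧ ∀ p ∈ Q, p * p = 1) ∧ (Nat.card Q = 8 ∨ Nat.card Q = 16)) ∨
      Nonempty (↥Q ≃* Multiplicative (ZMod 4) × (Fin 3 → Multiplicative (ZMod 2))) := by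
  classical
  haveI := Fact.mk Nat.prime_two
  by_cases hP : P = ⊥
  · left
    subst hP
    have h2 : ∀ p ∈ Q, p * p = 1 := fun p hp => Subgroup.mem_bot.mp (hsq p hp)
    have hc : ∀ p ∈ Q, ∀ q ∈ Q, p * q = q * p := fun p hp q hq =>
      congrArg Subtype.val (sq_comm (G := Q) (fun a => Subtype.ext (h2 a a.2)) ⟨p, hp⟩ ⟨q, hq⟩)
    refine ⟨⟨hc, h2⟩, ?_⟩
    have h16 := card_le_of_invol h4 Q h2
    have h5 := card_ge_eight hcard (fun p hp q hq => Subgroup.mem_bot.mpr (by rw [hc p hp q hq]; group)) hne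
    obtain ⟨k, hk⟩ := hQp.exists_card_eq
    rw [hk] at h16 h5 ⊢
    have hk4 : k ≤ 4 := (Nat.pow_le_pow_iff_right (a := 2) (by norm_num)).mp h16
    interval_cases k <;> first | (norm_num at h5; done) | norm_num
  right
  obtain ⟨N, hN, hNP, hNmax⟩ := exists_maximal_below P hP
  obtain ⟨hs, hc1, hM1, hmin, hMc, hM2⟩ := quotient_step hcard hQp P N hNP hPQ hNmax
  haveI : (Q.map (QuotientGroup.mk' N)).Normal := ‹Q.Normal›.map _ (QuotientGroup.mk'_surjective N)
  haveI : (P.map (QuotientGroup.mk' N)).Normal := hPn.map _ (QuotientGroup.mk'_surjective N)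
  haveI := hs
  have hfmem : ∀ {A : Subgroup X} {a : X}, N ≤ A → QuotientGroup.mk' N a ∈ A.map (QuotientGroup.mk' N) → a ∈ A := by
    rintro A a hA ⟨b, hb, he⟩
    have := mul_mem hb (hA (QuotientGroup.eq.mp he))
    rwa [mul_inv_cancel_left] at this
  obtain ⟨hMcard, hQcard, hQc, E, hEn, hME, hEQ, hE16, hE2⟩ :=
    layer_one (Q := Q.map (QuotientGroup.mk' N))
      (FGS82.Meta2.rank_of_surjective h4 (QuotientGroup.mk' N) (QuotientGroup.mk'_surjective N)) hc1
      (hQp.map _) (P.map (QuotientGroup.mk' N)) (Subgroup.map_mono hPQ) hM1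
      (by rintro _ ⟨q, hq, rfl⟩; rw [← map_mul]; exact Subgroup.mem_map_of_mem _ (hsq q hq))
      hM2 hMc
      (by
        refine (Subgroup.map_mono hgen).trans ?_
        rw [MonoidHom.map_closure]
        refine Subgroup.closure_mono ?_
        rintro _ ⟨m, ⟨q, hq, rfl⟩, rfl⟩
        exact ⟨_, Subgroup.mem_map_of_mem _ hq, (map_mul _ q q).symm⟩)
      hmin
      (by
        obtain ⟨x, q, hq, hxq⟩ := hne
        refine ⟨QuotientGroup.mk' N x, QuotientGroup.mk' N q, Subgroup.mem_map_of_mem _ hq, fun h => hxq ?_⟩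
        exact hfmem hNP.le (by simpa only [map_mul, map_inv] using h))
  by_cases hN1 : N = ⊥
  · -- one layer
    subst hN1
    have hinj : Function.Injective (QuotientGroup.mk' (⊥ : Subgroup X)) := by
      rw [← MonoidHom.ker_eq_bot_iff, QuotientGroup.ker_mk']
    have hq32 : Nat.card Q = 32 := by
      rw [← hQcard]; exact (Subgroup.card_map_of_injective hinj).symm
    have hc : ∀ p ∈ Q, ∀ q ∈ Q, p * q = q * p := fun p hp q hq => hinj (by
      rw [map_mul, map_mul]; exact hQc _ (Subgroup.mem_map_of_mem _ hp) _ (Subgroup.mem_map_of_mem _ hq))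
    obtain ⟨x0, hx0, hx2⟩ : ∃ x0 ∈ Q, x0 * x0 ≠ 1 := by
      by_contra h
      push Not at h
      refine hP (le_bot_iff.mp (hgen.trans ((Subgroup.closure_le _).mpr ?_)))
      rintro _ ⟨q, hq, rfl⟩
      exact h q hq
    refine iso_four_eight hc hq32 (E.comap (QuotientGroup.mk' (⊥ : Subgroup X)))
      (fun a ha => hfmem bot_le (hEQ ha)) ?_ (fun a ha => hinj (by rw [map_mul, map_one]; exact hE2 _ ha)) x0 hx0 hx2
      (hME (Subgroup.mem_map_of_mem _ (hsq x0 hx0)))
    rw [← hE16]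
    refine (Subgroup.card_map_of_injective hinj).symm.trans ?_
    rw [Subgroup.map_comap_eq_self_of_surjective (QuotientGroup.mk'_surjective _)]
  exfalso
  obtain ⟨K, hK, hKN, hKmax⟩ := exists_maximal_below N hN1
  have hNQ : N ≤ Q := hNP.le.trans hPQ
  obtain ⟨hs2, hc2, hM1', hmin', hMc', hM2'⟩ := quotient_step hcard hQp N K hKN hNQ hKmax
  have hE0le : E.comap (QuotientGroup.mk' N) ≤ Q := fun a ha => hfmem hNQ (hEQ ha)
  have hPE0 : P ≤ E.comap (QuotientGroup.mk' N) := fun a ha => hME (Subgroup.mem_map_of_mem _ ha)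
  have cN := Nat.card_pos (α := N)
  have e1' := card_map_mk N P hNP.le
  have e2' := card_map_mk N Q hNQ
  have e3' := card_map_mk N (E.comap (QuotientGroup.mk' N)) (hNP.le.trans hPE0)
  rw [hMcard] at e1'
  rw [hQcard] at e2'
  rw [Subgroup.map_comap_eq_self_of_surjective (QuotientGroup.mk'_surjective N), hE16] at e3'
  have hKP : K ≤ P := hKN.le.trans hNP.le
  have f1 := card_map_mk K N hKN.le
  have f2 := card_map_mk K P hKP
  have f3 := card_map_mk K (E.comap (QuotientGroup.mk' N)) (hKP.trans hPE0)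
  have f4 := card_map_mk K Q (hKP.trans hPQ)
  have cK := Nat.card_pos (α := K)
  haveI : (Q.map (QuotientGroup.mk' K)).Normal := ‹Q.Normal›.map _ (QuotientGroup.mk'_surjective K)
  haveI : (N.map (QuotientGroup.mk' K)).Normal := hN.map _ (QuotientGroup.mk'_surjective K)
  haveI : (P.map (QuotientGroup.mk' K)).Normal := hPn.map _ (QuotientGroup.mk'_surjective K)
  haveI : ((E.comap (QuotientGroup.mk' N)).map (QuotientGroup.mk' K)).Normal :=
    (hEn.comap _).map _ (QuotientGroup.mk'_surjective K)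
  haveI := hs2
  refine layer_two (Q := Q.map (QuotientGroup.mk' K))
    (FGS82.Meta2.rank_of_surjective h4 (QuotientGroup.mk' K) (QuotientGroup.mk'_surjective K)) hc2 (hQp.map _)
    (N.map (QuotientGroup.mk' K)) (P.map (QuotientGroup.mk' K)) ((E.comap (QuotientGroup.mk' N)).map (QuotientGroup.mk' K))
    (Subgroup.map_mono hNP.le) (Subgroup.map_mono hPE0) (Subgroup.map_mono hE0le) hM1' hM2' hMc' hmin' ?_ ?_ ?_
    (by rintro _ ⟨q, hq, rfl⟩; rw [← map_mul]; exact Subgroup.mem_map_of_mem _ (hsq q hq))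
    (by
      refine (Subgroup.map_mono hgen).trans ?_
      rw [MonoidHom.map_closure]
      refine Subgroup.closure_mono ?_
      rintro _ ⟨m, ⟨q, hq, rfl⟩, rfl⟩
      exact ⟨_, Subgroup.mem_map_of_mem _ hq, (map_mul _ q q).symm⟩)
    ?_ ?_ ?_
  · refine Nat.eq_of_mul_eq_mul_right cK ?_
    rw [f2, mul_assoc, f1, ← e1']
  · refine Nat.eq_of_mul_eq_mul_right cK ?_
    rw [f3, mul_assoc, f2, ← e3', ← e1']; ring
  · refine Nat.eq_of_mul_eq_mul_right cK ?_
    rw [f4, mul_assoc, f3, ← e2', ← e3']; ring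
  · rintro _ ⟨p, hp, rfl⟩
    rw [← map_mul]
    refine Subgroup.mem_map_of_mem _ ((QuotientGroup.eq_one_iff _).mp ?_)
    show QuotientGroup.mk' N (p * p) = 1
    rw [map_mul]; exact hE2 _ hp
  · rintro _ ⟨p, hp, rfl⟩ _ ⟨q, hq, rfl⟩
    simp only [← map_mul, ← map_inv]
    refine Subgroup.mem_map_of_mem _ ((QuotientGroup.eq_one_iff _).mp ?_)
    show QuotientGroup.mk' N (p * q * p⁻¹ * q⁻¹) = 1
    simp only [map_mul, map_inv]
    rw [hQc _ (Subgroup.mem_map_of_mem _ hp) _ (Subgroup.mem_map_of_mem _ hq)]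
    group
  · obtain ⟨x, q, hq, hxq⟩ := hne
    refine ⟨QuotientGroup.mk' K x, QuotientGroup.mk' K q, Subgroup.mem_map_of_mem _ hq, fun h => hxq ?_⟩
    simp only [← map_mul, ← map_inv] at h
    obtain ⟨b, hb, he⟩ := h
    have := mul_mem hb (hKP (QuotientGroup.eq.mp he))
    rwa [mul_inv_cancel_left] at this

theorem result_shape (hc : Cfsg.IsPConstrained 2 X) (hO : Cfsg.oddCore X = ⊥)
    (h4 : Cfsg.SectionalPRankLE 2 4 X) {F : Type*} [Field F] [Fintype F] (hF : Fintype.card F = 2)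
    (hQ : Nonempty (X ⧸ Cfsg.pCore 2 X ≃* Matrix.ProjectiveSpecialLinearGroup (Fin 3) F)) :
    (Cfsg.IsElementaryAbelian 2 (Cfsg.pCore 2 X) ∧ (Nat.card ↥(Cfsg.pCore 2 X) = 8 ∨ Nat.card ↥(Cfsg.pCore 2 X) = 16)) ∨
      Nonempty (↥(Cfsg.pCore 2 X) ≃* Multiplicative (ZMod 4) × (Fin 3 → Multiplicative (ZMod 2))) := by
  classical
  haveI := Fact.mk Nat.prime_two
  have hC := S3103.constrained_centralizer hc hO
  obtain ⟨e⟩ := hQ
  obtain ⟨hs, hcard⟩ := big_of_iso hF e
  haveI := hs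
  have hQp : IsPGroup 2 ↥(Cfsg.pCore 2 X) := Thompson.isPGroup_pCore
  let P : Subgroup X := Subgroup.closure {m | ∃ q ∈ Cfsg.pCore 2 X, q * q = m}
  haveI : P.Normal := ⟨fun p hp g => by
    have hle : P ≤ P.comap (MulAut.conj g).toMonoidHom := by
      rw [Subgroup.closure_le]
      rintro _ ⟨q, hq, rfl⟩
      refine Subgroup.subset_closure ⟨g * q * g⁻¹, (inferInstance : (Cfsg.pCore 2 X).Normal).conj_mem q hq g, ?_⟩
      simp only [MulEquiv.coe_toMonoidHom, MulAut.conj_apply]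
      group
    simpa using hle hp⟩
  have hPQ : P ≤ Cfsg.pCore 2 X := (Subgroup.closure_le _).mpr (by rintro _ ⟨q, hq, rfl⟩; exact mul_mem hq hq)
  have hPfr : P ≤ (frattini ↥(Cfsg.pCore 2 X)).map (Cfsg.pCore 2 X).subtype := by
    rw [Subgroup.closure_le]
    rintro _ ⟨q, hq, rfl⟩
    refine ⟨⟨q, hq⟩ * ⟨q, hq⟩, ?_, rfl⟩
    rw [← pow_two]
    exact PGroup.pow_mem_frattini hQp _
  have hne : ∃ x : X, ∃ q ∈ Cfsg.pCore 2 X, x * q * x⁻¹ * q⁻¹ ∉ P := by
    by_contra h
    push Not at h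
    have htop : ∀ x : X, x ∈ Cfsg.pCore 2 X := fun x =>
      Class49.mem_pCore_of_frattini_trivial hC fun q hq => hPfr (h x q hq)
    have h1 : Nat.card (X ⧸ Cfsg.pCore 2 X) = 1 := by
      rw [← Subgroup.index_eq_card, Subgroup.index_eq_one, eq_top_iff]
      exact fun x _ => htop x
    omega
  rcases radical_shape h4 hcard hQp P hPQ (fun q hq => Subgroup.subset_closure ⟨q, hq, rfl⟩) le_rfl hne with
    ⟨⟨hcomm, h2⟩, h8⟩ | h
  · exact Or.inl ⟨⟨⟨⟨fun a b => Subtype.ext (hcomm a a.2 b b.2)⟩⟩, fun a ha => by rw [pow_two]; exact h2 a ha⟩, h8⟩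
  · exact Or.inr h

end Cfsg.Agent.Sec62
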