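import Cfsg.Agent.Sec62.Frame

/-!
Central extensions with quotient the simple group of order 168.
-/

set_option autoImplicit false
set_option linter.style.haveILetI false

namespace Cfsg.Agent.Sec62

variable {X : Type*} [Group X] {Q : Subgroup X}

theorem conj_sq_sq (g σ : X) : g * (σ * σ) * g⁻¹ * (g * (σ * σ) * g⁻¹) = g * σ ^ 4 * g⁻¹ := by
  simp only [pow_succ, pow_zero, one_mul]
  group

theorem Frame.card_quot [Finite X] (F : Frame Q) [Q.Normal] : Nat.card (X ⧸ Q) = 168 := by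
  rw [← card_det_one]
  have hP : ∀ x, det3 (F.π x) = 1 := fun x => by rw [det3_eq, F.det_pi]
  let g : X ⧸ Q → {M : M3 // det3 M = 1} := fun v => ⟨F.π v.out, hP _⟩
  refine Nat.card_congr (Equiv.ofBijective g ⟨fun u v h => ?_, fun M => ?_⟩)
  · rw [← QuotientGroup.out_eq' u, ← QuotientGroup.out_eq' v, QuotientGroup.eq]
    exact F.congr_Q (congrArg Subtype.val h).symm
  · obtain ⟨x, hx⟩ := F.surj' M.1 M.2
    refine ⟨(x : X ⧸ Q), Subtype.ext ?_⟩
    obtain ⟨q, hq⟩ := QuotientGroup.mk_out_eq_mul Q x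
    show F.π (x : X ⧸ Q).out = M.1
    rw [hq, map_mul, (F.ker _).mpr q.2, mul_one, hx]

/-- elements over the inverting reflection and its product with `mJ` -/
theorem Frame.exists_reflections (F : Frame Q) {σ : X} (hσ : F.π σ = mJ) :
    ∃ g ∈ commutator X, ∃ h ∈ commutator X, F.π (g * (σ * σ) * g⁻¹) = mY ∧
      (h * (σ * σ) * h⁻¹)⁻¹ * (g * (σ * σ) * g⁻¹ * σ) ∈ Q := by
  obtain ⟨g, hg, hgπ⟩ := F.exists_comm G1_comm
  obtain ⟨h, hh, hhπ⟩ := F.exists_comm G2_comm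
  have inv_of : ∀ {x : X} {M : M3}, F.π x = M → M * M = 1 → F.π x⁻¹ = M := fun {x M} hx hM =>
    left_inv_eq_right_inv (a := F.π x) (by rw [← map_mul, inv_mul_cancel, map_one]) (by rw [hx]; exact hM)
  have hy : F.π (g * (σ * σ) * g⁻¹) = mY := by
    simp only [map_mul, inv_of hgπ G1_conj.1, hgπ, hσ]
    exact G1_conj.2
  refine ⟨g, hg, h, hh, hy, F.congr_Q ?_⟩
  rw [map_mul, hy, hσ]
  simp only [map_mul, inv_of hhπ G2_conj.1, hhπ, hσ]
  exact G2_conj.2.symm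

/-- a cyclic central extension of order dividing 8 does not see a fourth power -/
theorem sigma_four_sq (F : Frame Q) (R : Subgroup X) [R.Normal] [hQn : Q.Normal] (_hRQ : R ≤ Q) (x₀ : X)
    (hx₀ : x₀ ∈ Q) (hcyc : ∀ q ∈ Q, ∃ n : ℕ, (x₀ ^ n)⁻¹ * q ∈ R) (hexp : ∀ q ∈ Q, q ^ 8 ∈ R)
    (σ : X) (hσ : F.π σ = mJ) : (σ ^ 4) * (σ ^ 4) ∈ R := by
  obtain ⟨f, hfdef⟩ : ∃ f : X →* X ⧸ R, f = QuotientGroup.mk' R := ⟨_, rfl⟩
  have hf : ∀ x, f x = 1 ↔ x ∈ R := fun x => by rw [hfdef]; exact QuotientGroup.eq_one_iff x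
  have hgenQ : ∀ q ∈ Q, ∃ n : ℕ, f q = f x₀ ^ n := fun q hq => by
    obtain ⟨n, hn⟩ := hcyc q hq
    refine ⟨n, ?_⟩
    rw [← map_pow, ← mul_inv_eq_one, ← map_inv, ← map_mul, hf]
    have := (‹R.Normal›.conj_mem _ hn (x₀ ^ n))
    rwa [show x₀ ^ n * ((x₀ ^ n)⁻¹ * q) * (x₀ ^ n)⁻¹ = q * (x₀ ^ n)⁻¹ by group] at this
  -- commutators centralise the cyclic section
  have hpow : ∀ a : X, ∃ n : ℕ, ∀ m : ℕ, f a * f x₀ ^ m * (f a)⁻¹ = f x₀ ^ (n * m) := fun a => by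
    obtain ⟨n, hn⟩ := hgenQ _ (hQn.conj_mem x₀ hx₀ a)
    refine ⟨n, fun m => ?_⟩
    rw [← conj_pow, pow_mul]
    congr 1
    rw [← hn, map_mul, map_mul, map_inv]
  have hcomm : ∀ g ∈ commutator X, f g * f x₀ = f x₀ * f g := by
    intro g hg
    have hle : commutator X ≤ (Subgroup.centralizer ({f x₀} : Set (X ⧸ R))).comap f := by
      rw [commutator_def, Subgroup.commutator_le]
      intro a _ b _
      rw [Subgroup.mem_comap, Subgroup.mem_centralizer_singleton_iff, commutatorElement_def]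
      obtain ⟨n, hn⟩ := hpow a
      obtain ⟨m, hm⟩ := hpow b
      have hab : f a * f b * f x₀ * (f a * f b)⁻¹ = f b * f a * f x₀ * (f b * f a)⁻¹ := by
        calc f a * f b * f x₀ * (f a * f b)⁻¹ = f a * (f b * f x₀ ^ 1 * (f b)⁻¹) * (f a)⁻¹ := by rw [pow_one]; group
          _ = f x₀ ^ (n * (m * 1)) := by rw [hm, hn]
          _ = f x₀ ^ (m * (n * 1)) := by rw [mul_one, mul_one, mul_comm n m]
          _ = f b * (f a * f x₀ ^ 1 * (f a)⁻¹) * (f b)⁻¹ := by rw [hn, hm]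
          _ = f b * f a * f x₀ * (f b * f a)⁻¹ := by rw [pow_one]; group
      simp only [map_mul, map_inv]
      calc f a * f b * (f a)⁻¹ * (f b)⁻¹ * f x₀
          = f a * f b * (f b * f a)⁻¹ * f x₀ * (f b * f a) * (f b * f a)⁻¹ := by group
        _ = (f a * f b) * ((f b * f a)⁻¹ * f x₀ * (f b * f a)) * (f a * f b)⁻¹ * ((f a * f b) * (f b * f a)⁻¹) := by group
        _ = (f b * f a) * ((f b * f a)⁻¹ * f x₀ * (f b * f a)) * (f b * f a)⁻¹ * ((f a * f b) * (f b * f a)⁻¹) := by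
            have key : ∀ y, (∃ k : ℕ, y = f x₀ ^ k) →
                f a * f b * y * (f a * f b)⁻¹ = f b * f a * y * (f b * f a)⁻¹ := by
              rintro y ⟨k, rfl⟩
              rw [← conj_pow, ← conj_pow, hab]
            rw [key _ ?_]
            obtain ⟨k, hk⟩ := hgenQ _ (hQn.conj_mem x₀ hx₀ (b * a)⁻¹)
            exact ⟨k, by rw [← hk]; simp only [map_mul, map_inv, inv_inv]⟩
        _ = f x₀ * (f a * f b * (f a)⁻¹ * (f b)⁻¹) := by group
    exact Subgroup.mem_centralizer_singleton_iff.mp (hle hg)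
  have hcQ : ∀ g ∈ commutator X, ∀ q ∈ Q, f g * f q = f q * f g := fun g hg q hq => by
    obtain ⟨n, hn⟩ := hgenQ q hq
    rw [hn]
    exact (Commute.pow_right (hcomm g hg) n)
  have hQQ : ∀ p ∈ Q, ∀ q ∈ Q, f p * f q = f q * f p := fun p hp q hq => by
    obtain ⟨n, hn⟩ := hgenQ p hp
    obtain ⟨m, hm⟩ := hgenQ q hq
    rw [hn, hm, ← pow_add, ← pow_add, add_comm]
  obtain ⟨d, hd, hdπ⟩ := F.exists_comm J_comm
  have hk : d⁻¹ * σ ∈ Q := F.congr_Q (hσ.trans hdπ.symm)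
  have hcσ : ∀ q ∈ Q, f σ * f q = f q * f σ := fun q hq => by
    rw [show σ = d * (d⁻¹ * σ) by group, map_mul, mul_assoc, hQQ _ hk q hq, ← mul_assoc, hcQ d hd q hq, mul_assoc]
  obtain ⟨g, hg, h, hh, hy, hk'⟩ := F.exists_reflections hσ
  obtain ⟨k', hk'def⟩ : ∃ k', k' = (h * (σ * σ) * h⁻¹)⁻¹ * (g * (σ * σ) * g⁻¹ * σ) := ⟨_, rfl⟩
  rw [← hk'def] at hk'
  obtain ⟨ζ, hζ⟩ : ∃ ζ, ζ = f (σ ^ 4) := ⟨_, rfl⟩
  obtain ⟨y, hydef⟩ : ∃ y, y = f (g * (σ * σ) * g⁻¹) := ⟨_, rfl⟩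
  have hσ4Q : σ ^ 4 ∈ Q := (F.ker _).mp (by rw [map_pow, hσ, pow_succ, pow_succ, pow_two]; exact J_four)
  have hys : y * f σ = f (h * (σ * σ) * h⁻¹) * f k' := by
    rw [hydef, ← map_mul, ← map_mul, hk'def, mul_inv_cancel_left]
  have sq_conj : ∀ g ∈ commutator X, f (g * (σ * σ) * g⁻¹) * f (g * (σ * σ) * g⁻¹) = ζ := by
    intro g hg
    rw [← map_mul, conj_sq_sq g σ,
      map_mul, map_mul, map_inv, hcQ g hg _ hσ4Q, hζ, mul_inv_cancel_right]
  have hy2 : y * y = ζ := by rw [hydef]; exact sq_conj g hg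
  have hcu : f (h * (σ * σ) * h⁻¹) * f k' = f k' * f (h * (σ * σ) * h⁻¹) := by
    have e1 := hcQ h hh k' hk'
    have e2 := hcσ k' hk'
    have c1 : Commute (f h) (f k') := e1
    have c2 : Commute (f σ) (f k') := e2
    simp only [map_mul, map_inv]
    exact ((c1.mul_left (c2.mul_left c2)).mul_left c1.inv_left).eq
  have hys2 : y * f σ * (y * f σ) = ζ * (f k' * f k') := by
    rw [hys, show f (h * (σ * σ) * h⁻¹) * f k' * (f (h * (σ * σ) * h⁻¹) * f k') =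
      f (h * (σ * σ) * h⁻¹) * (f k' * f (h * (σ * σ) * h⁻¹)) * f k' by group, ← hcu,
      show f (h * (σ * σ) * h⁻¹) * (f (h * (σ * σ) * h⁻¹) * f k') * f k' =
        f (h * (σ * σ) * h⁻¹) * f (h * (σ * σ) * h⁻¹) * (f k' * f k') by group, sq_conj h hh]
  have hinvert : y⁻¹ * f σ * y * f σ = f k' * f k' := by
    calc y⁻¹ * f σ * y * f σ = (y * y)⁻¹ * (y * f σ * (y * f σ)) := by group
      _ = f k' * f k' := by rw [hy2, hys2, inv_mul_cancel_left]
  -- the fourth power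
  have hcz : y * ζ = ζ * y := by rw [← hy2, mul_assoc]
  have hs1 : y⁻¹ * f σ * y = f k' * f k' * (f σ)⁻¹ := by rw [← hinvert]; group
  have c2 : Commute (f σ) (f k') := hcσ k' hk'
  have h4 : (y⁻¹ * f σ * y) ^ 4 = (f k') ^ 8 * ζ⁻¹ := by
    rw [hs1, ((c2.mul_right c2).symm.inv_right).mul_pow, inv_pow, ← map_pow f σ, ← hζ]
    congr 1
    rw [← pow_two, ← pow_mul]
  have h4' : (y⁻¹ * f σ * y) ^ 4 = ζ := by
    rw [show (y⁻¹ * f σ * y) ^ 4 = y⁻¹ * (f σ) ^ 4 * y by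
        rw [show y⁻¹ * f σ * y = y⁻¹ * f σ * y⁻¹⁻¹ by group, conj_pow, inv_inv],
      ← map_pow, ← hζ, mul_assoc, ← hcz, inv_mul_cancel_left]
  rw [← map_pow, (hf _).mpr (hexp k' hk'), one_mul] at h4
  rw [← hf, map_mul, ← hζ]
  conv_lhs => arg 1; rw [← h4', h4]
  exact inv_mul_cancel ζ

/-- splitting off a central involution -/
theorem split [Finite X] (F : Frame Q) (A : Subgroup X) [A.Normal] [hQn : Q.Normal] (hAQ : A ≤ Q)
    (h2 : Nat.card Q = 2 * Nat.card A) (hlift : ∀ σ, F.π σ = mJ → σ ^ 4 ∈ A) :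
    ∃ H : Subgroup X, A ≤ H ∧ H ⊓ Q = A ∧ ∀ M : M3, M.det = 1 → ∃ x ∈ H, F.π x = M := by
  classical
  obtain ⟨f, hfdef⟩ : ∃ f : X →* X ⧸ A, f = QuotientGroup.mk' A := ⟨_, rfl⟩
  have hf : ∀ x, f x = 1 ↔ x ∈ A := fun x => by rw [hfdef]; exact QuotientGroup.eq_one_iff x
  have hfs : Function.Surjective f := by rw [hfdef]; exact QuotientGroup.mk'_surjective A
  have hsplit2 : ∀ p ∈ Q, ∀ q ∈ Q, p ∉ A → q ∉ A → p⁻¹ * q ∈ A := by
    intro p hp q hq hpA hqA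
    have hidx : (A.subgroupOf Q).index = 2 := by
      have h := (A.subgroupOf Q).card_mul_index
      rw [Nat.card_congr (Subgroup.subgroupOfEquivOfLe hAQ).toEquiv, h2, mul_comm 2] at h
      exact Nat.eq_of_mul_eq_mul_left Nat.card_pos h
    have h := Subgroup.mul_mem_iff_of_index_two hidx (a := (⟨p, hp⟩⁻¹ : Q)) (b := ⟨q, hq⟩)
    simp only [Subgroup.mem_subgroupOf, Subgroup.coe_mul, Subgroup.coe_inv, inv_mem_iff] at h
    exact h.mpr (iff_of_false hpA hqA)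
  obtain ⟨z₀, hz₀Q, hz₀A⟩ : ∃ z₀ ∈ Q, z₀ ∉ A := by
    by_contra h
    push Not at h
    have := Nat.card_congr (Equiv.subtypeEquivRight (p := (· ∈ Q)) (q := (· ∈ A)) fun x => ⟨h x, fun hx => hAQ hx⟩)
    have hpos : 0 < Nat.card A := Nat.card_pos
    change Nat.card Q = Nat.card A at this
    omega
  obtain ⟨z, hz⟩ : ∃ z, z = f z₀ := ⟨_, rfl⟩
  have hz1 : z ≠ 1 := fun h => hz₀A ((hf _).mp (hz ▸ h))
  have hQz : ∀ q ∈ Q, f q = 1 ∨ f q = z := fun q hq => by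
    by_cases hqA : q ∈ A
    · exact Or.inl ((hf q).mpr hqA)
    · right
      rw [hz, eq_comm, ← inv_mul_eq_one, ← map_inv, ← map_mul, hf]
      exact hsplit2 z₀ hz₀Q q hq hz₀A hqA
  have hzc : ∀ g, g * z = z * g := fun g => by
    obtain ⟨x, rfl⟩ := hfs g
    rcases hQz _ (hQn.conj_mem z₀ hz₀Q x) with h | h
    · refine absurd ?_ hz1
      rw [map_mul, map_mul, map_inv, ← hz, mul_inv_eq_one] at h
      exact mul_eq_left.mp h
    · rw [map_mul, map_mul, map_inv, ← hz] at h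
      exact mul_inv_eq_iff_eq_mul.mp h
  have hz2 : z * z = 1 := by
    rw [hz, ← map_mul, hf]
    by_contra h
    have := hsplit2 z₀ hz₀Q _ (mul_mem hz₀Q hz₀Q) hz₀A h
    rw [inv_mul_cancel_left] at this
    exact hz₀A this
  obtain ⟨σ, hσ⟩ := F.surj mJ det_J
  obtain ⟨g, -, h, -, hy, hk⟩ := F.exists_reflections hσ
  obtain ⟨s, hs⟩ : ∃ s, s = f σ := ⟨_, rfl⟩
  obtain ⟨y₀, hy₀⟩ : ∃ y₀, y₀ = g * (σ * σ) * g⁻¹ := ⟨_, rfl⟩
  rw [← hy₀] at hy hk
  obtain ⟨y, hydef⟩ : ∃ y, y = f y₀ := ⟨_, rfl⟩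
  have hs4 : s ^ 4 = 1 := by rw [hs, ← map_pow]; exact (hf _).mpr (hlift σ hσ)
  have hy2 : y * y = 1 := by
    rw [hydef, ← map_mul, hf, hy₀, conj_sq_sq g σ]
    exact ‹A.Normal›.conj_mem _ (hlift σ hσ) g
  have hys : y * s * (y * s) = 1 := by
    obtain ⟨k, hk'⟩ : ∃ k, k = (h * (σ * σ) * h⁻¹)⁻¹ * (y₀ * σ) := ⟨_, rfl⟩
    rw [← hk'] at hk
    have e : y₀ * σ = h * (σ * σ) * h⁻¹ * k := by rw [hk', mul_inv_cancel_left]
    have hu : f (h * (σ * σ) * h⁻¹) * f (h * (σ * σ) * h⁻¹) = 1 := by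
      rw [← map_mul, hf, conj_sq_sq h σ]
      exact ‹A.Normal›.conj_mem _ (hlift σ hσ) h
    rw [hydef, hs, ← map_mul, e, map_mul]
    rcases hQz k hk with hk1 | hk1 <;> rw [hk1]
    · simpa using hu
    · rw [mul_assoc, ← mul_assoc z, ← hzc, mul_assoc _ z z, hz2, mul_one, hu]
  have hyinv : y⁻¹ = y := inv_eq_of_mul_eq_one_right hy2
  have hsinv : s⁻¹ = s ^ 3 := inv_eq_of_mul_eq_one_right (by rw [← pow_succ']; exact hs4)
  have hyswap : y * s = s ^ 3 * y := by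
    rw [← hsinv]
    calc y * s = (y * s)⁻¹ := (inv_eq_of_mul_eq_one_right hys).symm
      _ = s⁻¹ * y := by rw [mul_inv_rev, hyinv]
  have hswap : ∀ i : ℕ, y * s ^ i = s ^ (3 * i) * y := by
    intro i
    induction i with
    | zero => simp
    | succ i ih => rw [pow_succ, ← mul_assoc, ih, mul_assoc, hyswap, ← mul_assoc, ← pow_add, Nat.mul_succ]
  obtain ⟨S', hS'⟩ : ∃ S', S' = Subgroup.closure {s, y} := ⟨_, rfl⟩
  have hsS : s ∈ S' := hS' ▸ Subgroup.subset_closure (Or.inl rfl)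
  have hyS : y ∈ S' := hS' ▸ Subgroup.subset_closure (Or.inr rfl)
  have hmod : ∀ i : ℕ, s ^ i = s ^ (i % 4) := fun i => by
    conv_lhs => rw [← Nat.div_add_mod i 4, pow_add, pow_mul, hs4, one_pow, one_mul]
  have hmem : ∀ t ∈ S', ∃ i : Fin 4, ∃ j : Fin 2, t = s ^ (i : ℕ) * y ^ (j : ℕ) := by
    have hne : ∀ i : ℕ, ∀ j : Fin 2, ∃ i' : Fin 4, ∃ j' : Fin 2, s ^ i * y ^ (j : ℕ) = s ^ (i' : ℕ) * y ^ (j' : ℕ) :=
      fun i j => ⟨⟨i % 4, Nat.mod_lt _ (by norm_num)⟩, j, by rw [hmod i]⟩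
    intro t ht
    rw [hS'] at ht
    induction ht using Subgroup.closure_induction_left with
    | one => exact ⟨0, 0, by simp⟩
    | mul_left a ha b _ ih =>
      obtain ⟨i, j, rfl⟩ := ih
      rcases ha with ha | ha <;> rw [ha]
      · rw [← mul_assoc, ← pow_succ']; exact hne _ j
      · rw [← mul_assoc, hswap]
        fin_cases j
        · refine ⟨⟨(3 * (i : ℕ)) % 4, Nat.mod_lt _ (by norm_num)⟩, 1, ?_⟩
          rw [← hmod]; simp
        · refine ⟨⟨(3 * (i : ℕ)) % 4, Nat.mod_lt _ (by norm_num)⟩, 0, ?_⟩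
          rw [← hmod]; simp [mul_assoc, hy2]
    | inv_mul_cancel a ha b _ ih =>
      obtain ⟨i, j, rfl⟩ := ih
      rcases ha with ha | ha <;> rw [ha]
      · rw [hsinv, ← mul_assoc, ← pow_add]; exact hne _ j
      · rw [hyinv, ← mul_assoc, hswap]
        fin_cases j
        · refine ⟨⟨(3 * (i : ℕ)) % 4, Nat.mod_lt _ (by norm_num)⟩, 1, ?_⟩
          rw [← hmod]; simp
        · refine ⟨⟨(3 * (i : ℕ)) % 4, Nat.mod_lt _ (by norm_num)⟩, 0, ?_⟩
          rw [← hmod]; simp [mul_assoc, hy2]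
  have hfaith : ∀ (i : Fin 4) (j : Fin 2) (k : ℕ), s ^ (i : ℕ) * y ^ (j : ℕ) = z ^ k → i = 0 ∧ j = 0 := by
    intro i j k he
    refine dihedral_faithful i j ?_
    rw [hs, hydef, hz, ← map_pow, ← map_pow, ← map_pow, ← map_mul, ← inv_mul_eq_one, ← map_inv, ← map_mul, hf] at he
    have h1 : F.π ((σ ^ (i : ℕ) * y₀ ^ (j : ℕ))⁻¹ * z₀ ^ k) = 1 := (F.ker _).mpr (hAQ he)
    have h2 : F.π (σ ^ (i : ℕ) * y₀ ^ (j : ℕ)) = 1 := by
      refine (F.ker _).mpr ?_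
      have h3 := mul_mem (pow_mem hz₀Q k) (inv_mem ((F.ker _).mp h1))
      rwa [mul_inv_rev, inv_inv, mul_inv_cancel_left] at h3
    rw [map_mul, map_pow, map_pow, hσ, hy] at h2
    exact h2
  have hzS : z ∉ S' := fun hzS => by
    obtain ⟨i, j, hij⟩ := hmem z hzS
    obtain ⟨rfl, rfl⟩ := hfaith i j 1 (by rw [pow_one]; exact hij.symm)
    exact hz1 (by simpa using hij)
  let S : Subgroup (X ⧸ A) :=
    { carrier := {t | t ∈ S' ∨ t * z ∈ S'}
      one_mem' := Or.inl (one_mem _)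
      mul_mem' := by
        rintro a b (ha | ha) (hb | hb)
        · exact Or.inl (mul_mem ha hb)
        · exact Or.inr (by rw [mul_assoc]; exact mul_mem ha hb)
        · exact Or.inr (by rw [mul_assoc, hzc b, ← mul_assoc]; exact mul_mem ha hb)
        · left
          have := mul_mem ha hb
          rwa [mul_assoc a z, ← mul_assoc z b z, ← hzc b, mul_assoc b z z, hz2, mul_one] at this
      inv_mem' := by
        rintro a (ha | ha)
        · exact Or.inl (inv_mem ha)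
        · right
          have := inv_mem ha
          rwa [mul_inv_rev, inv_eq_of_mul_eq_one_right hz2, ← hzc a⁻¹] at this }
  have hS'S : S' ≤ S := fun t ht => Or.inl ht
  have hzmem : z ∈ S := Or.inr (by rw [hz2]; exact one_mem _)
  have hzS2 : ∀ t ∈ S, ¬ (t ∈ S' ∧ t * z ∈ S') := fun t _ h => hzS (by
    have := mul_mem (inv_mem h.1) h.2
    rwa [inv_mul_cancel_left] at this)
  have hcardS : Nat.card S = 16 := by
    let E : Fin 4 × Fin 2 × Fin 2 → S := fun t =>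
      ⟨s ^ (t.1 : ℕ) * y ^ (t.2.1 : ℕ) * z ^ (t.2.2 : ℕ),
        mul_mem (hS'S (mul_mem (pow_mem hsS _) (pow_mem hyS _))) (pow_mem hzmem _)⟩
    have hin : ∀ i : Fin 4, ∀ j : Fin 2, s ^ (i : ℕ) * y ^ (j : ℕ) ∈ S' :=
      fun i j => mul_mem (pow_mem hsS _) (pow_mem hyS _)
    have hinj' : ∀ i j i' j', s ^ ((i : Fin 4) : ℕ) * y ^ ((j : Fin 2) : ℕ) = s ^ ((i' : Fin 4) : ℕ) * y ^ ((j' : Fin 2) : ℕ) →
        i = i' ∧ j = j' := by
      intro i j i' j' he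
      have hy' : j = j' := by
        rcases (show ∀ t : Fin 2, t = 0 ∨ t = 1 by decide) j with rfl | rfl <;>
          rcases (show ∀ t : Fin 2, t = 0 ∨ t = 1 by decide) j' with rfl | rfl <;> try rfl
        all_goals
          exfalso
          simp only [Fin.val_zero, Fin.val_one, pow_zero, pow_one, mul_one] at he
        · have : s ^ ((3 * (i' : ℕ) + (i : ℕ)) % 4) * y ^ 1 = 1 := by
            rw [← hmod, pow_one, pow_add, he, ← mul_assoc, ← pow_add, show 3 * (i' : ℕ) + i' = 4 * i' by ring,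
              pow_mul, hs4, one_pow, one_mul, hy2]
          have := (hfaith ⟨_, Nat.mod_lt _ (by norm_num)⟩ 1 0 (by rw [pow_zero]; exact this)).2
          exact absurd this (by decide)
        · have : s ^ ((3 * (i : ℕ) + (i' : ℕ)) % 4) * y ^ 1 = 1 := by
            rw [← hmod, pow_one, pow_add, ← he, ← mul_assoc, ← pow_add, show 3 * (i : ℕ) + i = 4 * i by ring,
              pow_mul, hs4, one_pow, one_mul, hy2]
          have := (hfaith ⟨_, Nat.mod_lt _ (by norm_num)⟩ 1 0 (by rw [pow_zero]; exact this)).2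
          exact absurd this (by decide)
      subst hy'
      refine ⟨?_, rfl⟩
      have he' := mul_right_cancel he
      have : s ^ ((3 * (i' : ℕ) + (i : ℕ)) % 4) * y ^ 0 = 1 := by
        rw [← hmod, pow_zero, mul_one, pow_add, he', ← pow_add, show 3 * (i' : ℕ) + i' = 4 * i' by ring,
          pow_mul, hs4, one_pow]
      have h0 := (hfaith ⟨_, Nat.mod_lt _ (by norm_num)⟩ 0 0 (by rw [pow_zero]; exact this)).1
      have h0' : (3 * (i' : ℕ) + (i : ℕ)) % 4 = 0 := congrArg Fin.val h0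
      exact Fin.ext (by have := i.isLt; have := i'.isLt; omega)
    rw [← Nat.card_congr (Equiv.ofBijective E ⟨?_, ?_⟩)]
    · simp
    · rintro ⟨i, j, k⟩ ⟨i', j', k'⟩ he
      have he' : s ^ (i : ℕ) * y ^ (j : ℕ) * z ^ (k : ℕ) = s ^ (i' : ℕ) * y ^ (j' : ℕ) * z ^ (k' : ℕ) :=
        congrArg Subtype.val he
      rcases (show ∀ t : Fin 2, t = 0 ∨ t = 1 by decide) k with rfl | rfl <;>
        rcases (show ∀ t : Fin 2, t = 0 ∨ t = 1 by decide) k' with rfl | rfl <;>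
        simp only [Fin.val_zero, Fin.val_one, pow_zero, pow_one, mul_one] at he'
      · obtain ⟨rfl, rfl⟩ := hinj' _ _ _ _ he'; rfl
      · exact absurd ⟨hin i' j', by rw [← he']; exact hin i j⟩ (hzS2 _ (hS'S (hin i' j')))
      · exact absurd ⟨hin i j, by rw [he']; exact hin i' j'⟩ (hzS2 _ (hS'S (hin i j)))
      · obtain ⟨rfl, rfl⟩ := hinj' _ _ _ _ (mul_right_cancel he'); rfl
    · rintro ⟨t, ht | ht⟩
      · obtain ⟨i, j, hij⟩ := hmem t ht
        exact ⟨⟨i, j, 0⟩, Subtype.ext (by simp [E, hij])⟩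
      · obtain ⟨i, j, hij⟩ := hmem _ ht
        exact ⟨⟨i, j, 1⟩, Subtype.ext (by simp only [E, ← hij, Fin.val_one, pow_one, mul_assoc, hz2, mul_one])⟩
  have hcardG : Nat.card (X ⧸ A) = 336 := by
    have h1 := Subgroup.card_eq_card_quotient_mul_card_subgroup A
    have h2' := Subgroup.card_eq_card_quotient_mul_card_subgroup Q
    rw [F.card_quot, h2, h1] at h2'
    have : 0 < Nat.card A := Nat.card_pos
    nlinarith
  have hidxS : S.index = 21 := by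
    have h := S.card_mul_index
    rw [hcardS, hcardG] at h
    omega
  have hidx : (S'.subgroupOf S).index = 2 := by
    rw [Subgroup.index_eq_two_iff]
    refine ⟨⟨z, hzmem⟩, fun b => ?_⟩
    simp only [Subgroup.mem_subgroupOf, Subgroup.coe_mul]
    rcases b.2 with hb | hb
    · exact Or.inr ⟨hb, fun h => hzS2 b b.2 ⟨hb, h⟩⟩
    · exact Or.inl ⟨hb, fun h => hzS2 b b.2 ⟨h, hb⟩⟩
  haveI : (S'.subgroupOf S).Normal := Subgroup.normal_of_index_eq_two hidx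
  haveI := Fact.mk Nat.prime_two
  haveI : IsCyclic (S ⧸ S'.subgroupOf S) := isCyclic_of_prime_card (p := 2) hidx
  letI : CommGroup (S ⧸ S'.subgroupOf S) := IsCyclic.commGroup
  obtain ⟨φ, hφ⟩ : ∃ φ : S →* S ⧸ S'.subgroupOf S, φ = QuotientGroup.mk' _ := ⟨_, rfl⟩
  obtain ⟨τ, hτ⟩ : ∃ τ, τ = MonoidHom.transfer φ := ⟨_, rfl⟩
  have hτz : τ z ≠ 1 := by
    have key : ∀ (k : ℕ) (g₀ : X ⧸ A), g₀⁻¹ * z ^ k * g₀ ∈ S → g₀⁻¹ * z ^ k * g₀ = z ^ k := fun k g₀ _ => by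
      rw [mul_assoc, (Commute.pow_right (hzc g₀) k).symm.eq, inv_mul_cancel_left]
    rw [hτ, MonoidHom.transfer_eq_pow φ z key, hφ]
    intro hh
    have hh' := (QuotientGroup.eq_one_iff _).mp hh
    simp only [Subgroup.mem_subgroupOf] at hh'
    refine hzS ?_
    rwa [hidxS, show (21 : ℕ) = 2 * 10 + 1 from rfl, pow_succ, pow_mul, pow_two, hz2, one_pow, one_mul] at hh'
  refine ⟨(τ.comp f).ker, fun x hx => by rw [MonoidHom.mem_ker, MonoidHom.comp_apply, (hf x).mpr hx, map_one], ?_, ?_⟩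
  · refine le_antisymm ?_ (le_inf (fun x hx => by rw [MonoidHom.mem_ker, MonoidHom.comp_apply, (hf x).mpr hx, map_one]) hAQ)
    rintro x ⟨hx, hxQ⟩
    rcases hQz x hxQ with h | h
    · exact (hf x).mp h
    · exact absurd (by rw [← h]; exact hx) hτz
  · intro M hM
    obtain ⟨x, hx⟩ := F.surj M hM
    by_cases hxk : τ (f x) = 1
    · exact ⟨x, hxk, hx⟩
    refine ⟨x * z₀, ?_, by rw [map_mul, hx, (F.ker _).mpr hz₀Q, mul_one]⟩
    show τ (f (x * z₀)) = 1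
    rw [map_mul, map_mul, ← hz]
    have h1 := Subgroup.mul_mem_iff_of_index_two (H := (⊥ : Subgroup (S ⧸ S'.subgroupOf S)))
      (by rw [Subgroup.index_bot]; exact hidx) (a := τ (f x)) (b := τ z)
    simp only [Subgroup.mem_bot] at h1
    exact h1.mpr (iff_of_false hxk hτz)

end Cfsg.Agent.Sec62
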