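import Cfsg.Agent.Sec62.Groups

/-!
An elementary section of order sixteen has an invariant hyperplane or a fixed point.
-/

set_option autoImplicit false
set_option linter.style.haveILetI false

namespace Cfsg.Agent.Sec62

variable {X : Type*} [Group X] [Finite X] {Q : Subgroup X}

set_option maxHeartbeats 1000000 in
theorem hyperplane_or_point [Q.Normal] [IsSimpleGroup (X ⧸ Q)] (hcard : Nat.card (X ⧸ Q) = 168)
    (hQp : IsPGroup 2 Q) (M : Subgroup X) [hMn : M.Normal] (hMQ : M ≤ Q) (hsq : ∀ q ∈ Q, q * q ∈ M)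
    (h16 : Nat.card Q = 16 * Nat.card M) (hne : ∃ x : X, ∃ q ∈ Q, x * q * x⁻¹ * q⁻¹ ∉ M) :
    (∃ E : Subgroup X, E.Normal ∧ M ≤ E ∧ E ≤ Q ∧ Nat.card E = 8 * Nat.card M) ∨
      ∃ u ∈ Q, u ∉ M ∧ ∀ x : X, x * u * x⁻¹ * u⁻¹ ∈ M := by
  classical
  haveI : Fact (Nat.Prime 7) := ⟨by norm_num⟩
  obtain ⟨f, hfdef⟩ : ∃ f : X →* X ⧸ M, f = QuotientGroup.mk' M := ⟨_, rfl⟩
  have hf : ∀ a, f a = 1 ↔ a ∈ M := fun a => by rw [hfdef]; exact QuotientGroup.eq_one_iff a
  have hfs : Function.Surjective f := by rw [hfdef]; exact QuotientGroup.mk'_surjective M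
  obtain ⟨W, hW⟩ : ∃ W : Subgroup (X ⧸ M), W = Q.map f := ⟨_, rfl⟩
  have hmemW : ∀ q ∈ Q, f q ∈ W := fun q hq => hW ▸ Subgroup.mem_map_of_mem f hq
  have hWmem : ∀ w ∈ W, ∃ q ∈ Q, f q = w := fun w hw => by rw [hW] at hw; exact hw
  have hW2 : ∀ w ∈ W, w * w = 1 := fun w hw => by
    obtain ⟨q, hq, rfl⟩ := hWmem w hw
    rw [← map_mul, hf]
    exact hsq q hq
  have hWc : ∀ v ∈ W, ∀ w ∈ W, v * w = w * v := fun v hv w hw => by
    have := sq_comm (G := W) (fun a => Subtype.ext (hW2 _ a.2)) ⟨v, hv⟩ ⟨w, hw⟩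
    exact congrArg Subtype.val this
  have hQQ : ∀ p ∈ Q, ∀ q ∈ Q, p * q * p⁻¹ * q⁻¹ ∈ M := fun p hp q hq => by
    rw [← hf, map_mul, map_mul, map_mul, map_inv, map_inv, hWc _ (hmemW p hp) _ (hmemW q hq)]
    group
  have hWn : ∀ x : X, ∀ w ∈ W, f x * w * (f x)⁻¹ ∈ W := fun x w hw => by
    obtain ⟨q, hq, rfl⟩ := hWmem w hw
    rw [← map_inv, ← map_mul, ← map_mul]
    exact hmemW _ (‹Q.Normal›.conj_mem q hq x)
  have hW16 : Nat.card W = 16 := by
    let g : Q →* W := (f.comp Q.subtype).codRestrict W (fun q => hmemW _ q.2)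
    have hg : Function.Surjective g := by
      rintro ⟨w, hw⟩
      obtain ⟨q, hq, rfl⟩ := hWmem w hw
      exact ⟨⟨q, hq⟩, rfl⟩
    have hker : Nat.card g.ker = Nat.card M :=
      Nat.card_congr ⟨fun q => ⟨q.1.1, (hf _).mp (congrArg Subtype.val q.2)⟩,
        fun m => ⟨⟨m.1, hMQ m.2⟩, Subtype.ext ((hf _).mpr m.2)⟩, fun q => rfl, fun m => rfl⟩
    have h := g.ker.card_mul_index
    rw [Subgroup.index_ker, MonoidHom.range_eq_top_of_surjective g hg, Subgroup.card_top, hker, h16,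
      mul_comm 16] at h
    exact Nat.eq_of_mul_eq_mul_left Nat.card_pos h
  -- an element of order seven
  have h7 : 7 ∣ Nat.card X := by
    refine dvd_trans (dvd_trans (by norm_num) (dvd_of_eq hcard.symm)) (Subgroup.card_quotient_dvd_card Q)
  obtain ⟨t, ht⟩ := exists_prime_orderOf_dvd_card' (G := X) 7 h7
  have ht7 : t ^ 7 = 1 := by rw [← ht]; exact pow_orderOf_eq_one t
  have htQ : t ∉ Q := by
    intro h
    obtain ⟨k, hk⟩ := hQp ⟨t, h⟩
    have hk' : t ^ 2 ^ k = 1 := by simpa using congrArg Subtype.val hk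
    have := orderOf_dvd_of_pow_eq_one hk'
    rw [ht] at this
    exact absurd ((Nat.prime_dvd_prime_iff_eq (by norm_num) Nat.prime_two).mp ((by norm_num : Nat.Prime 7).dvd_of_dvd_pow this))
      (by norm_num)
  letI : MulAction X W := MulAction.compHom _
    (show X →* Equiv.Perm W from
      { toFun := fun x => ⟨fun w => ⟨f x * w * (f x)⁻¹, hWn x w w.2⟩,
          fun w => ⟨f x⁻¹ * w * (f x⁻¹)⁻¹, hWn x⁻¹ w w.2⟩,
          fun w => Subtype.ext (by simp only [map_inv]; group),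
          fun w => Subtype.ext (by simp only [map_inv]; group)⟩
        map_one' := Equiv.ext fun w => Subtype.ext (by simp)
        map_mul' := fun x y => Equiv.ext fun w => Subtype.ext (by simp [mul_assoc]) })
  have hsmul : ∀ (x : X) (w : W), ((x • w : W) : X ⧸ M) = f x * w * (f x)⁻¹ := fun x w => rfl
  have hP : IsPGroup 7 (Subgroup.zpowers t) :=
    IsPGroup.of_card (n := 1) (by rw [Nat.card_zpowers, ht, pow_one])
  have hfixed : ∀ w : W, w ∈ MulAction.fixedPoints (Subgroup.zpowers t) W ↔ t • w = w := by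
    intro w
    refine ⟨fun h => h ⟨t, Subgroup.mem_zpowers t⟩, fun h g => ?_⟩
    have : g.1 ∈ MulAction.stabilizer X w := (Subgroup.zpowers_le.mpr h) g.2
    exact this
  let C : Subgroup (X ⧸ M) := W ⊓ Subgroup.centralizer ({f t} : Set (X ⧸ M))
  have hCmem : ∀ w : W, (w : X ⧸ M) ∈ C ↔ t • w = w := fun w => by
    rw [Subgroup.mem_inf, Subgroup.mem_centralizer_singleton_iff, Subtype.ext_iff, hsmul,
      mul_inv_eq_iff_eq_mul]
    exact ⟨fun h => h.2.symm, fun h => ⟨w.2, h.symm⟩⟩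
  have hCmod : 16 ≡ Nat.card C [MOD 7] := by
    have h := hP.card_modEq_card_fixedPoints W
    rw [hW16] at h
    have e : Nat.card (MulAction.fixedPoints (Subgroup.zpowers t) W) = Nat.card C :=
      Nat.card_congr ⟨fun w => ⟨(w.1 : X ⧸ M), (hCmem w.1).mpr ((hfixed w.1).mp w.2)⟩,
        fun w => ⟨⟨w.1, w.2.1⟩, (hfixed _).mpr ((hCmem ⟨w.1, w.2.1⟩).mp w.2)⟩, fun w => rfl, fun w => rfl⟩
    rwa [e] at h
  have hCd : Nat.card C ∣ 2 ^ 4 := by
    rw [show (2 : ℕ) ^ 4 = Nat.card W by rw [hW16]; rfl]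
    exact Subgroup.card_dvd_of_le inf_le_left
  have hC2 : Nat.card C = 2 := by
    obtain ⟨i, hi, hci⟩ := (Nat.dvd_prime_pow Nat.prime_two).mp hCd
    rw [hci] at hCmod ⊢
    interval_cases i <;> first | rfl | (exact absurd hCmod (by decide)) | skip
    exfalso
    refine htQ (ker_act M hQQ hne t fun q hq => ?_)
    have hCW : C = W := Subgroup.eq_of_le_of_card_ge inf_le_left (by rw [hW16, hci]; norm_num)
    have h := Subgroup.mem_centralizer_singleton_iff.mp (hCW.ge (hmemW q hq)).2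
    rw [← hf, map_mul, map_mul, map_mul, map_inv, map_inv, ← h]
    group
  obtain ⟨u, hu1, huu⟩ := (Nat.card_eq_two_iff' (1 : C)).mp hC2
  obtain ⟨u₀, hu₀, hfu⟩ := hWmem u.1 u.2.1
  have hu₀M : u₀ ∉ M := fun h => hu1 (Subtype.ext (hfu ▸ (hf u₀).mpr h))
  let uW : W := ⟨u.1, u.2.1⟩
  by_cases hfix : ∀ x : X, x • uW = uW
  · refine Or.inr ⟨u₀, hu₀, hu₀M, fun x => ?_⟩
    have h := congrArg Subtype.val (hfix x)
    rw [hsmul] at h
    change f x * u.1 * (f x)⁻¹ = u.1 at h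
    rw [← hf, map_mul, map_mul, map_mul, map_inv, map_inv, hfu, h, mul_inv_cancel]
  left
  -- the image of `w ↦ t w t⁻¹ w⁻¹`
  let D : W →* X ⧸ M :=
    { toFun := fun w => f t * w * (f t)⁻¹ * (w : X ⧸ M)⁻¹
      map_one' := by simp
      map_mul' := fun v w => by
        have h1 : f t * (w : X ⧸ M) * (f t)⁻¹ ∈ W := hWn t w w.2
        calc f t * ((v * w : W) : X ⧸ M) * (f t)⁻¹ * ((v * w : W) : X ⧸ M)⁻¹
            = f t * v * (f t)⁻¹ * ((f t * w * (f t)⁻¹ * (w : X ⧸ M)⁻¹) * (v : X ⧸ M)⁻¹) := by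
              rw [Subgroup.coe_mul]; group
          _ = f t * v * (f t)⁻¹ * ((v : X ⧸ M)⁻¹ * (f t * w * (f t)⁻¹ * (w : X ⧸ M)⁻¹)) := by
              rw [hWc _ (mul_mem h1 (inv_mem w.2)) _ (inv_mem v.2)]
          _ = _ := by group }
  have hDW : D.range ≤ W := by
    rintro _ ⟨w, rfl⟩
    exact mul_mem (hWn t w w.2) (inv_mem w.2)
  have hD8 : Nat.card D.range = 8 := by
    have h := D.ker.card_mul_index
    rw [Subgroup.index_ker, hW16, Nat.card_congr (show D.ker ≃ C from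
      ⟨fun w => ⟨w.1.1, (hCmem w.1).mpr (Subtype.ext (by rw [hsmul]; exact mul_inv_eq_one.mp w.2))⟩,
        fun w => ⟨⟨w.1, w.2.1⟩, mul_inv_eq_one.mpr (congrArg Subtype.val ((hCmem ⟨w.1, w.2.1⟩).mp w.2))⟩,
        fun w => rfl, fun w => rfl⟩), hC2] at h
    omega
  -- the orbit of the fixed point and the remaining seven elements
  let O := MulAction.orbit X uW
  have hO1 : (1 : W) ∉ O := by
    rintro ⟨x, hx⟩
    have h := congrArg Subtype.val hx
    rw [hsmul] at h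
    change f x * u.1 * (f x)⁻¹ = 1 at h
    refine hu1 (Subtype.ext ?_)
    show u.1 = 1
    calc u.1 = (f x)⁻¹ * (f x * u.1 * (f x)⁻¹) * f x := by group
      _ = 1 := by rw [h]; group
  have hOd : Nat.card O ∣ 168 := by
    rw [Nat.card_congr (MulAction.orbitEquivQuotientStabilizer X uW), ← Subgroup.index_eq_card, ← hcard,
      ← Subgroup.index_eq_card]
    refine Subgroup.index_dvd_of_le fun q hq => ?_
    refine Subtype.ext ?_
    rw [hsmul, hWc _ (hmemW q hq) _ uW.2, mul_inv_cancel_right]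
  have hOm : Nat.card O ≡ 1 [MOD 7] := by
    have h := hP.card_modEq_card_fixedPoints O
    have e : Nat.card (MulAction.fixedPoints (Subgroup.zpowers t) O) = 1 := ?_
    · rwa [e] at h
    rw [Nat.card_eq_one_iff_unique]
    refine ⟨⟨fun a b => ?_⟩, ⟨⟨⟨uW, MulAction.mem_orbit_self uW⟩, fun g => Subtype.ext ?_⟩⟩⟩
    · have key : ∀ c : MulAction.fixedPoints (Subgroup.zpowers t) O, (c.1.1 : W) = uW := by
        rintro ⟨⟨c, hc⟩, hfc⟩
        have hc' : t • c = c := congrArg Subtype.val (hfc ⟨t, Subgroup.mem_zpowers t⟩)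
        by_cases h1 : c = 1
        · exact absurd (h1 ▸ hc) hO1
        have := huu ⟨c.1, (hCmem c).mpr hc'⟩ (fun h => h1 (Subtype.ext (congrArg (fun z : C => (z : X ⧸ M)) h)))
        exact Subtype.ext (congrArg (fun z : C => (z : X ⧸ M)) this)
      exact Subtype.ext (Subtype.ext ((key a).trans (key b).symm))
    · exact ((hfixed uW).mpr ((hCmem uW).mp u.2)) g
  have hOle : Nat.card O ≤ 15 := by
    have hlt : Nat.card O < Nat.card W := by
      haveI := Fintype.ofFinite W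
      rw [Nat.card_eq_fintype_card, Nat.card_eq_fintype_card]
      exact Fintype.card_subtype_lt hO1
    omega
  have hOne : Nat.card O ≠ 1 := by
    intro h
    rw [Nat.card_eq_one_iff_unique] at h
    obtain ⟨hsub, -⟩ := h
    refine hfix fun x => ?_
    exact congrArg Subtype.val (Subsingleton.elim (⟨x • uW, MulAction.mem_orbit uW x⟩ : O) ⟨uW, MulAction.mem_orbit_self uW⟩)
  have hO8 : Nat.card O = 8 := by
    have hd := Nat.mem_divisors.mpr ⟨hOd, by norm_num⟩
    revert hd hOle hOne hOm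
    generalize Nat.card O = n
    intro hOm hOle hOne hd
    interval_cases n <;> first | rfl | omega | (exact absurd hOm (by decide)) | (exact absurd hd (by decide))
  let K : Set W := {w | w ∉ O ∧ w ≠ 1}
  have hKc : Nat.card K = 7 := by
    have hKe : K = (insert 1 O : Set W)ᶜ := by
      ext w; simp [K, and_comm]
    rw [Nat.card_coe_set_eq, hKe, Set.ncard_compl, Set.ncard_insert_of_notMem hO1, ← Nat.card_coe_set_eq, hO8, hW16]
  have hKinv : ∀ x : X, ∀ w ∈ K, x • w ∈ K := by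
    rintro x w ⟨hwO, hw1⟩
    refine ⟨fun h => hwO ?_, fun h => hw1 ?_⟩
    · obtain ⟨y, hy⟩ := h
      refine ⟨x⁻¹ * y, ?_⟩
      show (x⁻¹ * y) • uW = w
      rw [mul_smul, show y • uW = x • w from hy, inv_smul_smul]
    · have h' : x⁻¹ • (x • w) = x⁻¹ • (1 : W) := by rw [h]
      rw [inv_smul_smul] at h'
      rw [h']
      exact Subtype.ext (by rw [hsmul]; simp)
  obtain ⟨⟨k0, hk0⟩⟩ : Nonempty K := by
    rw [← not_isEmpty_iff]
    intro h
    rw [Nat.card_of_isEmpty] at hKc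
    norm_num at hKc
  have ht0 : t • k0 ≠ k0 := by
    intro h
    have := huu ⟨k0.1, (hCmem k0).mpr h⟩ (fun e => hk0.2 (Subtype.ext (congrArg (fun z : C => (z : X ⧸ M)) e)))
    exact hk0.1 ((Subtype.ext (congrArg (fun z : C => (z : X ⧸ M)) this) : k0 = uW) ▸ MulAction.mem_orbit_self uW)
  have hKorb : ∀ w ∈ K, ∃ n : ℕ, t ^ n • k0 = w := by
    have hinj : Function.Injective (fun n : Fin 7 => (⟨t ^ (n : ℕ) • k0, hKinv _ _ hk0⟩ : K)) := by
      intro m n h
      have h' : t ^ (m : ℕ) • k0 = t ^ (n : ℕ) • k0 := congrArg Subtype.val h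
      by_contra hne'
      refine ht0 ?_
      have hper : ∀ i j : ℕ, t ^ i • k0 = t ^ j • k0 → t ^ (i + 6 * j) • k0 = k0 := fun i j h => by
        rw [add_comm, pow_add, mul_smul, h, ← mul_smul, ← pow_add, show 6 * j + j = 7 * j by ring, pow_mul,
          ht7, one_pow, one_smul]
      have hd := hper _ _ h'
      have hco : Nat.Coprime ((m : ℕ) + 6 * n) 7 := by
        refine Nat.Coprime.symm ((Nat.Prime.coprime_iff_not_dvd (by norm_num)).mpr ?_)
        have hm := m.isLt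
        have hn := n.isLt
        have : (m : ℕ) ≠ n := fun e => hne' (Fin.ext e)
        omega
      obtain ⟨j, hj⟩ : ∃ j : ℕ, ((m : ℕ) + 6 * n) * j % 7 = 1 := by
        obtain ⟨j, -, hj⟩ := Nat.exists_mul_mod_eq_one_of_coprime hco (by norm_num)
        exact ⟨j, hj⟩
      have hall : t ^ (((m : ℕ) + 6 * n) * j) • k0 = k0 := by
        have key : ∀ i : ℕ, (t ^ ((m : ℕ) + 6 * n)) ^ i • k0 = k0 := fun i => by
          induction i with
          | zero => rw [pow_zero, one_smul]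
          | succ i ih => rw [pow_succ, mul_smul, hd, ih]
        rw [pow_mul]
        exact key j
      rwa [← Nat.div_add_mod (((m : ℕ) + 6 * n) * j) 7, hj, pow_add, pow_mul, ht7, one_pow, one_mul, pow_one] at hall
    have hbij := (Nat.bijective_iff_injective_and_card _).mpr ⟨hinj, by rw [Nat.card_fin, hKc]⟩
    intro w hw
    obtain ⟨n, hn⟩ := hbij.2 ⟨w, hw⟩
    exact ⟨n, congrArg Subtype.val hn⟩
  have hKD : ∀ w ∈ K, ((w : W) : X ⧸ M) * ((k0 : W) : X ⧸ M)⁻¹ ∈ D.range := by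
    intro w hw
    obtain ⟨n, rfl⟩ := hKorb w hw
    clear hw
    induction n with
    | zero => simp
    | succ n ih =>
      have h : D (t ^ n • k0) ∈ D.range := ⟨_, rfl⟩
      have := mul_mem h ih
      rw [pow_succ', mul_smul, hsmul]
      show f t * ((t ^ n • k0 : W) : X ⧸ M) * (f t)⁻¹ * ((k0 : W) : X ⧸ M)⁻¹ ∈ D.range
      change f t * ((t ^ n • k0 : W) : X ⧸ M) * (f t)⁻¹ * ((t ^ n • k0 : W) : X ⧸ M)⁻¹ *
        (((t ^ n • k0 : W) : X ⧸ M) * ((k0 : W) : X ⧸ M)⁻¹) ∈ D.range at this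
      rwa [show f t * ((t ^ n • k0 : W) : X ⧸ M) * (f t)⁻¹ * ((t ^ n • k0 : W) : X ⧸ M)⁻¹ *
        (((t ^ n • k0 : W) : X ⧸ M) * ((k0 : W) : X ⧸ M)⁻¹) =
        f t * ((t ^ n • k0 : W) : X ⧸ M) * (f t)⁻¹ * ((k0 : W) : X ⧸ M)⁻¹ by group] at this
  let S : Set (X ⧸ M) := {d | ∃ a ∈ K, ∃ b ∈ K, d = ((a : W) : X ⧸ M) * ((b : W) : X ⧸ M)⁻¹}
  let E₀ : Subgroup (X ⧸ M) := Subgroup.closure S
  have hE₀le : E₀ ≤ D.range := by
    rw [Subgroup.closure_le]
    rintro _ ⟨a, ha, b, hb, rfl⟩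
    have := mul_mem (hKD a ha) (inv_mem (hKD b hb))
    rwa [show (a : X ⧸ M) * (k0 : X ⧸ M)⁻¹ * ((b : X ⧸ M) * (k0 : X ⧸ M)⁻¹)⁻¹ = (a : X ⧸ M) * (b : X ⧸ M)⁻¹ by group] at this
  have hE₀8 : Nat.card E₀ = 8 := by
    have hd : Nat.card E₀ ∣ 2 ^ 3 := by
      rw [show (2 : ℕ) ^ 3 = Nat.card D.range by rw [hD8]; rfl]
      exact Subgroup.card_dvd_of_le hE₀le
    have h7' : 7 ≤ Nat.card E₀ := by
      rw [← hKc]
      refine Nat.card_le_card_of_injective
        (fun w : K => (⟨(w.1 : X ⧸ M) * (k0 : X ⧸ M)⁻¹, Subgroup.subset_closure ⟨w.1, w.2, k0, hk0, rfl⟩⟩ : E₀)) ?_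
      intro v w h
      exact Subtype.ext (Subtype.ext (mul_right_cancel (congrArg Subtype.val h)))
    obtain ⟨i, hi, hci⟩ := (Nat.dvd_prime_pow Nat.prime_two).mp hd
    rw [hci] at h7' ⊢
    interval_cases i <;> first | rfl | (exfalso; norm_num at h7')
  have hEn : E₀.Normal := by
    refine ⟨fun d hd g => ?_⟩
    obtain ⟨x, rfl⟩ := hfs g
    have hle : E₀ ≤ E₀.comap (MulAut.conj (f x)).toMonoidHom := by
      rw [Subgroup.closure_le]
      rintro _ ⟨a, ha, b, hb, rfl⟩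
      refine Subgroup.subset_closure ⟨x • a, hKinv x a ha, x • b, hKinv x b hb, ?_⟩
      simp only [MulEquiv.coe_toMonoidHom, MulAut.conj_apply, hsmul]
      group
    simpa using hle hd
  refine ⟨E₀.comap f, hEn.comap f, fun m hm => ?_, ?_, ?_⟩
  · rw [Subgroup.mem_comap, (hf m).mpr hm]; exact one_mem _
  · intro e he
    obtain ⟨q, hq, hqe⟩ := hWmem _ (hDW (hE₀le he))
    have : q⁻¹ * e ∈ M := by rw [← hf, map_mul, map_inv, hqe, inv_mul_cancel]
    have := mul_mem hq (hMQ this)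
    rwa [mul_inv_cancel_left] at this
  · let g := f.subgroupComap E₀
    have hg : Function.Surjective g := MonoidHom.subgroupComap_surjective_of_surjective _ _ hfs
    have hker : Nat.card g.ker = Nat.card M :=
      Nat.card_congr ⟨fun q => ⟨q.1.1, (hf _).mp (congrArg Subtype.val q.2)⟩,
        fun m => ⟨⟨m.1, by rw [Subgroup.mem_comap, (hf _).mpr m.2]; exact one_mem _⟩, Subtype.ext ((hf _).mpr m.2)⟩,
        fun q => rfl, fun m => rfl⟩
    have h := g.ker.card_mul_index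
    rw [Subgroup.index_ker, MonoidHom.range_eq_top_of_surjective g hg, Subgroup.card_top, hker, hE₀8] at h
    rw [← h, mul_comm]

end Cfsg.Agent.Sec62
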