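import Cfsg.Agent.Sec62.QMap

/-!
Fixed points in cosets of natural sections, and invariant complements.
-/

set_option autoImplicit false
set_option linter.style.haveILetI false

namespace Cfsg.Agent.Sec62

def mT : M3 := !![0, 0, 1; 0, 1, 0; 1, 0, 0]

theorem det_T : mT.det = 1 := by rw [← det3_eq]; decide +kernel

theorem R_word : mR = mT * mJ * mT * mJ * mJ * mJ * mT * mJ := by decide +kernel

theorem point_words : ∀ v : V3, v ≠ 0 →
    v = e1 ∨ v = mT.mulVec e1 ∨ v = (mJ * mT).mulVec e1 ∨ v = (mJ * mJ * mT).mulVec e1 ∨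
      v = (mT * mJ * mT).mulVec e1 ∨ v = (mJ * mJ * mJ * mT).mulVec e1 ∨ v = (mJ * mT * mJ * mT).mulVec e1 := by
  decide +kernel

/-- affine maps -/
def amul (p q : M3 × V3) : M3 × V3 := (p.1 * q.1, p.2 + p.1.mulVec q.2)

def relWord (v : V3) : M3 × V3 :=
  let a : M3 × V3 := (mJ, 0)
  let t : M3 × V3 := (mT, v)
  amul (amul (amul (amul (amul (amul (amul (amul (amul (amul a a) t) a) a) t) a) a) t) t) t

theorem relWord_fst : ∀ v : V3, (relWord v).1 = 1 := by decide +kernel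

theorem relWord_solve : ∀ v : V3, (relWord v).2 = 0 → v = 0 ∨ v = mT.mulVec e1 - e1 := by
  decide +kernel

variable {X : Type*} [Group X] {Q : Subgroup X}

/-- a subgroup containing `Q` and lifts of `mJ` and `mT` is everything -/
theorem Frame.top_of_gens (F : Frame Q) (H : Subgroup X) (hQH : Q ≤ H) {s t : X} (hs : s ∈ H) (ht : t ∈ H)
    (hsπ : F.π s = mJ) (htπ : F.π t = mT) : ∀ x, x ∈ H := by
  intro x
  have h0 : (F.π x).mulVec e1 ≠ 0 := by
    intro h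
    have h1 : (F.π x⁻¹).mulVec ((F.π x).mulVec e1) = 0 := by rw [h, Matrix.mulVec_zero]
    rw [Matrix.mulVec_mulVec, ← map_mul, inv_mul_cancel, map_one, Matrix.one_mulVec] at h1
    exact absurd h1 (by decide)
  obtain ⟨w, hw, hwe⟩ : ∃ w ∈ H, (F.π w).mulVec e1 = (F.π x).mulVec e1 := by
    rcases point_words _ h0 with h | h | h | h | h | h | h <;> rw [h]
    · exact ⟨1, one_mem _, by rw [map_one, Matrix.one_mulVec]⟩
    · exact ⟨t, ht, by rw [htπ]⟩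
    · exact ⟨s * t, mul_mem hs ht, by rw [map_mul, hsπ, htπ]⟩
    · exact ⟨s * s * t, mul_mem (mul_mem hs hs) ht, by rw [map_mul, map_mul, hsπ, htπ]⟩
    · exact ⟨t * s * t, mul_mem (mul_mem ht hs) ht, by rw [map_mul, map_mul, hsπ, htπ]⟩
    · exact ⟨s * s * s * t, mul_mem (mul_mem (mul_mem hs hs) hs) ht, by rw [map_mul, map_mul, map_mul, hsπ, htπ]⟩
    · exact ⟨s * t * s * t, mul_mem (mul_mem (mul_mem hs ht) hs) ht, by rw [map_mul, map_mul, map_mul, hsπ, htπ]⟩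
  have hst : (F.π (w⁻¹ * x)).mulVec e1 = e1 := by
    rw [map_mul, ← Matrix.mulVec_mulVec, ← hwe, Matrix.mulVec_mulVec, ← map_mul, inv_mul_cancel, map_one,
      Matrix.one_mulVec]
  obtain ⟨i, j, k, l, h⟩ := stab_e1 _ (by rw [det3_eq, F.det_pi]) hst
  obtain ⟨r, hr⟩ : ∃ r, r = t * s * t * s * s * s * t * s := ⟨_, rfl⟩
  have hrH : r ∈ H := hr ▸ mul_mem (mul_mem (mul_mem (mul_mem (mul_mem (mul_mem (mul_mem ht hs) ht) hs) hs) hs) ht) hs
  have hrπ : F.π r = mR := by rw [hr, R_word]; simp only [map_mul, hsπ, htπ]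
  obtain ⟨m, hm⟩ : ∃ m, m = s ^ (i : ℕ) * r ^ (j : ℕ) * s ^ (k : ℕ) * r ^ (l : ℕ) := ⟨_, rfl⟩
  have hmH : m ∈ H := hm ▸ mul_mem (mul_mem (mul_mem (pow_mem hs _) (pow_mem hrH _)) (pow_mem hs _)) (pow_mem hrH _)
  have hmq : m⁻¹ * (w⁻¹ * x) ∈ Q := F.congr_Q (by rw [h, hm]; simp only [map_mul, map_pow, hsπ, hrπ])
  have := mul_mem hw (mul_mem hmH (hQH hmq))
  rwa [mul_inv_cancel_left, mul_inv_cancel_left] at this

variable {F : Frame Q} {S R M : Subgroup X}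

/-- an element of a coset of a natural section fixed by a lift of `mJ` gives a fixed element -/
theorem fixed_in_coset (C : Coord F S R) {g : X → X} (hg : LinMap C M g)
    (hinj : ∀ p ∈ S, g p = 1 → p ∈ R) (hsurj : ∀ m ∈ M, ∃ p ∈ S, g p = m) (w : X)
    (hw : ∀ x : X, x * w * x⁻¹ * w⁻¹ ∈ M) (hMw : ∀ m ∈ M, m * w = w * m)
    (hQw : ∀ q ∈ Q, q * w = w * q) (hQM : ∀ q ∈ Q, ∀ m ∈ M, q * m = m * q)
    {σ : X} (hσ : F.π σ = mJ) (hσw : σ * w = w * σ) :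
    ∃ m ∈ M, ∀ x : X, x * (w * m) = (w * m) * x := by
  have hd : ∀ x : X, ∃ p ∈ S, g p = x * w * x⁻¹ * w⁻¹ := fun x => hsurj _ (hw x)
  choose d hdS hdg using hd
  have hv : ∀ x : X, ∀ p ∈ S, g p = x * w * x⁻¹ * w⁻¹ → C.c (d x) = C.c p := fun x p hp h => by
    rw [C.eq_iff (hdS x) hp]
    refine hinj _ (mul_mem (inv_mem hp) (hdS x)) ?_
    rw [hg.mul _ (inv_mem hp) _ (hdS x), hg.map_inv' hp, hdg, h, inv_mul_cancel]
  obtain ⟨A, hAdef⟩ : ∃ A : X → M3 × V3, A = fun x => (F.π x, C.c (d x)) := ⟨_, rfl⟩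
  have hA : ∀ x y, A (x * y) = amul (A x) (A y) := fun x y => by
    simp only [hAdef]
    refine Prod.ext (map_mul F.π x y) ?_
    show C.c (d (x * y)) = C.c (d x) + (F.π x).mulVec (C.c (d y))
    rw [hv (x * y) (x * d y * x⁻¹ * d x) (mul_mem (C.conj x _ (hdS y)) (hdS x)) ?_,
      C.add _ (C.conj x _ (hdS y)) _ (hdS x), ← C.act x _ (hdS y), add_comm]
    rw [hg.mul _ (C.conj x _ (hdS y)) _ (hdS x), hg.act x _ (hdS y), hdg, hdg]
    group
  have h0 : ∀ x, x * w = w * x → C.c (d x) = 0 := fun x hx => by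
    rw [hv x 1 (one_mem _) (by rw [hg.map_one', hx]; group), C.one]
  obtain ⟨t, ht⟩ := F.surj mT det_T
  have hAσ : A σ = (mJ, 0) := by simp only [hAdef, hσ, h0 σ hσw]
  have hAt : A t = (mT, C.c (d t)) := by simp only [hAdef, ht]
  obtain ⟨z, hz⟩ : ∃ z, z = σ * σ * t * σ * σ * t * σ * σ * t * t * t := ⟨_, rfl⟩
  have hAz : A z = relWord (C.c (d t)) := by
    rw [hz]
    simp only [hA, hAσ, hAt, relWord]
  have hzQ : z ∈ Q := by
    refine (F.ker z).mp ?_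
    have h : (A z).1 = 1 := by rw [hAz]; exact relWord_fst _
    rw [hAdef] at h
    exact h
  have hv0 := relWord_solve (C.c (d t)) (by rw [← hAz, hAdef]; exact h0 z (hQw z hzQ))
  obtain ⟨p, hp, hpJ, hpT⟩ : ∃ p ∈ S, (mJ.mulVec (C.c p) = C.c p) ∧ mT.mulVec (C.c p) + C.c p = C.c (d t) := by
    rcases hv0 with h | h
    · refine ⟨1, one_mem _, ?_, ?_⟩ <;> rw [C.one] <;> simp [h]
    · obtain ⟨p, hp, hpe⟩ := C.surj e1
      refine ⟨p, hp, by rw [hpe]; decide, ?_⟩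
      rw [h, hpe, sub_eq_add_neg, CharTwo.neg_eq]
  refine ⟨g p, hg.mem p hp, ?_⟩
  let H : Subgroup X := Subgroup.centralizer ({w * g p} : Set X)
  have hmem : ∀ x : X, C.c (d x) + ((F.π x).mulVec (C.c p) + C.c p) = 0 → x ∈ H := by
    intro x hx
    show x ∈ Subgroup.centralizer ({w * g p} : Set X)
    rw [Subgroup.mem_centralizer_singleton_iff]
    have h1 : g (d x * (x * p * x⁻¹ * p⁻¹)) = 1 := by
      refine hg.one _ ((C.ker _ (mul_mem (hdS x) (mul_mem (C.conj x p hp) (inv_mem hp)))).mp ?_)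
      rw [C.add _ (hdS x) _ (mul_mem (C.conj x p hp) (inv_mem hp)), C.add _ (C.conj x p hp) _ (inv_mem hp),
        C.inv hp, ← C.act x p hp, hx]
    rw [hg.mul _ (hdS x) _ (mul_mem (C.conj x p hp) (inv_mem hp)), hg.mul _ (C.conj x p hp) _ (inv_mem hp),
      hg.act x p hp, hg.map_inv' hp, hdg] at h1
    have hm : x * g p * x⁻¹ * (g p)⁻¹ ∈ M := mul_mem (hg.act x p hp ▸ hg.mem _ (C.conj x p hp)) (inv_mem (hg.mem p hp))
    calc x * (w * g p) = (x * w * x⁻¹ * w⁻¹) * (w * (x * g p * x⁻¹ * (g p)⁻¹)) * (g p * x) := by group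
      _ = (x * w * x⁻¹ * w⁻¹ * (x * g p * x⁻¹ * (g p)⁻¹)) * w * (g p * x) := by rw [← hMw _ hm]; group
      _ = w * g p * x := by rw [h1, one_mul]; group
  have hall := F.top_of_gens H (s := σ) (t := t) ?_ ?_ ?_ hσ ht
  · exact fun x => Subgroup.mem_centralizer_singleton_iff.mp (hall x)
  · intro q hq
    show q ∈ Subgroup.centralizer ({w * g p} : Set X)
    rw [Subgroup.mem_centralizer_singleton_iff, ← mul_assoc, hQw q hq, mul_assoc, hQM q hq _ (hg.mem p hp), mul_assoc]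
  · exact hmem σ (by rw [h0 σ hσw, hσ, hpJ, zero_add, CharTwo.add_self_eq_zero])
  · exact hmem t (by rw [ht, hpT, CharTwo.add_self_eq_zero])

/-- an invariant complement generated by the conjugates of a fixed lift -/
theorem exists_complement [Finite X] (C : Coord F S R) (hQp : IsPGroup 2 Q) (R0 : Subgroup X) [hR0n : R0.Normal]
    [hRn : R.Normal] (hR0 : R0 ≤ R) (u : X) (hu : u ∈ R) (hu0 : u ∉ R0)
    (hR : ∀ r ∈ R, r ∈ R0 ∨ u⁻¹ * r ∈ R0) (hsq : ∀ p ∈ S, p * p ∈ R0)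
    (hQ : ∀ q ∈ Q, ∀ p ∈ S, q * p * q⁻¹ * p⁻¹ ∈ R0) (z : X) (hzS : z ∈ S) (hz : C.c z = e1)
    (σ : X) (hσ : F.π σ = mJ) (hσz : σ * z * σ⁻¹ * z⁻¹ ∈ R0) :
    ∃ E : Subgroup X, E.Normal ∧ R0 ≤ E ∧ E ≤ S ∧ u ∉ E ∧ ∀ p ∈ S, p ∈ E ∨ u⁻¹ * p ∈ E := by
  classical
  obtain ⟨f, hfdef⟩ : ∃ f : X →* X ⧸ R0, f = QuotientGroup.mk' R0 := ⟨_, rfl⟩
  have hf : ∀ x, f x = 1 ↔ x ∈ R0 := fun x => by rw [hfdef]; exact QuotientGroup.eq_one_iff x
  have hfeq : ∀ {x y}, f x = f y ↔ y⁻¹ * x ∈ R0 := fun {x y} => by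
    rw [← hf, map_mul, map_inv, inv_mul_eq_one, eq_comm]
  have hfsq : ∀ p ∈ S, f p * f p = 1 := fun p hp => by rw [← map_mul, hf]; exact hsq p hp
  have hfc : ∀ p ∈ S, ∀ q ∈ S, f p * f q = f q * f p := fun p hp q hq => by
    have h := hfsq _ (mul_mem hp hq)
    rw [map_mul] at h
    calc f p * f q = (f p * f q)⁻¹ := (inv_eq_of_mul_eq_one_right h).symm
      _ = (f q)⁻¹ * (f p)⁻¹ := mul_inv_rev _ _
      _ = f q * f p := by rw [inv_eq_of_mul_eq_one_right (hfsq p hp), inv_eq_of_mul_eq_one_right (hfsq q hq)]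
  have huS : u ∈ S := C.le hu
  have hRS : ∀ r ∈ R, f r = 1 ∨ f r = f u := fun r hr =>
    (hR r hr).imp (fun h => (hf r).mpr h) fun h => hfeq.mpr h
  have hfix : ∀ r ∈ R, ∀ x : X, f (x * r * x⁻¹) = f r := by
    intro r hr x
    have hmem : r ∈ R0 ↔ x * r * x⁻¹ ∈ R0 := ⟨fun h => hR0n.conj_mem r h x, fun h => by
      have := hR0n.conj_mem _ h x⁻¹
      rwa [inv_inv, show x⁻¹ * (x * r * x⁻¹) * x = r by group] at this⟩
    rcases hRS r hr with h | h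
    · rw [h, (hf _).mpr (hmem.mp ((hf r).mp h))]
    · rcases hRS _ (hRn.conj_mem r hr x) with h' | h'
      · exact absurd ((hf u).mp (h ▸ (hf r).mpr (hmem.mpr ((hf _).mp h')))) hu0
      · rw [h, h']
  -- the stabiliser of the lift
  let St : Subgroup X := (Subgroup.centralizer ({f z} : Set (X ⧸ R0))).comap f
  have hSt : ∀ x, x ∈ St ↔ f (x * z * x⁻¹) = f z := fun x => by
    show f x ∈ Subgroup.centralizer ({f z} : Set (X ⧸ R0)) ↔ _
    rw [Subgroup.mem_centralizer_singleton_iff, map_mul, map_mul, map_inv, mul_inv_eq_iff_eq_mul]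
  have hσSt : σ ∈ St := by
    rw [hSt, hfeq]
    have := hR0n.conj_mem _ hσz z⁻¹
    rwa [inv_inv, show z⁻¹ * (σ * z * σ⁻¹ * z⁻¹) * z = z⁻¹ * (σ * z * σ⁻¹) by group] at this
  have hQSt : Q ≤ St := fun q hq => by
    rw [hSt, hfeq]
    have := hR0n.conj_mem _ (hQ q hq z hzS) z⁻¹
    rwa [inv_inv, show z⁻¹ * (q * z * q⁻¹ * z⁻¹) * z = z⁻¹ * (q * z * q⁻¹) by group] at this
  obtain ⟨ρ, hρ, hρ3⟩ := F.exists_rho hQp
  have hρSt : ρ ∈ St := by
    rw [hSt]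
    obtain ⟨r, hr, hre⟩ : ∃ r ∈ R, ρ * z * ρ⁻¹ = z * r :=
      ⟨_, (C.eq_iff (C.conj ρ z hzS) hzS).mp (by rw [← C.act ρ z hzS, hρ, hz]; decide), (mul_inv_cancel_left _ _).symm⟩
    rcases hRS r hr with h | h
    · rw [hre, map_mul, h, mul_one]
    exfalso
    have e1' : f ρ * f z * (f ρ)⁻¹ = f z * f u := by rw [← h, ← map_mul f z r, ← hre]; simp only [map_mul, map_inv]
    have e2' : f ρ * f u * (f ρ)⁻¹ = f u := by rw [← map_inv, ← map_mul, ← map_mul, hfix u hu ρ]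
    have h3 : f ρ * (f ρ * (f ρ * f z * (f ρ)⁻¹) * (f ρ)⁻¹) * (f ρ)⁻¹ = f z * f u := by
      rw [e1', show f ρ * (f z * f u) * (f ρ)⁻¹ = f ρ * f z * (f ρ)⁻¹ * (f ρ * f u * (f ρ)⁻¹) by group, e1', e2',
        mul_assoc (f z), hfsq u huS, mul_one, e1']
    rw [show f ρ * (f ρ * (f ρ * f z * (f ρ)⁻¹) * (f ρ)⁻¹) * (f ρ)⁻¹ =
      (f ρ * f ρ * f ρ) * f z * (f ρ * f ρ * f ρ)⁻¹ by group, ← map_mul, ← map_mul, hρ3, map_one] at h3
    simp only [one_mul, inv_one, mul_one, left_eq_mul] at h3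
    exact hu0 ((hf u).mp h3)
  have hstab : ∀ x : X, (F.π x).mulVec e1 = e1 → f (x * z * x⁻¹) = f z := by
    intro x hx
    obtain ⟨i, j, k, l, h⟩ := stab_e1 _ (by rw [det3_eq, F.det_pi]) hx
    rw [← hSt]
    have hm : σ ^ (i : ℕ) * ρ ^ (j : ℕ) * σ ^ (k : ℕ) * ρ ^ (l : ℕ) ∈ St :=
      mul_mem (mul_mem (mul_mem (pow_mem hσSt _) (pow_mem hρSt _)) (pow_mem hσSt _)) (pow_mem hρSt _)
    have hq := hQSt (F.congr_Q (x := x) (y := σ ^ (i : ℕ) * ρ ^ (j : ℕ) * σ ^ (k : ℕ) * ρ ^ (l : ℕ))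
      (by rw [h]; simp only [map_mul, map_pow, hσ, hρ]))
    have := mul_mem hm hq
    rwa [mul_inv_cancel_left] at this
  -- the distinguished lifts
  let T : X → Prop := fun p => ∃ x : X, f p = f (x * z * x⁻¹)
  have hTconj : ∀ x p, T p → T (x * p * x⁻¹) := by
    rintro x p ⟨y, hy⟩
    refine ⟨x * y, ?_⟩
    simp only [map_mul, map_inv] at hy ⊢
    rw [hy]; group
  have hcT : ∀ p ∈ S, ∀ q ∈ S, f p = f q → C.c p = C.c q := fun p hp q hq h =>
    (C.eq_iff hp hq).mpr (hR0 (hfeq.mp h))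
  have hTuniq : ∀ p ∈ S, ∀ q ∈ S, T p → T q → C.c p = C.c q → f p = f q := by
    rintro p hp q hq ⟨x, hx⟩ ⟨y, hy⟩ h
    rw [hcT p hp _ (C.conj x z hzS) hx, hcT q hq _ (C.conj y z hzS) hy, ← C.act x z hzS, ← C.act y z hzS, hz] at h
    have h' : (F.π (y⁻¹ * x)).mulVec e1 = e1 := by
      rw [map_mul, ← Matrix.mulVec_mulVec, h, Matrix.mulVec_mulVec, ← map_mul, inv_mul_cancel, map_one, Matrix.one_mulVec]
    have h'' := hstab _ h'
    rw [hx, hy]
    simp only [map_mul, map_inv] at h'' ⊢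
    calc f x * f z * (f x)⁻¹ = f y * ((f y)⁻¹ * f x * f z * ((f y)⁻¹ * f x)⁻¹) * (f y)⁻¹ := by group
      _ = f y * f z * (f y)⁻¹ := by rw [h'']
  have hTex : ∀ v : V3, v ≠ 0 → ∃ p ∈ S, T p ∧ C.c p = v := by
    intro v hv
    obtain ⟨A, hA, hAe⟩ := trans_point v hv
    obtain ⟨x, rfl⟩ := F.surj' A hA
    exact ⟨x * z * x⁻¹, C.conj x z hzS, ⟨x, rfl⟩, by rw [← C.act x z hzS, hz, hAe]⟩
  obtain ⟨a1, ha1, hTa1, hca1⟩ := hTex e1 (by decide)
  obtain ⟨a2, ha2, hTa2, hca2⟩ := hTex e2 (by decide)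
  obtain ⟨a3, ha3, hTa3, hca3⟩ := hTex (e1 + e2) (by decide)
  obtain ⟨t, htdef⟩ : ∃ t, t = a1 * a2 * a3 := ⟨_, rfl⟩
  have ht : t ∈ R := by
    refine (C.ker t (htdef ▸ mul_mem (mul_mem ha1 ha2) ha3)).mp ?_
    rw [htdef, C.add _ (mul_mem ha1 ha2) _ ha3, C.add _ ha1 _ ha2, hca1, hca2, hca3, CharTwo.add_self_eq_zero]
  have htS : t ∈ S := C.le ht
  have htriple : ∀ p ∈ S, ∀ q ∈ S, ∀ r ∈ S, T p → T q → T r → C.c p ≠ 0 → C.c q ≠ 0 → C.c p ≠ C.c q →
      C.c r = C.c p + C.c q → f p * f q * f r = f t := by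
    intro p hp q hq r hr hTp hTq hTr hp0 hq0 hpq hrc
    obtain ⟨A, hA, hA1, hA2⟩ := trans_pair _ _ hp0 hq0 hpq
    obtain ⟨x, rfl⟩ := F.surj' A hA
    have e1' := hTuniq p hp _ (C.conj x a1 ha1) hTp (hTconj x a1 hTa1) (by rw [← C.act x a1 ha1, hca1, hA1])
    have e2' := hTuniq q hq _ (C.conj x a2 ha2) hTq (hTconj x a2 hTa2) (by rw [← C.act x a2 ha2, hca2, hA2])
    have e3' := hTuniq r hr _ (C.conj x a3 ha3) hTr (hTconj x a3 hTa3)
      (by rw [← C.act x a3 ha3, hca3, Matrix.mulVec_add, hA1, hA2, hrc])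
    rw [e1', e2', e3', ← hfix t ht x, htdef]
    simp only [map_mul, map_inv]
    group
  let P : X → Prop := fun p => p ∈ S ∧ (f p = 1 ∨ ∃ s ∈ S, T s ∧ C.c p = C.c s ∧ C.c p ≠ 0 ∧ f p = f s * f t)
  let E : Subgroup X :=
    { carrier := {p | P p}
      one_mem' := ⟨one_mem _, Or.inl f.map_one⟩
      mul_mem' := by
        rintro p q ⟨hp, hp'⟩ ⟨hq, hq'⟩
        refine ⟨mul_mem hp hq, ?_⟩
        rcases hp' with hp' | ⟨s, hs, hTs, hcs, hp0, hfp⟩
        · rcases hq' with hq' | ⟨s, hs, hTs, hcs, hq0, hfq⟩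
          · left; rw [map_mul, hp', hq', one_mul]
          · right
            have hcpq : C.c (p * q) = C.c q := by
              rw [C.add p hp q hq, (C.ker p hp).mpr (hR0 ((hf p).mp hp')), zero_add]
            exact ⟨s, hs, hTs, hcpq.trans hcs, by rwa [hcpq], by rw [map_mul, hp', one_mul, hfq]⟩
        rcases hq' with hq' | ⟨s', hs', hTs', hcs', hq0, hfq⟩
        · right
          have hcpq : C.c (p * q) = C.c p := by
            rw [C.add p hp q hq, (C.ker q hq).mpr (hR0 ((hf q).mp hq')), add_zero]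
          exact ⟨s, hs, hTs, hcpq.trans hcs, by rwa [hcpq], by rw [map_mul, hq', mul_one, hfp]⟩
        by_cases he : C.c p = C.c q
        · left
          rw [map_mul, hfp, hfq, hTuniq s hs s' hs' hTs hTs' (by rw [← hcs, ← hcs', he]), ← map_mul]
          exact hfsq _ (mul_mem hs' htS)
        right
        have hne : C.c p + C.c q ≠ 0 := fun h => he (CharTwo.add_eq_zero.mp h)
        obtain ⟨r, hr, hTr, hcr⟩ := hTex _ hne
        refine ⟨r, hr, hTr, by rw [C.add p hp q hq, hcr], by rw [C.add p hp q hq]; exact hne, ?_⟩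
        have h3 := htriple s hs s' hs' r hr hTs hTs' hTr (hcs ▸ hp0) (hcs' ▸ hq0) (by rw [← hcs, ← hcs']; exact he)
          (by rw [hcr, hcs, hcs'])
        calc f (p * q) = f s * (f t * f s') * f t := by rw [map_mul, hfp, hfq]; group
          _ = f s * f s' * (f t * f t) := by rw [hfc t htS s' hs']; group
          _ = f s * f s' * (f r * f r) := by rw [hfsq t htS, hfsq r hr]
          _ = f t * f r := by rw [← mul_assoc, h3]
          _ = f r * f t := hfc t htS r hr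
      inv_mem' := by
        rintro p ⟨hp, hp'⟩
        have he : f p⁻¹ = f p := by rw [map_inv]; exact inv_eq_of_mul_eq_one_right (hfsq p hp)
        refine ⟨inv_mem hp, hp'.imp (fun h => by rw [he, h]) ?_⟩
        rintro ⟨s, hs, hTs, hcs, hp0, hfp⟩
        exact ⟨s, hs, hTs, by rw [C.inv hp, hcs], by rwa [C.inv hp], by rw [he, hfp]⟩ }
  refine ⟨E, ⟨?_⟩, fun r hr => ⟨C.le (hR0 hr), Or.inl ((hf r).mpr hr)⟩, fun p hp => hp.1, ?_, ?_⟩
  · rintro p ⟨hp, hp'⟩ x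
    refine ⟨C.conj x p hp, ?_⟩
    rcases hp' with h | ⟨s, hs, hTs, hcs, hp0, hfp⟩
    · left; rw [map_mul, map_mul, map_inv, h]; group
    · right
      refine ⟨x * s * x⁻¹, C.conj x s hs, hTconj x s hTs, by rw [← C.act x p hp, ← C.act x s hs, hcs], ?_, ?_⟩
      · rw [← C.act x p hp]
        intro h
        refine hp0 ?_
        have h1 : (F.π x⁻¹).mulVec ((F.π x).mulVec (C.c p)) = 0 := by rw [h, Matrix.mulVec_zero]
        rwa [Matrix.mulVec_mulVec, ← map_mul, inv_mul_cancel, map_one, Matrix.one_mulVec] at h1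
      · have e := hfix t ht x
        simp only [map_mul, map_inv] at e ⊢
        rw [hfp, show f x * (f s * f t) * (f x)⁻¹ = f x * f s * (f x)⁻¹ * (f x * f t * (f x)⁻¹) by group, e]
  · rintro ⟨-, h | ⟨s, hs, hTs, hcs, hp0, -⟩⟩
    · exact hu0 ((hf u).mp h)
    · exact hp0 ((C.ker u huS).mpr hu)
  · intro p hp
    have hu2 : f u⁻¹ = f u := by rw [map_inv]; exact inv_eq_of_mul_eq_one_right (hfsq u huS)
    by_cases h0 : C.c p = 0
    · rcases hRS p ((C.ker p hp).mp h0) with h | h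
      · exact Or.inl ⟨hp, Or.inl h⟩
      · exact Or.inr ⟨mul_mem (inv_mem huS) hp, Or.inl (by rw [map_mul, hu2, h, hfsq u huS])⟩
    obtain ⟨s, hs, hTs, hcs⟩ := hTex _ h0
    obtain ⟨r, hr, hre⟩ : ∃ r ∈ R, p = s * t * r :=
      ⟨_, (C.eq_iff hp (mul_mem hs htS)).mp (by rw [C.add s hs t htS, (C.ker t htS).mpr ht, add_zero, hcs]),
        (mul_inv_cancel_left _ _).symm⟩
    rcases hRS r hr with h | h
    · exact Or.inl ⟨hp, Or.inr ⟨s, hs, hTs, hcs.symm, h0, by rw [hre, map_mul, map_mul, h, mul_one]⟩⟩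
    · right
      have hcu : C.c (u⁻¹ * p) = C.c p := by rw [C.add _ (inv_mem huS) p hp, C.inv huS, (C.ker u huS).mpr hu, zero_add]
      refine ⟨mul_mem (inv_mem huS) hp, Or.inr ⟨s, hs, hTs, hcu.trans hcs.symm, by rwa [hcu], ?_⟩⟩
      rw [map_mul, hu2, hre, map_mul, h, map_mul, ← mul_assoc, ← map_mul f s t, hfc u huS (s * t) (mul_mem hs htS),
        mul_assoc, hfsq u huS, mul_one, map_mul]

end Cfsg.Agent.Sec62
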