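import Cfsg.Agent.Sec62.Mat
import Cfsg.Agent.FGS82.MetacyclicTwo
import Cfsg.Agent.Lib.LinearGroup.Card
import Cfsg.Agent.Lib.LinearGroup.Simple
import Cfsg.Prelude.Def_CaseTheorems

/-!
Coordinates for a section of a normal subgroup on which the quotient acts as the full linear group of
dimension three over the field with two elements.
-/

set_option autoImplicit false
set_option linter.style.haveILetI false
set_option linter.unusedSectionVars false

namespace Cfsg.Agent.Sec62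

universe u

variable {X : Type u} [Group X]

/-- `X / Q` is identified with the invertible matrices. -/
structure Frame (Q : Subgroup X) where
  π : X →* M3
  ker : ∀ x, π x = 1 ↔ x ∈ Q
  surj : ∀ M : M3, M.det = 1 → ∃ x, π x = M

/-- coordinates on the section `S / R` compatible with the frame -/
structure Coord {Q : Subgroup X} (F : Frame Q) (S R : Subgroup X) where
  c : X → V3
  le : R ≤ S
  conj : ∀ x : X, ∀ p ∈ S, x * p * x⁻¹ ∈ S
  add : ∀ p ∈ S, ∀ q ∈ S, c (p * q) = c p + c q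
  ker : ∀ p ∈ S, c p = 0 ↔ p ∈ R
  surj : ∀ v : V3, ∃ p ∈ S, c p = v
  act : ∀ x : X, ∀ p ∈ S, (F.π x).mulVec (c p) = c (x * p * x⁻¹)

theorem card_psl {K : Type*} [Field K] [Fintype K] (hK : Fintype.card K = 2) :
    Nat.card (Matrix.ProjectiveSpecialLinearGroup (Fin 3) K) = 168 := by
  have h := LinearGroup.gcd_mul_card_PSL (F := K) (n := Fin 3)
  have hK' : Nat.card K = 2 := by rw [Nat.card_eq_fintype_card, hK]
  rw [LinearGroup.card_SL_eq_pow_mul_prod 2, hK', Fintype.card_fin] at h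
  simpa [Finset.prod_range_succ, Fin.sum_univ_three] using h

theorem big_of_iso {Q : Subgroup X} [Q.Normal] {K : Type*} [Field K] [Fintype K] (hK : Fintype.card K = 2)
    (e : X ⧸ Q ≃* Matrix.ProjectiveSpecialLinearGroup (Fin 3) K) :
    IsSimpleGroup (X ⧸ Q) ∧ Nat.card (X ⧸ Q) = 168 := by
  haveI := LinearGroup.isSimpleGroup_PSL_of_three_le (F := K) (ι := Fin 3) (by simp)
  haveI : Nontrivial (X ⧸ Q) := e.toEquiv.nontrivial
  exact ⟨IsSimpleGroup.isSimpleGroup_of_surjective e.symm.toMonoidHom e.symm.surjective,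
    by rw [Nat.card_congr e.toEquiv, card_psl hK]⟩

theorem sq_comm {G : Type*} [Group G] (h : ∀ a : G, a * a = 1) (a b : G) : a * b = b * a := by
  have h' := h (a * b)
  calc a * b = (a * b)⁻¹ := (inv_eq_of_mul_eq_one_right h').symm
    _ = b⁻¹ * a⁻¹ := mul_inv_rev a b
    _ = b * a := by rw [inv_eq_of_mul_eq_one_right (h a), inv_eq_of_mul_eq_one_right (h b)]

theorem exists_basis {W : Type*} [CommGroup W] [Finite W] (hW2 : ∀ w : W, w * w = 1) (hWc : Nat.card W = 8) :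
    ∃ (e : W → V3) (N : (W →* W) → M3), Function.Bijective e ∧ (∀ u v, e (u * v) = e u + e v) ∧
      N (MonoidHom.id W) = 1 ∧ (∀ g h, N (g.comp h) = N g * N h) ∧ ∀ g v, (N g).mulVec (e v) = e (g v) := by
  classical
  haveI := Fact.mk Nat.prime_two
  haveI : Module (ZMod 2) (Additive W) :=
    AddCommGroup.zmodModule (fun w => by rw [two_nsmul]; exact congrArg Additive.ofMul (hW2 w.toMul))
  haveI : Module.Finite (ZMod 2) (Additive W) := Module.Finite.of_finite
  have hd : Module.finrank (ZMod 2) (Additive W) = 3 := by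
    have hh : Nat.card (Additive W) = 2 ^ 3 := (Nat.card_congr Additive.toMul).trans hWc
    rw [Module.natCard_eq_pow_finrank (K := ZMod 2), Nat.card_zmod] at hh
    exact Nat.pow_right_injective le_rfl hh
  let b : Module.Basis (Fin 3) (ZMod 2) (Additive W) :=
    (Module.finBasis (ZMod 2) (Additive W)).reindex (finCongr hd)
  let L : (W →* W) → (Additive W →ₗ[ZMod 2] Additive W) :=
    fun g => AddMonoidHom.toZModLinearMap 2 (MonoidHom.toAdditive g)
  refine ⟨fun v => b.equivFun (Additive.ofMul v), fun g => LinearMap.toMatrixAlgEquiv b (L g),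
    b.equivFun.bijective.comp Additive.ofMul.bijective, fun u v => map_add b.equivFun _ _, ?_, fun g h => ?_,
    fun g v => ?_⟩
  · show LinearMap.toMatrixAlgEquiv b (L (MonoidHom.id W)) = 1
    rw [show L (MonoidHom.id W) = LinearMap.id from LinearMap.ext fun _ => rfl]
    exact LinearMap.toMatrixAlgEquiv_id b
  · show LinearMap.toMatrixAlgEquiv b (L (g.comp h)) = _
    rw [show L (g.comp h) = (L g).comp (L h) from LinearMap.ext fun _ => rfl]
    exact LinearMap.toMatrixAlgEquiv_comp b (L g) (L h)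
  · simp only [Module.Basis.equivFun_apply]
    exact LinearMap.toMatrix_mulVec_repr b b (L g) (Additive.ofMul v)

/-- coordinates and matrices of the conjugation action on `S / R` -/
theorem exists_rep [Finite X] {S R : Subgroup X} [hSn : S.Normal] [R.Normal] (hRS : R ≤ S)
    (h8 : Nat.card S = 8 * Nat.card R) (hsq : ∀ p ∈ S, p * p ∈ R) :
    ∃ (π : X →* M3) (c : X → V3), (∀ p ∈ S, ∀ q ∈ S, c (p * q) = c p + c q) ∧ (∀ p ∈ S, c p = 0 ↔ p ∈ R) ∧
      (∀ v : V3, ∃ p ∈ S, c p = v) ∧ ∀ x : X, ∀ p ∈ S, (π x).mulVec (c p) = c (x * p * x⁻¹) := by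
  classical
  obtain ⟨f, hfdef⟩ : ∃ f : S →* X ⧸ R, f = (QuotientGroup.mk' R).comp S.subtype := ⟨_, rfl⟩
  have hfa : ∀ p : S, f p = ((p : X) : X ⧸ R) := fun p => by rw [hfdef]; rfl
  have hf1 : ∀ p : S, f p = 1 ↔ (p : X) ∈ R := fun p => by rw [hfa]; exact QuotientGroup.eq_one_iff _
  have hW2 : ∀ w : f.range, w * w = 1 := by
    rintro ⟨w, p, rfl⟩
    refine Subtype.ext ?_
    show f p * f p = 1
    rw [← map_mul]
    exact (hf1 _).mpr (hsq _ p.2)
  letI : CommGroup f.range := { (inferInstance : Group f.range) with mul_comm := sq_comm hW2 }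
  have hWc : Nat.card f.range = 8 := by
    have hker : Nat.card f.ker = Nat.card R := by
      refine Nat.card_congr ⟨fun p => ⟨p.1.1, (hf1 _).mp p.2⟩,
        fun r => ⟨⟨r.1, hRS r.2⟩, (hf1 _).mpr r.2⟩, fun p => rfl, fun r => rfl⟩
    have h := Subgroup.card_mul_index f.ker
    rw [Subgroup.index_ker, hker, h8, mul_comm 8] at h
    exact Nat.eq_of_mul_eq_mul_left Nat.card_pos h
  obtain ⟨e, N, he, hadd, hN1, hNc, hNe⟩ := exists_basis hW2 hWc
  have hmem : ∀ (x : X) (v : f.range), (x : X ⧸ R) * v * (x : X ⧸ R)⁻¹ ∈ f.range := by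
    rintro x ⟨v, p, rfl⟩
    exact ⟨⟨x * p * x⁻¹, hSn.conj_mem p p.2 x⟩, by simp [hfa]⟩
  let α : X → (f.range →* f.range) := fun x =>
    MonoidHom.mk' (fun v => ⟨(x : X ⧸ R) * v * (x : X ⧸ R)⁻¹, hmem x v⟩)
      (fun u v => Subtype.ext (by simp [mul_assoc]))
  have hα1 : α 1 = MonoidHom.id f.range := MonoidHom.ext fun v => Subtype.ext (by simp [α])
  have hαm : ∀ x y, α (x * y) = (α x).comp (α y) := fun x y =>
    MonoidHom.ext fun v => Subtype.ext (by simp [α, mul_assoc])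
  let c : X → V3 := fun p => if hp : p ∈ S then e ⟨f ⟨p, hp⟩, _, rfl⟩ else 0
  have hc : ∀ p (hp : p ∈ S), c p = e ⟨f ⟨p, hp⟩, _, rfl⟩ := fun p hp => dif_pos hp
  have he1 : e 1 = 0 := by
    have h := hadd 1 1
    rwa [mul_one, CharTwo.add_self_eq_zero] at h
  refine ⟨{ toFun := fun x => N (α x)
            map_one' := by rw [hα1, hN1]
            map_mul' := fun x y => by rw [hαm, hNc] }, c, ?_, ?_, ?_, ?_⟩
  · intro p hp q hq
    rw [hc p hp, hc q hq, hc _ (mul_mem hp hq), ← hadd]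
    exact congrArg e (Subtype.ext (map_mul f ⟨p, hp⟩ ⟨q, hq⟩))
  · intro p hp
    rw [hc p hp, ← he1, he.1.eq_iff]
    exact ⟨fun h => (hf1 ⟨p, hp⟩).mp (congrArg Subtype.val h), fun h => Subtype.ext ((hf1 ⟨p, hp⟩).mpr h)⟩
  · intro v
    obtain ⟨⟨w, p, rfl⟩, rfl⟩ := he.2 v
    exact ⟨p, p.2, hc _ p.2⟩
  · intro x p hp
    rw [hc p hp, hc _ (hSn.conj_mem p hp x)]
    show (N (α x)).mulVec _ = _
    rw [hNe]
    exact congrArg e (Subtype.ext (by simp [α, hfa]))

theorem surj_of_card {M : Type*} [Monoid M] [Finite M] [Finite X] (π : X →* M) (P : M → Prop) (hP : ∀ x, P (π x))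
    (hc : Nat.card (X ⧸ π.ker) = Nat.card (Subtype P)) (m : M) (hm : P m) : ∃ x, π x = m := by
  let g : X ⧸ π.ker → Subtype P := fun v => ⟨π v.out, hP _⟩
  have hg : Function.Injective g := fun u v h => by
    have h1 : π u.out = π v.out := congrArg Subtype.val h
    rw [← QuotientGroup.out_eq' u, ← QuotientGroup.out_eq' v, QuotientGroup.eq, MonoidHom.mem_ker, map_mul, ← h1,
      ← map_mul, inv_mul_cancel, map_one]
  obtain ⟨v, hv⟩ := ((Nat.bijective_iff_injective_and_card g).mpr ⟨hg, hc⟩).2 ⟨m, hm⟩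
  exact ⟨v.out, congrArg Subtype.val hv⟩

theorem exists_frame [Finite X] {Q : Subgroup X} [Q.Normal] [hs : IsSimpleGroup (X ⧸ Q)]
    (hcard : Nat.card (X ⧸ Q) = 168) {S R : Subgroup X} [hSn : S.Normal] [R.Normal] (hRS : R ≤ S)
    (h8 : Nat.card S = 8 * Nat.card R) (hsq : ∀ p ∈ S, p * p ∈ R)
    (hQ : ∀ q ∈ Q, ∀ p ∈ S, q * p * q⁻¹ * p⁻¹ ∈ R) (hne : ∃ x, ∃ p ∈ S, x * p * x⁻¹ * p⁻¹ ∉ R) :
    ∃ F : Frame Q, Nonempty (Coord F S R) := by
  obtain ⟨π, c, hadd, hkc, hsurjc, hact⟩ := exists_rep hRS h8 hsq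
  have hneg : ∀ p ∈ S, c p⁻¹ = c p := by
    intro p hp
    have h1 : c (p⁻¹ * p) = 0 := by rw [inv_mul_cancel]; exact (hkc 1 (one_mem _)).mpr (one_mem _)
    rw [hadd _ (inv_mem hp) _ hp] at h1
    rw [eq_neg_of_add_eq_zero_left h1, CharTwo.neg_eq]
  have hd' : ∀ x : X, ∀ p ∈ S, c (x * p * x⁻¹ * p⁻¹) = (π x).mulVec (c p) + c p := fun x p hp => by
    rw [hadd _ (hSn.conj_mem p hp x) _ (inv_mem hp), hneg p hp, hact x p hp]
  have hfix : ∀ x : X, π x = 1 ↔ ∀ p ∈ S, x * p * x⁻¹ * p⁻¹ ∈ R := by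
    intro x
    constructor
    · intro h p hp
      rw [← hkc _ (mul_mem (hSn.conj_mem p hp x) (inv_mem hp)), hd' x p hp, h, Matrix.one_mulVec,
        CharTwo.add_self_eq_zero]
    · intro h
      ext i j
      obtain ⟨p, hp, hpv⟩ := hsurjc (Pi.single j 1)
      have h2 := (hkc _ (mul_mem (hSn.conj_mem p hp x) (inv_mem hp))).mpr (h p hp)
      rw [hd' x p hp, hpv, CharTwo.add_eq_zero, Matrix.mulVec_single_one] at h2
      simpa [Matrix.one_apply, Pi.single_apply] using congrFun h2 i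
  have hQker : Q ≤ π.ker := fun q hq => (hfix q).mpr (hQ q hq)
  have hker : π.ker = Q := by
    refine le_antisymm ?_ hQker
    rcases hs.eq_bot_or_eq_top_of_normal (π.ker.map (QuotientGroup.mk' Q))
      ((MonoidHom.normal_ker π).map _ (QuotientGroup.mk'_surjective Q)) with h | h
    · intro x hx
      exact (QuotientGroup.eq_one_iff x).mp
        (Subgroup.mem_bot.mp (h ▸ Subgroup.mem_map_of_mem (QuotientGroup.mk' Q) hx))
    · exfalso
      obtain ⟨x, p, hp, hxp⟩ := hne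
      obtain ⟨y, hy, hyx⟩ := h.ge (Subgroup.mem_top (QuotientGroup.mk' Q x))
      have hq : y⁻¹ * x ∈ Q := QuotientGroup.eq.mp hyx
      have : π x = 1 := by
        rw [show x = y * (y⁻¹ * x) by group, map_mul, MonoidHom.mem_ker.mp hy,
          MonoidHom.mem_ker.mp (hQker hq), one_mul]
      exact hxp ((hfix x).mp this p hp)
  have hdet : ∀ x, det3 (π x) = 1 := fun x => by rw [det3_eq]; exact det_eq_one ((Group.isUnit x).map π)
  refine ⟨⟨π, fun x => ?_, fun M hM => ?_⟩,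
    ⟨⟨c, hRS, fun x p hp => hSn.conj_mem p hp x, hadd, hkc, hsurjc, hact⟩⟩⟩
  · rw [← MonoidHom.mem_ker, hker]
  · exact surj_of_card π (fun M => det3 M = 1) hdet
      (by rw [hker, hcard, card_det_one]) M (by rw [det3_eq, hM])

variable {Q : Subgroup X}

namespace Frame

variable (F : Frame Q)

theorem congr_Q {x y : X} (h : F.π x = F.π y) : y⁻¹ * x ∈ Q := by
  refine (F.ker _).mp ?_
  rw [map_mul, h, ← map_mul, inv_mul_cancel, map_one]

theorem det_pi (x : X) : (F.π x).det = 1 := det_eq_one ((Group.isUnit x).map F.π)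

theorem surj' (M : M3) (h : det3 M = 1) : ∃ x, F.π x = M := F.surj M (by rw [← det3_eq, h])

theorem exists_comm {M : M3} (h : ∃ A A' B B' : M3, A * A' = 1 ∧ B * B' = 1 ∧ A * B * A' * B' = M) :
    ∃ x ∈ commutator X, F.π x = M := by
  obtain ⟨A, A', B, B', hA, hB, rfl⟩ := h
  obtain ⟨a, ha⟩ := F.surj A (det_eq_one (IsUnit.of_mul_eq_one _ hA))
  obtain ⟨b, hb⟩ := F.surj B (det_eq_one (IsUnit.of_mul_eq_one _ hB))
  have ea : F.π a⁻¹ = A' := left_inv_eq_right_inv (by rw [← map_mul, inv_mul_cancel, map_one]) (ha ▸ hA)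
  have eb : F.π b⁻¹ = B' := left_inv_eq_right_inv (by rw [← map_mul, inv_mul_cancel, map_one]) (hb ▸ hB)
  refine ⟨a * b * a⁻¹ * b⁻¹, ?_, by rw [map_mul, map_mul, map_mul, ha, hb, ea, eb]⟩
  rw [← commutatorElement_def]
  exact Subgroup.commutator_mem_commutator (Subgroup.mem_top a) (Subgroup.mem_top b)

theorem exists_rho [Finite X] (hQ : IsPGroup 2 Q) : ∃ r : X, F.π r = mR ∧ r * r * r = 1 := by
  obtain ⟨r₀, hr₀⟩ := F.surj mR det_R
  have h3 : r₀ ^ 3 ∈ Q := (F.ker _).mp (by rw [pow_succ, pow_two, map_mul, map_mul, hr₀, R_three])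
  obtain ⟨k, hk⟩ := hQ ⟨r₀ ^ 3, h3⟩
  have hk' : (r₀ ^ 3) ^ 2 ^ k = 1 := by simpa using congrArg Subtype.val hk
  refine ⟨r₀ ^ 4 ^ k, ?_, ?_⟩
  · rw [map_pow, hr₀]
    obtain ⟨t, ht⟩ : ∃ t, 4 ^ k = 3 * t + 1 := ⟨4 ^ k / 3, by
      have : 4 ^ k % 3 = 1 := by rw [Nat.pow_mod]; simp
      omega⟩
    rw [ht, pow_succ, pow_mul, show mR ^ 3 = 1 by rw [pow_succ, pow_two]; exact R_three, one_pow, one_mul]
  · rw [show r₀ ^ 4 ^ k * r₀ ^ 4 ^ k * r₀ ^ 4 ^ k = (r₀ ^ 3) ^ (4 ^ k) by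
      rw [← pow_add, ← pow_add, ← pow_mul]; ring_nf]
    rw [show (4 : ℕ) ^ k = 2 ^ k * 2 ^ k by rw [← mul_pow]; norm_num, pow_mul, hk', one_pow]

end Frame

namespace Coord

variable {F : Frame Q} {S R : Subgroup X} (C : Coord F S R)

theorem one : C.c 1 = 0 := (C.ker 1 (one_mem _)).mpr (one_mem _)

theorem inv {p : X} (hp : p ∈ S) : C.c p⁻¹ = C.c p := by
  have h1 : C.c (p⁻¹ * p) = 0 := by rw [inv_mul_cancel]; exact C.one
  rw [C.add _ (inv_mem hp) _ hp] at h1
  rw [eq_neg_of_add_eq_zero_left h1, CharTwo.neg_eq]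

theorem eq_iff {p q : X} (hp : p ∈ S) (hq : q ∈ S) : C.c p = C.c q ↔ q⁻¹ * p ∈ R := by
  rw [← C.ker _ (mul_mem (inv_mem hq) hp), C.add _ (inv_mem hq) _ hp, C.inv hq, CharTwo.add_eq_zero, eq_comm]

theorem div {x p : X} (hp : p ∈ S) : C.c (x * p * x⁻¹ * p⁻¹) = (F.π x).mulVec (C.c p) - C.c p := by
  rw [C.add _ (C.conj x p hp) _ (inv_mem hp), ← C.act x p hp, C.inv hp, sub_eq_add_neg, CharTwo.neg_eq]

end Coord

theorem rank_sub {k : ℕ} (h : Cfsg.SectionalPRankLE 2 k X) (H : Subgroup X) :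
    Cfsg.SectionalPRankLE 2 k H := by
  intro K N _ A _ hA2
  refine FGS82.ea_image_le h (H.subtype.comp (K.subtype.comp (A.comap (QuotientGroup.mk' N)).subtype))
    ((Subgroup.subtype_injective H).comp ((Subgroup.subtype_injective K).comp (Subgroup.subtype_injective _)))
    ((QuotientGroup.mk' N).subgroupComap A)
    (MonoidHom.subgroupComap_surjective_of_surjective _ _ (QuotientGroup.mk'_surjective N))
    (fun a => Subtype.ext (by simpa [pow_two] using hA2 _ a.2))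

end Cfsg.Agent.Sec62
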