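import Cfsg.Agent.Sec62.Frame
import Cfsg.Agent.Lib.Thompson.Cores

/-!
Elementary facts about normal subgroups with simple quotient of order 168.
-/

set_option autoImplicit false
set_option linter.style.haveILetI false

namespace Cfsg.Agent.Sec62

variable {X : Type*} [Group X] [Finite X] {Q : Subgroup X}

theorem not_comm_quot [Q.Normal] [hs : IsSimpleGroup (X ⧸ Q)] (hcard : Nat.card (X ⧸ Q) = 168) :
    ¬ ∀ x y : X, (x * y)⁻¹ * (y * x) ∈ Q := by
  intro h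
  letI : CommGroup (X ⧸ Q) := { (inferInstance : Group (X ⧸ Q)) with
    mul_comm := fun a b => by
      obtain ⟨x, rfl⟩ := QuotientGroup.mk_surjective a
      obtain ⟨y, rfl⟩ := QuotientGroup.mk_surjective b
      exact QuotientGroup.eq.mpr (h x y) }
  haveI : IsSimpleGroup (X ⧸ Q) := hs
  have := IsSimpleGroup.prime_card (α := X ⧸ Q)
  rw [hcard] at this
  norm_num at this

/-- an element acting trivially on `Q / M` lies in `Q` once some element acts nontrivially -/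
theorem ker_act [Q.Normal] [hs : IsSimpleGroup (X ⧸ Q)] (M : Subgroup X) [hM : M.Normal]
    (hQQ : ∀ p ∈ Q, ∀ q ∈ Q, p * q * p⁻¹ * q⁻¹ ∈ M) (hne : ∃ x : X, ∃ q ∈ Q, x * q * x⁻¹ * q⁻¹ ∉ M) :
    ∀ x : X, (∀ q ∈ Q, x * q * x⁻¹ * q⁻¹ ∈ M) → x ∈ Q := by
  let N : Subgroup X :=
    { carrier := {x | ∀ q ∈ Q, x * q * x⁻¹ * q⁻¹ ∈ M}
      one_mem' := fun q _ => by simp
      mul_mem' := fun {x y} hx hy q hq => by
        have h1 := hM.conj_mem _ (hy q hq) x
        have h2 := mul_mem h1 (hx q hq)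
        rwa [show x * (y * q * y⁻¹ * q⁻¹) * x⁻¹ * (x * q * x⁻¹ * q⁻¹) = (x * y) * q * (x * y)⁻¹ * q⁻¹ by group] at h2
      inv_mem' := fun {x} hx q hq => by
        have h2 := inv_mem (hM.conj_mem _ (hx q hq) x⁻¹)
        rwa [inv_inv, show (x⁻¹ * (x * q * x⁻¹ * q⁻¹) * x)⁻¹ = x⁻¹ * q * x⁻¹⁻¹ * q⁻¹ by group] at h2 }
  have hN : N.Normal := ⟨fun x hx g q hq => by
    have h := hM.conj_mem _ (hx _ (‹Q.Normal›.conj_mem q hq g⁻¹)) g
    rwa [inv_inv, show g * (x * (g⁻¹ * q * g) * x⁻¹ * (g⁻¹ * q * g)⁻¹) * g⁻¹ =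
      g * x * g⁻¹ * q * (g * x * g⁻¹)⁻¹ * q⁻¹ by group] at h⟩
  intro x hx
  rcases hs.eq_bot_or_eq_top_of_normal (N.map (QuotientGroup.mk' Q))
    (hN.map _ (QuotientGroup.mk'_surjective Q)) with h | h
  · exact (QuotientGroup.eq_one_iff x).mp
      (Subgroup.mem_bot.mp (h ▸ Subgroup.mem_map_of_mem (QuotientGroup.mk' Q) (show x ∈ N from hx)))
  · obtain ⟨g, q, hq, hg⟩ := hne
    obtain ⟨y, hy, hyg⟩ := h.ge (Subgroup.mem_top (QuotientGroup.mk' Q g))
    have : g ∈ N := by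
      have := mul_mem hy (show y⁻¹ * g ∈ N from fun q hq => hQQ _ (QuotientGroup.eq.mp hyg) q hq)
      rwa [mul_inv_cancel_left] at this
    exact absurd (this q hq) hg

/-- the action is nontrivial on at least one factor of a two step series -/
theorem nontrivial_factor [Q.Normal] [IsSimpleGroup (X ⧸ Q)] (hcard : Nat.card (X ⧸ Q) = 168)
    (M : Subgroup X) [hM : M.Normal] (hQQ : ∀ p ∈ Q, ∀ q ∈ Q, p * q * p⁻¹ * q⁻¹ ∈ M)
    (hne : ∃ x : X, ∃ q ∈ Q, x * q * x⁻¹ * q⁻¹ ∉ M) (R : Subgroup X) (hRQ : R ≤ Q)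
    (hR : ∀ x : X, ∀ r ∈ R, x * r * x⁻¹ * r⁻¹ ∈ M) : ∃ x : X, ∃ q ∈ Q, x * q * x⁻¹ * q⁻¹ ∉ R := by
  by_contra h
  push Not at h
  refine not_comm_quot hcard fun x y => ker_act M hQQ hne _ fun q hq => ?_
  obtain ⟨f, hfdef⟩ : ∃ f : X →* X ⧸ M, f = QuotientGroup.mk' M := ⟨_, rfl⟩
  have hf : ∀ a, f a = 1 ↔ a ∈ M := fun a => by rw [hfdef]; exact QuotientGroup.eq_one_iff a
  have hRf : ∀ a : X, ∀ r ∈ R, f a * f r * (f a)⁻¹ = f r := fun a r hr => by
    rw [← mul_inv_eq_one]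
    simp only [← map_mul, ← map_inv]
    exact (hf _).mpr (hR a r hr)
  have hQf : ∀ p ∈ Q, ∀ q ∈ Q, f p * f q = f q * f p := fun p hp q hq => by
    rw [← mul_inv_eq_one, mul_inv_rev, ← mul_assoc]
    simp only [← map_mul, ← map_inv]
    exact (hf _).mpr (hQQ p hp q hq)
  -- conjugation moves `q` by commuting elements of `R`
  have hmove : ∀ a : X, ∃ r ∈ R, f a * f q * (f a)⁻¹ = f r * f q := fun a => ⟨_, h a q hq, by
    simp only [← map_mul, ← map_inv]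
    rw [inv_mul_cancel_right]⟩
  obtain ⟨r, hr, hxr⟩ := hmove x
  obtain ⟨s, hs, hys⟩ := hmove y
  have key : f x * (f y * f q * (f y)⁻¹) * (f x)⁻¹ = f y * (f x * f q * (f x)⁻¹) * (f y)⁻¹ := by
    calc f x * (f y * f q * (f y)⁻¹) * (f x)⁻¹ = (f x * f s * (f x)⁻¹) * (f x * f q * (f x)⁻¹) := by rw [hys]; group
      _ = f s * (f r * f q) := by rw [hRf x s hs, hxr]
      _ = f r * (f s * f q) := by rw [← mul_assoc, hQf s (hRQ hs) r (hRQ hr), mul_assoc]
      _ = (f y * f r * (f y)⁻¹) * (f y * f q * (f y)⁻¹) := by rw [hRf y r hr, hys]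
      _ = f y * (f x * f q * (f x)⁻¹) * (f y)⁻¹ := by rw [hxr]; group
  refine (hf _).mp ?_
  simp only [map_mul, map_inv]
  rw [mul_inv_eq_one]
  calc (f x * f y)⁻¹ * (f y * f x) * f q * ((f x * f y)⁻¹ * (f y * f x))⁻¹
      = (f x * f y)⁻¹ * (f y * (f x * f q * (f x)⁻¹) * (f y)⁻¹) * (f x * f y) := by group
    _ = f q := by rw [← key]; group

/-- a quotient of exponent two has order at most sixteen -/
theorem card_le_of_rank {k : ℕ} (h4 : Cfsg.SectionalPRankLE 2 k X) (A B : Subgroup X) [B.Normal]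
    (hsq : ∀ a ∈ A, a * a ∈ B) : Nat.card (((QuotientGroup.mk' B).comp A.subtype).range) ≤ 2 ^ k := by
  refine FGS82.ea_image_le h4 A.subtype (Subgroup.subtype_injective A)
    ((QuotientGroup.mk' B).comp A.subtype).rangeRestrict (MonoidHom.rangeRestrict_surjective _) ?_
  rintro ⟨v, a, rfl⟩
  refine Subtype.ext ?_
  show QuotientGroup.mk' B a * QuotientGroup.mk' B a = 1
  rw [← map_mul]
  exact (QuotientGroup.eq_one_iff _).mpr (hsq _ a.2)

/-- an elementary abelian subgroup has order at most sixteen -/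
theorem card_le_of_invol {k : ℕ} (h4 : Cfsg.SectionalPRankLE 2 k X) (A : Subgroup X)
    (hsq : ∀ a ∈ A, a * a = 1) : Nat.card A ≤ 2 ^ k :=
  FGS82.ea_image_le h4 A.subtype (Subgroup.subtype_injective A) (MonoidHom.id A) Function.surjective_id
    fun a => Subtype.ext (hsq _ a.2)

end Cfsg.Agent.Sec62
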