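import Cfsg.Agent.Sec62.Witness

/-!
Homocyclic natural sections of exponent four.
-/

set_option autoImplicit false
set_option linter.style.haveILetI false

namespace Cfsg.Agent.Sec62

abbrev W4 : Type := Fin 3 → ZMod 4

abbrev M4 : Type := Matrix (Fin 3) (Fin 3) (ZMod 4)

/-- lifts of `mJ` in companion form -/
def companion (α β γ : Fin 2) : M4 :=
  !![1 + 2 * (α.val : ZMod 4), 1, 0; 2 * (β.val : ZMod 4), 1, 1; 2 * (γ.val : ZMod 4), 0, 1]

def det4 (M : M4) : ZMod 4 :=
  M 0 0 * (M 1 1 * M 2 2 - M 1 2 * M 2 1) - M 0 1 * (M 1 0 * M 2 2 - M 1 2 * M 2 0) +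
    M 0 2 * (M 1 0 * M 2 1 - M 1 1 * M 2 0)

theorem det4_eq (M : M4) : det4 M = M.det := by
  rw [Matrix.det_fin_three]; unfold det4; ring

theorem companion_fixed : ∀ α β γ : Fin 2, det4 (companion α β γ) = 1 →
    companion α β γ * companion α β γ * companion α β γ * companion α β γ = 1 →
    ∀ x : W4, (companion α β γ).mulVec x = x →
      ∃ t : ZMod 4, x = (companion α β γ * companion α β γ).mulVec ![0, 0, t] + ![0, 0, t] := by
  decide +kernel

theorem companion_centre : ∀ α β γ : Fin 2, det4 (companion α β γ) = 1 →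
    companion α β γ * companion α β γ * companion α β γ * companion α β γ = 1 →
    ∀ a b c : ZMod 4, 2 * b = 0 → 2 * c = 0 →
      (companion α β γ * companion α β γ).mulVec ![a, b, c] - ![a, b, c] = 0 ∨
        (companion α β γ * companion α β γ).mulVec ![a, b, c] - ![a, b, c] = ![2, 0, 0] := by
  decide +kernel

theorem companion_not_neg : ∀ α β γ : Fin 2, ∃ x : W4,
    (companion α β γ * companion α β γ * companion α β γ * companion α β γ).mulVec x ≠ -x := by
  decide +kernel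

theorem companion_even : ∀ α β γ : Fin 2,
    companion α β γ * companion α β γ * companion α β γ * companion α β γ = 1 →
    ∀ x : W4, (∀ i, 2 * ((companion α β γ).mulVec x i - x i) = 0) →
      ∃ y : Fin 3 → Fin 2, (companion α β γ).mulVec x - x =
        (companion α β γ).mulVec (fun i => 2 * ((y i).val : ZMod 4)) - fun i => 2 * ((y i).val : ZMod 4) := by
  decide +kernel

universe u

variable {X : Type u} [Group X] {Q : Subgroup X}

def cast42 : ZMod 4 → ZMod 2 := fun t => (t.val : ZMod 2)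

/-- `S` is homocyclic of exponent four and rank three, `R` its involutions -/
structure Homo {F : Frame Q} {S R : Subgroup X} (C : Coord F S R) : Prop where
  comm : ∀ p ∈ S, ∀ q ∈ S, p * q = q * p
  two : ∀ p ∈ S, p * p = 1 ↔ p ∈ R
  sq : ∀ r ∈ R, ∃ p ∈ S, p * p = r

theorem Homo.four {F : Frame Q} {S R : Subgroup X} {C : Coord F S R} (h : Homo C) {p : X} (hp : p ∈ S) :
    p * p * (p * p) = 1 := by
  have h2 : p * p ∈ R := (C.ker _ (mul_mem hp hp)).mp (by rw [C.add p hp p hp, CharTwo.add_self_eq_zero])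
  exact (h.two _ (C.le h2)).mpr h2

/-- additive coordinates adapted to a lift of `mJ` -/
theorem exists_companion {F : Frame Q} {S R : Subgroup X} (C : Coord F S R) (hH : Homo C)
    {σ : X} (hσ : F.π σ = mJ) :
    ∃ (e : W4 → X) (α β γ : Fin 2), (∀ x, e x ∈ S) ∧ (∀ x y, e (x + y) = e x * e y) ∧ Function.Injective e ∧
      (∀ p ∈ S, ∃ x, e x = p) ∧ (∀ x, C.c (e x) = fun i => cast42 (x i)) ∧
      ∀ x, σ * e x * σ⁻¹ = e ((companion α β γ).mulVec x) := by
  classical
  obtain ⟨u2, hu2, hc2⟩ := C.surj e3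
  obtain ⟨u1, hu1d⟩ : ∃ u, u = σ * u2 * σ⁻¹ * u2⁻¹ := ⟨_, rfl⟩
  have hu1 : u1 ∈ S := hu1d ▸ mul_mem (C.conj σ u2 hu2) (inv_mem hu2)
  have hc1 : C.c u1 = e2 := by rw [hu1d, C.div hu2, hσ, hc2]; decide
  obtain ⟨u0, hu0d⟩ : ∃ u, u = σ * u1 * σ⁻¹ * u1⁻¹ := ⟨_, rfl⟩
  have hu0 : u0 ∈ S := hu0d ▸ mul_mem (C.conj σ u1 hu1) (inv_mem hu1)
  have hc0 : C.c u0 = e1 := by rw [hu0d, C.div hu1, hσ, hc1]; decide
  letI : CommGroup S := { (inferInstance : Group S) with mul_comm := fun a b => Subtype.ext (hH.comm a a.2 b b.2) }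
  let U0 : S := ⟨u0, hu0⟩
  let U1 : S := ⟨u1, hu1⟩
  let U2 : S := ⟨u2, hu2⟩
  have h4 : ∀ a : S, a ^ 4 = 1 := fun a => Subtype.ext (by
    simpa [pow_succ, mul_assoc] using hH.four a.2)
  have hpow : ∀ (a : S) (s t : ZMod 4), a ^ (s + t).val = a ^ s.val * a ^ t.val := fun a s t => by
    rw [ZMod.val_add, ← pow_add]
    conv_rhs => rw [← Nat.div_add_mod (s.val + t.val) 4, pow_add, pow_mul, h4, one_pow, one_mul]
  let E : W4 → S := fun x => U0 ^ (x 0).val * U1 ^ (x 1).val * U2 ^ (x 2).val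
  have hEadd : ∀ x y, E (x + y) = E x * E y := fun x y => by
    simp only [E, Pi.add_apply, hpow]
    ac_rfl
  have hE0 : E 0 = 1 := by simp [E]
  have hcpow : ∀ (a : S) (n : ℕ), C.c ((a : X) ^ n) = (n : ZMod 2) • C.c a := by
    intro a n
    induction n with
    | zero => simp [C.one]
    | succ n ih =>
      rw [pow_succ, C.add _ (pow_mem a.2 n) _ a.2, ih, Nat.cast_succ, add_smul, one_smul]
  have hcE : ∀ x, C.c (E x : X) = fun i => cast42 (x i) := by
    intro x
    simp only [E, Subgroup.coe_mul, SubgroupClass.coe_pow]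
    rw [C.add _ (mul_mem (pow_mem hu0 _) (pow_mem hu1 _)) _ (pow_mem hu2 _),
      C.add _ (pow_mem hu0 _) _ (pow_mem hu1 _), hcpow U0, hcpow U1, hcpow U2, hc0, hc1, hc2]
    ext i
    fin_cases i <;> simp [e1, e2, e3, cast42]
  have hEsurj : ∀ p : S, ∃ x, E x = p := by
    intro p
    have hlift : ∀ v : V3, ∃ x : W4, (fun i => cast42 (x i)) = v := by decide +kernel
    obtain ⟨x, hx⟩ := hlift (C.c p)
    have hr : ((E x : S) : X)⁻¹ * p ∈ R := (C.eq_iff p.2 (E x).2).mp (by rw [hcE, hx])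
    obtain ⟨q, hq, hqq⟩ := hH.sq _ hr
    obtain ⟨y, hy⟩ := hlift (C.c q)
    have hsq : ((E y : S) : X) * (E y : S) = q * q := by
      obtain ⟨r, hr', he⟩ : ∃ r ∈ R, q = (E y : S) * r :=
        ⟨_, (C.eq_iff hq (E y).2).mp (by rw [hcE, hy]), (mul_inv_cancel_left _ q).symm⟩
      rw [he, show (E y : X) * r * ((E y : X) * r) = (E y : X) * (r * (E y : X)) * r by group,
        hH.comm r (C.le hr') _ (E y).2, show (E y : X) * ((E y : X) * r) * r = (E y : X) * (E y : X) * (r * r) by group,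
        (hH.two r (C.le hr')).mpr hr', mul_one]
    refine ⟨x + (y + y), Subtype.ext ?_⟩
    rw [hEadd, hEadd]
    show (E x : X) * ((E y : X) * (E y : X)) = p
    rw [hsq, hqq, mul_inv_cancel_left]
  have hneg : ∀ x, E (-x) = (E x)⁻¹ := fun x => by
    rw [eq_inv_iff_mul_eq_one, ← hEadd, neg_add_cancel, hE0]
  have hEinj : Function.Injective E := by
    have hker : ∀ x, E x = 1 → x = 0 := by
      intro x hx
      have h1 : (fun i => cast42 (x i)) = 0 := by rw [← hcE, hx]; exact C.one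
      have hhalf : ∀ x : W4, (fun i => cast42 (x i)) = 0 → ∃ y, x = y + y := by decide +kernel
      obtain ⟨y, rfl⟩ := hhalf x h1
      rw [hEadd] at hx
      have h2 : (E y : X) ∈ R := (hH.two _ (E y).2).mp (congrArg Subtype.val hx)
      have h3 := (C.ker _ (E y).2).mpr h2
      rw [hcE] at h3
      obtain ⟨z, rfl⟩ := hhalf y h3
      have key : ∀ z : W4, z + z + (z + z) = 0 := by decide +kernel
      exact key z
    intro x y h
    refine sub_eq_zero.mp (hker _ ?_)
    rw [sub_eq_add_neg, hEadd, hneg, h, mul_inv_cancel]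
  have hr0 : (σ * u0 * σ⁻¹) * u0⁻¹ ∈ R :=
    (C.ker _ (mul_mem (C.conj σ u0 hu0) (inv_mem hu0))).mp (by rw [C.div hu0, hσ, hc0]; decide)
  obtain ⟨q, hq, hqq⟩ := hH.sq _ hr0
  obtain ⟨w, hw⟩ := hEsurj ⟨q, hq⟩
  have hbit : ∀ t : ZMod 4, ∃ i : Fin 2, t + t = 2 * (i.val : ZMod 4) := by decide +kernel
  obtain ⟨α, hα⟩ := hbit (w 0)
  obtain ⟨β, hβ⟩ := hbit (w 1)
  obtain ⟨γ, hγ⟩ := hbit (w 2)
  refine ⟨fun x => E x, α, β, γ, fun x => (E x).2, fun x y => congrArg Subtype.val (hEadd x y),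
    Subtype.val_injective.comp hEinj, fun p hp => ?_, hcE, ?_⟩
  · obtain ⟨x, hx⟩ := hEsurj ⟨p, hp⟩; exact ⟨x, congrArg Subtype.val hx⟩
  have single_val : ∀ (i : Fin 3) (n : ℕ), (E (n • (Pi.single i 1 : W4)) : X) = (E (Pi.single i 1) : X) ^ n := by
    intro i n
    induction n with
    | zero => simp [hE0]
    | succ n ih => rw [succ_nsmul, hEadd, Subgroup.coe_mul, ih, pow_succ]
  have hbase : ∀ i : Fin 3, σ * (E (Pi.single i 1) : X) * σ⁻¹ = E ((companion α β γ).mulVec (Pi.single i 1)) := by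
    have a0 : E (Pi.single 0 1) = U0 := by simp [E, ZMod.val_one_eq_one_mod]
    have a1 : E (Pi.single 1 1) = U1 := by simp [E, ZMod.val_one_eq_one_mod]
    have a2 : E (Pi.single 2 1) = U2 := by simp [E, ZMod.val_one_eq_one_mod]
    intro i
    fin_cases i
    · show σ * (E (Pi.single 0 1) : X) * σ⁻¹ = E ((companion α β γ).mulVec (Pi.single 0 1))
      have e : (companion α β γ).mulVec (Pi.single 0 1) = Pi.single 0 1 + (w + w) := by
        ext j
        fin_cases j <;> simp [companion, hα, hβ, hγ]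
      rw [e, hEadd, hEadd, hw, a0, Subgroup.coe_mul, Subgroup.coe_mul, hqq]
      show σ * u0 * σ⁻¹ = u0 * (σ * u0 * σ⁻¹ * u0⁻¹)
      rw [hH.comm u0 hu0 _ (mul_mem (C.conj σ u0 hu0) (inv_mem hu0)), inv_mul_cancel_right]
    · show σ * (E (Pi.single 1 1) : X) * σ⁻¹ = E ((companion α β γ).mulVec (Pi.single 1 1))
      have e : (companion α β γ).mulVec (Pi.single 1 1) = Pi.single 0 1 + Pi.single 1 1 := by
        ext j
        fin_cases j <;> simp [companion]
      rw [e, hEadd, a0, a1, Subgroup.coe_mul]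
      show σ * u1 * σ⁻¹ = u0 * u1
      rw [hu0d, inv_mul_cancel_right]
    · show σ * (E (Pi.single 2 1) : X) * σ⁻¹ = E ((companion α β γ).mulVec (Pi.single 2 1))
      have e : (companion α β γ).mulVec (Pi.single 2 1) = Pi.single 1 1 + Pi.single 2 1 := by
        ext j
        fin_cases j <;> simp [companion]
      rw [e, hEadd, a1, a2, Subgroup.coe_mul]
      show σ * u2 * σ⁻¹ = u1 * u2
      rw [hu1d, inv_mul_cancel_right]
  intro x
  have hx : x = (x 0).val • (Pi.single 0 1 : W4) + (x 1).val • (Pi.single 1 1 : W4) + (x 2).val • (Pi.single 2 1 : W4) := by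
    ext j
    rw [Pi.add_apply, Pi.add_apply, Pi.smul_apply, Pi.smul_apply, Pi.smul_apply]
    fin_cases j <;> simp
  show σ * (E x : X) * σ⁻¹ = E ((companion α β γ).mulVec x)
  rw [hx, Matrix.mulVec_add, Matrix.mulVec_add, Matrix.mulVec_smul, Matrix.mulVec_smul, Matrix.mulVec_smul]
  simp only [hEadd, Subgroup.coe_mul, single_val]
  have hpw : ∀ (v : W4) (n : ℕ), (E (n • v) : X) = (E v : X) ^ n := by
    intro v n
    induction n with
    | zero => simp [hE0]
    | succ n ih => rw [succ_nsmul, hEadd, Subgroup.coe_mul, ih, pow_succ]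
  simp only [hpw, ← hbase]
  rw [conj_pow, conj_pow, conj_pow]
  group

theorem pow_conj {Y : Type*} [Group Y] (f : W4 → Y) (σ : Y) (M : M4)
    (h : ∀ x, σ * f x * σ⁻¹ = f (M.mulVec x)) (x : W4) :
    σ * σ * f x * (σ * σ)⁻¹ = f ((M * M).mulVec x) ∧ σ ^ 4 * f x * (σ ^ 4)⁻¹ = f ((M * M * M * M).mulVec x) := by
  have h2 : ∀ x, σ * σ * f x * (σ * σ)⁻¹ = f ((M * M).mulVec x) := fun x => by
    rw [← Matrix.mulVec_mulVec, ← h, ← h]; group
  refine ⟨h2 x, ?_⟩
  rw [mul_assoc (M * M) M M, ← Matrix.mulVec_mulVec, ← h2, ← h2]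
  simp only [pow_succ, pow_zero, one_mul]
  group

/-- a homocyclic radical is impossible in sectional rank four -/
theorem homocyclic_false [Finite X] (h4 : Cfsg.SectionalPRankLE 2 4 X) [Q.Normal] (hQp : IsPGroup 2 Q)
    {F : Frame Q} {R : Subgroup X} (C : Coord F Q R) (hH : Homo C) : False := by
  classical
  obtain ⟨σ, hσc, hσ⟩ := F.exists_comm J_comm
  obtain ⟨e, α, β, γ, heS, hadd, hinj, hsurj, hc, hconj⟩ := exists_companion C hH hσ
  have he0 : e 0 = 1 := by
    have := hadd 0 0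
    rwa [add_zero, left_eq_mul] at this
  -- conjugation in coordinates
  have hT : ∀ (g : X) (x : W4), ∃ y, e y = g * e x * g⁻¹ := fun g x => hsurj _ (C.conj g _ (heS x))
  choose T hTe using hT
  have hTadd : ∀ g x y, T g (x + y) = T g x + T g y := fun g x y => hinj (by
    rw [hadd, hTe, hTe, hTe, hadd]; group)
  let L : X → (W4 →ₗ[ZMod 4] W4) := fun g => AddMonoidHom.toZModLinearMap 4 (AddMonoidHom.mk' (T g) (hTadd g))
  let D : X →* ZMod 4 :=
    { toFun := fun g => LinearMap.det (L g)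
      map_one' := by
        rw [show L 1 = LinearMap.id from LinearMap.ext fun x => hinj (by
          show e (T 1 x) = e x
          rw [hTe]; group)]
        exact LinearMap.det_id
      map_mul' := fun g h => by
        rw [show L (g * h) = L g ∘ₗ L h from LinearMap.ext fun x => hinj (by
          show e (T (g * h) x) = e (T g (T h x))
          rw [hTe, hTe, hTe]; group), LinearMap.det_comp] }
  have hdet : det4 (companion α β γ) = 1 := by
    have hle : commutator X ≤ D.toHomUnits.ker := Abelianization.commutator_subset_ker _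
    have h1 : D σ = 1 := by
      have := congrArg Units.val (MonoidHom.mem_ker.mp (hle hσc))
      simpa using this
    rw [det4_eq, ← LinearMap.det_toLin', ← h1]
    show _ = LinearMap.det (L σ)
    congr 1
    refine LinearMap.ext fun x => hinj ?_
    rw [Matrix.toLin'_apply]
    show _ = e (T σ x)
    rw [hTe, hconj]
  have hσ4 : σ ^ 4 ∈ Q := (F.ker _).mp (by rw [map_pow, hσ, pow_succ, pow_succ, pow_two]; exact J_four)
  have hM4 : companion α β γ * companion α β γ * companion α β γ * companion α β γ = 1 := by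
    refine Matrix.toLin'.injective (LinearMap.ext fun x => hinj ?_)
    rw [Matrix.toLin'_apply, Matrix.toLin'_apply, Matrix.one_mulVec, ← (pow_conj e σ _ hconj x).2,
      hH.comm _ hσ4 _ (heS x), mul_inv_cancel_right]
  -- an involution over a transvection
  obtain ⟨x4, hx4⟩ := hsurj _ hσ4
  have hfix : (companion α β γ).mulVec x4 = x4 := hinj (by
    rw [← hconj, hx4]
    simp only [pow_succ, pow_zero, one_mul]
    group)
  obtain ⟨t, ht⟩ := companion_fixed α β γ hdet hM4 x4 hfix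
  obtain ⟨v, hv⟩ : ∃ v : W4, v = -![0, 0, t] := ⟨_, rfl⟩
  have hinv2 : ∀ x, (σ * σ)⁻¹ * e x * (σ * σ) = e ((companion α β γ * companion α β γ).mulVec x) := fun x => by
    rw [← (pow_conj e σ _ hconj x).1]
    have := hH.comm _ hσ4 _ (C.conj (σ * σ)⁻¹ _ (heS x))
    rw [inv_inv] at this
    calc (σ * σ)⁻¹ * e x * (σ * σ) = σ ^ 4 * ((σ * σ)⁻¹ * e x * (σ * σ)) * (σ ^ 4)⁻¹ := by
          rw [this, mul_inv_cancel_right]
      _ = σ * σ * e x * (σ * σ)⁻¹ := by
          rw [show σ ^ 4 = σ * σ * (σ * σ) by simp only [pow_succ, pow_zero, one_mul, mul_assoc]]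
          generalize σ * σ = s
          group
  obtain ⟨a, ha⟩ : ∃ a, a = σ * σ * e v := ⟨_, rfl⟩
  have ha2 : a * a = 1 := by
    rw [ha, show σ * σ * e v * (σ * σ * e v) = σ ^ 4 * ((σ * σ)⁻¹ * e v * (σ * σ)) * e v by
      rw [show σ ^ 4 = σ * σ * (σ * σ) by simp only [pow_succ, pow_zero, one_mul, mul_assoc]]
      generalize σ * σ = s
      group, hinv2, ← hx4, ← hadd, ← hadd, ← he0, hv, Matrix.mulVec_neg, ht]
    congr 1
    abel
  have haπ : F.π a = mJ * mJ := by
    rw [ha, map_mul, map_mul, hσ, (F.ker _).mpr (heS v), mul_one]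
  have hact : ∀ x, a * e x * a⁻¹ = e ((companion α β γ * companion α β γ).mulVec x) := fun x => by
    rw [ha, show σ * σ * e v * e x * (σ * σ * e v)⁻¹ = σ * σ * (e v * e x * (e v)⁻¹) * (σ * σ)⁻¹ by group,
      hH.comm _ (heS v) _ (heS x), mul_inv_cancel_right, (pow_conj e σ _ hconj x).1]
  obtain ⟨ρ, hρπ, hρ3⟩ := F.exists_rho hQp
  have hρinv : F.π ρ⁻¹ = mR * mR :=
    left_inv_eq_right_inv (a := F.π ρ) (by rw [← map_mul, inv_mul_cancel, map_one]) (by rw [hρπ, ← mul_assoc]; exact R_three)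
  let A : Subgroup X :=
    { carrier := {p | p ∈ Q ∧ (C.c p = 0 ∨ C.c p = e1)}
      one_mem' := ⟨one_mem _, Or.inl C.one⟩
      mul_mem' := by
        rintro p q ⟨hp, hp'⟩ ⟨hq, hq'⟩
        refine ⟨mul_mem hp hq, ?_⟩
        rw [C.add p hp q hq]
        rcases hp' with h | h <;> rcases hq' with h' | h' <;> rw [h, h'] <;>
          simp [CharTwo.add_self_eq_zero]
      inv_mem' := by
        rintro p ⟨hp, hp'⟩
        exact ⟨inv_mem hp, by rw [C.inv hp]; exact hp'⟩ }
  have hAe : ∀ p ∈ A, ∃ a b c : ZMod 4, 2 * b = 0 ∧ 2 * c = 0 ∧ e ![a, b, c] = p := by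
    rintro p ⟨hp, hp'⟩
    obtain ⟨x, rfl⟩ := hsurj p hp
    refine ⟨x 0, x 1, x 2, ?_, ?_, by congr 1; ext i; fin_cases i <;> rfl⟩ <;>
    · have key : ∀ t : ZMod 4, cast42 t = 0 → 2 * t = 0 := by decide +kernel
      refine key _ ?_
      rw [hc] at hp'
      rcases hp' with h | h <;> exact (congrFun h _).trans rfl
  let K : Subgroup X :=
    { carrier := {p | p = 1 ∨ p = e ![2, 0, 0]}
      one_mem' := Or.inl rfl
      mul_mem' := by
        rintro p q (rfl | rfl) (rfl | rfl)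
        · exact Or.inl (one_mul _)
        · exact Or.inr (one_mul _)
        · exact Or.inr (mul_one _)
        · left; rw [← hadd, ← he0]; congr 1; decide +kernel
      inv_mem' := by
        rintro p (rfl | rfl)
        · exact Or.inl inv_one
        · right
          refine inv_eq_of_mul_eq_one_right ?_
          rw [← hadd, ← he0]; congr 1; decide +kernel }
  have hsqK : ∀ p ∈ A, p * p ∈ K := by
    intro p hp
    obtain ⟨x, y, z, hy, hz, rfl⟩ := hAe p hp
    rw [← hadd]
    have key : ∀ t : ZMod 4, t + t = 0 ∨ t + t = 2 := by decide +kernel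
    have e' : ![x, y, z] + ![x, y, z] = ![x + x, 0, 0] := by
      ext i; fin_cases i <;> simp [← two_mul, hy, hz]
    rw [e']
    rcases key x with h | h
    · left; rw [h, ← he0]; congr 1; ext i; fin_cases i <;> rfl
    · right; rw [h]
  have hKmem : ∀ k ∈ K, ∃ p ∈ A, k = p * p := by
    rintro k (rfl | rfl)
    · exact ⟨1, one_mem _, (one_mul 1).symm⟩
    · refine ⟨e ![1, 0, 0], ⟨heS _, Or.inr ?_⟩, ?_⟩
      · rw [hc]; decide +kernel
      · rw [← hadd]; congr 1; decide +kernel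
  have hKA : K ≤ A := fun k hk => by
    obtain ⟨p, hp, rfl⟩ := hKmem k hk; exact mul_mem hp hp
  have hρA : ∀ p ∈ A, ρ * p * ρ⁻¹ ∈ A := by
    rintro p ⟨hp, hp'⟩
    refine ⟨C.conj ρ p hp, ?_⟩
    rw [← C.act ρ p hp, hρπ]
    rcases hp' with h | h <;> rw [h] <;> decide
  have hcardK : Nat.card K = 2 := by
    have hne : e ![2, 0, 0] ≠ 1 := fun h => absurd (hinj (h.trans he0.symm)) (by decide +kernel)
    rw [Nat.card_eq_two_iff' (1 : K)]
    refine ⟨⟨_, Or.inr rfl⟩, fun h => hne (congrArg Subtype.val h), ?_⟩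
    rintro ⟨k, rfl | rfl⟩ hk
    · exact absurd rfl hk
    · rfl
  have hcardA : Nat.card A = 16 := by
    let Φ : ZMod 4 × Fin 2 × Fin 2 → A := fun t =>
      ⟨e ![t.1, 2 * (t.2.1.val : ZMod 4), 2 * (t.2.2.val : ZMod 4)], heS _, by
        rw [hc]
        revert t
        decide +kernel⟩
    rw [← Nat.card_congr (Equiv.ofBijective Φ ⟨?_, ?_⟩)]
    · simp
    · rintro ⟨x, i, j⟩ ⟨x', i', j'⟩ h
      have h' := hinj (congrArg Subtype.val h)
      clear h
      revert x i j x' i' j'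
      decide +kernel
    · rintro ⟨p, hp⟩
      obtain ⟨x, y, z, hy, hz, rfl⟩ := hAe p hp
      have key : ∀ t : ZMod 4, 2 * t = 0 → ∃ i : Fin 2, t = 2 * (i.val : ZMod 4) := by decide +kernel
      obtain ⟨i, rfl⟩ := key y hy
      obtain ⟨j, rfl⟩ := key z hz
      exact ⟨⟨x, i, j⟩, rfl⟩
  refine witness h4 Q A K ρ a hKA (fun p hp => hp.1) hρ3 hρA ?_ hsqK ?_ (by rw [hcardA, hcardK]) ?_
    (Or.inl ha2) ?_ ?_ ?_ ?_ ?_
  · intro k hk
    obtain ⟨p, hp, rfl⟩ := hKmem k hk
    rw [show ρ * (p * p) * ρ⁻¹ = (ρ * p * ρ⁻¹) * (ρ * p * ρ⁻¹) by group]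
    exact hsqK _ (hρA p hp)
  · intro k hk p hp
    rw [hH.comm p hp.1 k (hKA hk).1, mul_inv_cancel_right]; exact hk
  · intro p hp
    obtain ⟨x, y, z, hy, hz, rfl⟩ := hAe p hp
    have e' : a * e ![x, y, z] * a⁻¹ * (e ![x, y, z])⁻¹ =
        e ((companion α β γ * companion α β γ).mulVec ![x, y, z] - ![x, y, z]) := by
      rw [hact, mul_inv_eq_iff_eq_mul, ← hadd, sub_add_cancel]
    rw [e']
    rcases companion_centre α β γ hdet hM4 x y z hy hz with h | h <;> rw [h]
    · exact Or.inl he0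
    · exact Or.inr rfl
  · intro q hq
    refine ⟨mul_mem (C.conj a q hq) (inv_mem hq), ?_⟩
    rw [C.div hq, haπ]
    exact a_centre _
  · rintro q hq ⟨-, h⟩
    refine ⟨hq, ?_⟩
    rw [C.div hq, hρπ] at h
    exact fixed_R _ h
  · intro h
    exact four_distinct.1 (haπ ▸ (F.ker a).mpr h)
  · intro h
    refine four_distinct.2.2.1 ?_
    have h' := (F.ker _).mpr h
    rwa [map_mul, map_mul, map_mul, haπ, hρπ, hρinv] at h'
  · refine (F.ker _).mp ?_
    simp only [map_mul, haπ, hρπ, hρinv]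
    exact four_distinct.2.2.2

end Cfsg.Agent.Sec62
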