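import Cfsg.Agent.Sec62.Point
import Cfsg.Agent.Sec62.Central
import Cfsg.Agent.Sec62.Dim4

/-!
The first layer above the elementary case.
-/

set_option autoImplicit false
set_option linter.style.haveILetI false

namespace Cfsg.Agent.Sec62

variable {X : Type*} [Group X] {Q : Subgroup X} {F : Frame Q} {S R : Subgroup X}

/-- restriction of a frame to a supplement of `Q` -/
def Frame.restrict (F : Frame Q) (H A : Subgroup X) (hA : H ⊓ Q = A)
    (hs : ∀ M : M3, M.det = 1 → ∃ x ∈ H, F.π x = M) : Frame (A.subgroupOf H) where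
  π := F.π.comp H.subtype
  ker x := by
    rw [MonoidHom.comp_apply, F.ker, Subgroup.mem_subgroupOf, ← hA, Subgroup.mem_inf]
    exact ⟨fun h => ⟨x.2, h⟩, fun h => h.2⟩
  surj M hM := by
    obtain ⟨x, hx, he⟩ := hs M hM
    exact ⟨⟨x, hx⟩, he⟩

/-- restriction of coordinates -/
def Coord.restrict (C : Coord F S R) (H A : Subgroup X) (hA : H ⊓ Q = A) (hAH : A ≤ H) (hSA : S ≤ A)
    (hs : ∀ M : M3, M.det = 1 → ∃ x ∈ H, F.π x = M) :
    Coord (F.restrict H A hA hs) (S.subgroupOf H) (R.subgroupOf H) where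
  c x := C.c x
  le _ hx := C.le hx
  conj x p hp := C.conj (x : X) _ hp
  add p hp q hq := C.add _ hp _ hq
  ker p hp := C.ker _ hp
  surj v := by
    obtain ⟨p, hp, he⟩ := C.surj v
    exact ⟨⟨p, hAH (hSA hp)⟩, hp, he⟩
  act x p hp := C.act (x : X) _ hp

set_option maxHeartbeats 400000 in
/-- an invariant hyperplane -/
theorem case_hyperplane [Finite X] (h4 : Cfsg.SectionalPRankLE 2 4 X) [Q.Normal] [IsSimpleGroup (X ⧸ Q)]
    (hcard : Nat.card (X ⧸ Q) = 168) (hQp : IsPGroup 2 Q) (M : Subgroup X) [hMn : M.Normal]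
    (hsq : ∀ q ∈ Q, q * q ∈ M) (hM2 : ∀ m ∈ M, m * m = 1)
    (hMc : ∀ m ∈ M, ∀ q ∈ Q, m * q = q * m) (hgen : M ≤ Subgroup.closure {m | ∃ q ∈ Q, q * q = m})
    (hM1 : M ≠ ⊥) (hmin : ∀ Y : Subgroup X, Y.Normal → Y ≤ M → Y = ⊥ ∨ Y = M)
    (h16 : Nat.card Q = 16 * Nat.card M) (hne : ∃ x : X, ∃ q ∈ Q, x * q * x⁻¹ * q⁻¹ ∉ M)
    (E : Subgroup X) [hEn : E.Normal] (hME : M ≤ E) (hEQ : E ≤ Q) (hE8 : Nat.card E = 8 * Nat.card M) :
    Nat.card M = 2 ∧ Nat.card Q = 32 ∧ (∀ p ∈ Q, ∀ q ∈ Q, p * q = q * p) ∧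
      ∃ E : Subgroup X, E.Normal ∧ M ≤ E ∧ E ≤ Q ∧ Nat.card E = 16 ∧ ∀ p ∈ E, p * p = 1 := by
  classical
  have hQQ : ∀ p ∈ Q, ∀ q ∈ Q, p * q * p⁻¹ * q⁻¹ ∈ M := fun p hp q hq => by
    have h := mul_mem (mul_mem (hsq _ (mul_mem hp hq)) (hsq _ (mul_mem (mul_mem (inv_mem hq) (inv_mem hp)) hq)))
      (hsq _ (inv_mem hq))
    convert h using 1
    group
  have hidx : (E.subgroupOf Q).index = 2 := by
    have h := (E.subgroupOf Q).card_mul_index
    rw [Nat.card_congr (Subgroup.subgroupOfEquivOfLe hEQ).toEquiv, hE8, h16] at h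
    have : 0 < Nat.card M := Nat.card_pos
    nlinarith
  have hE2 : ∀ p ∈ Q, ∀ q ∈ Q, p ∉ E → q ∉ E → p⁻¹ * q ∈ E := by
    intro p hp q hq hpE hqE
    have h := Subgroup.mul_mem_iff_of_index_two hidx (a := (⟨p, hp⟩⁻¹ : Q)) (b := ⟨q, hq⟩)
    simp only [Subgroup.mem_subgroupOf, Subgroup.coe_mul, Subgroup.coe_inv, inv_mem_iff] at h
    exact h.mpr (iff_of_false hpE hqE)
  obtain ⟨x0, hx0Q, hx0E⟩ : ∃ x0 ∈ Q, x0 ∉ E := by
    by_contra h
    push Not at h
    have e : Q = E := le_antisymm h hEQ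
    rw [← e, h16] at hE8
    have : 0 < Nat.card M := Nat.card_pos
    omega
  have hcov : ∀ p ∈ Q, p ∉ E → ∃ e ∈ E, p = x0 * e := fun p hp hpE =>
    ⟨_, hE2 x0 hx0Q p hp hx0E hpE, (mul_inv_cancel_left x0 p).symm⟩
  -- the action on `E / M` is nontrivial
  have hneE : ∃ x : X, ∃ p ∈ E, x * p * x⁻¹ * p⁻¹ ∉ M := by
    by_contra h
    push Not at h
    obtain ⟨x, q, hq, hxq⟩ := nontrivial_factor hcard M hQQ hne E hEQ h
    refine hxq ?_
    have hq' : x * q * x⁻¹ ∈ Q := ‹Q.Normal›.conj_mem q hq x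
    by_cases hqE : q ∈ E
    · exact mul_mem (hEn.conj_mem q hqE x) (inv_mem hqE)
    · have hx' : x * q * x⁻¹ ∉ E := fun he => hqE (by
        have := hEn.conj_mem _ he x⁻¹
        rwa [inv_inv, show x⁻¹ * (x * q * x⁻¹) * x = q by group] at this)
      have := hEn.conj_mem _ (inv_mem (hE2 _ hq' q hq hx' hqE)) q
      rwa [show q * ((x * q * x⁻¹)⁻¹ * q)⁻¹ * q⁻¹ = x * q * x⁻¹ * q⁻¹ by group] at this
  obtain ⟨F, ⟨C⟩⟩ := exists_frame hcard hME hE8 (fun p hp => hsq p (hEQ hp))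
    (fun q hq p hp => hQQ q hq p (hEQ hp)) hneE
  have hEc := comm_of_quadratic C M hM2 (fun m hm p hp => hMc m hm p (hEQ hp)) hME
    (fun p hp => hsq p (hEQ hp)) (fun p hp q hq => hQQ p (hEQ hp) q (hEQ hq)) hM2
    (fun m hm p hp => hMc m hm p (hEQ hp)) hmin
  have hlin : LinMap C M sqr := sqr_linMap C (fun p hp => hsq p (hEQ hp)) hEc hM2
  have hφ : LinMap C M (br x0) := by
    refine ⟨fun p hp => hQQ x0 hx0Q p (hEQ hp), fun p hp q hq => ?_, fun m hm => ?_, fun x p hp => ?_⟩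
    · rw [show br x0 (p * q) = br x0 p * (p * br x0 q * p⁻¹) by simp only [br]; group,
        ← hMc (br x0 q) (hQQ x0 hx0Q q (hEQ hq)) p (hEQ hp), mul_inv_cancel_right]
    · simp only [br]; rw [← hMc m hm x0 hx0Q]; group
    · have hp' := C.conj x p hp
      have hx' : x * x0 * x⁻¹ ∉ E := fun he => hx0E (by
        have := hEn.conj_mem _ he x⁻¹
        rwa [inv_inv, show x⁻¹ * (x * x0 * x⁻¹) * x = x0 by group] at this)
      obtain ⟨e, he, hxe⟩ := hcov _ (‹Q.Normal›.conj_mem x0 hx0Q x) hx'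
      rw [br_conj, hxe, show br (x0 * e) (x * p * x⁻¹) =
        x0 * (e * (x * p * x⁻¹) * e⁻¹ * (x * p * x⁻¹)⁻¹) * x0⁻¹ * br x0 (x * p * x⁻¹) by simp only [br]; group,
        hEc e he _ hp', mul_inv_cancel_right, mul_inv_cancel, mul_one, mul_inv_cancel, one_mul]
  have hcommQ : (∀ p ∈ E, br x0 p = 1) → ∀ p ∈ Q, ∀ q ∈ Q, p * q = q * p := by
    intro h0 p hp q hq
    have hx0c : ∀ e ∈ E, x0 * e = e * x0 := fun e he => by
      rw [show x0 * e = br x0 e * (e * x0) by simp only [br]; group, h0 e he, one_mul]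
    have hcl : ∀ a ∈ Q, ∀ e ∈ E, a * e = e * a := fun a ha e he => by
      by_cases haE : a ∈ E
      · exact hEc a haE e he
      · obtain ⟨b, hb, rfl⟩ := hcov a ha haE
        rw [mul_assoc, hEc b hb e he, ← mul_assoc, hx0c e he, mul_assoc]
    by_cases hqE : q ∈ E
    · exact hcl p hp q hqE
    obtain ⟨b, hb, rfl⟩ := hcov q hq hqE
    have : p * x0 = x0 * p := by
      by_cases hpE : p ∈ E
      · exact (hx0c p hpE).symm
      · obtain ⟨a, ha, rfl⟩ := hcov p hp hpE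
        rw [mul_assoc, ← hx0c a ha]
    rw [← mul_assoc, this, mul_assoc, hcl p hp b hb, ← mul_assoc]
  rcases hlin.zero_or_iso hmin with hq0 | ⟨hinj, hsurj⟩
  · rcases hφ.zero_or_iso hmin with hφ0 | ⟨hφi, hφs⟩
    · have hc := hcommQ hφ0
      have hall : ∀ q ∈ Q, q * q = 1 ∨ q * q = x0 * x0 := fun q hq => by
        by_cases hqE : q ∈ E
        · exact Or.inl (hq0 q hqE)
        · right
          obtain ⟨e, he, rfl⟩ := hcov q hq hqE
          rw [mul_assoc, ← mul_assoc e x0 e, hc e (hEQ he) x0 hx0Q, mul_assoc x0 e e,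
            show e * e = 1 from hq0 e he, mul_one]
      have hx2 : x0 * x0 ≠ 1 := fun h => hM1 (le_bot_iff.mp (hgen.trans ((Subgroup.closure_le _).mpr (by
        rintro _ ⟨q, hq, rfl⟩
        rcases hall q hq with h' | h'
        · exact h'
        · exact h'.trans h))))
      have hle : M ≤ Subgroup.zpowers (x0 * x0) := hgen.trans ((Subgroup.closure_le _).mpr (by
        rintro _ ⟨q, hq, rfl⟩
        rcases hall q hq with h' | h'
        · show q * q ∈ Subgroup.zpowers (x0 * x0); rw [h']; exact one_mem _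
        · show q * q ∈ Subgroup.zpowers (x0 * x0); rw [h']; exact Subgroup.mem_zpowers _))
      have hMeq : M = Subgroup.zpowers (x0 * x0) :=
        le_antisymm hle (Subgroup.zpowers_le.mpr (hsq x0 hx0Q))
      haveI := Fact.mk Nat.prime_two
      have hord : orderOf (x0 * x0) = 2 := orderOf_eq_prime (by rw [pow_two]; exact hM2 _ (hsq x0 hx0Q)) hx2
      have hMc2 : Nat.card M = 2 := by rw [hMeq, Nat.card_zpowers, hord]
      exact ⟨hMc2, by rw [h16, hMc2], hc, E, hEn, hME, hEQ, by rw [hE8, hMc2], hq0⟩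
    · exfalso
      have h := hφ.card_image hφi hφs
      have h' := card_le_of_invol h4 E hq0
      rw [hE8] at h h'
      have hM8 : Nat.card M = 8 := Nat.eq_of_mul_eq_mul_right Nat.card_pos h
      omega
  exfalso
  have hH : Homo C := ⟨hEc, fun p hp => ⟨hinj p hp, fun h => hM2 p h⟩, hsurj⟩
  by_cases hlift : ∀ σ, F.π σ = mJ → σ ^ 4 ∈ E
  · obtain ⟨H, hEH, hHQ, hs⟩ := split F E hEQ (by rw [h16, hE8]; ring) hlift
    refine homocyclic_false (rank_sub h4 H) ?_ (C.restrict H E hHQ hEH le_rfl hs) ⟨?_, ?_, ?_⟩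
    · exact (hQp.to_le hEQ).comap_of_injective _ (Subgroup.subtype_injective H)
    · intro p hp q hq; exact Subtype.ext (hEc _ hp _ hq)
    · intro p hp
      exact ⟨fun h => hinj (p : X) hp (congrArg Subtype.val h), fun h => Subtype.ext (hM2 _ h)⟩
    · intro r hr
      obtain ⟨p, hp, he⟩ := hsurj _ hr
      exact ⟨⟨p, hEH hp⟩, hp, Subtype.ext he⟩
  push Not at hlift
  obtain ⟨σ, hσ, hσE⟩ := hlift
  obtain ⟨e, α, β, γ, heS, hadd, hinje, hsurje, hce, hconj⟩ := exists_companion C hH hσ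
  have he0 : e 0 = 1 := by
    have h := hadd 0 0
    rwa [add_zero, left_eq_mul] at h
  have hσ4 : σ ^ 4 ∈ Q := (F.ker _).mp (by rw [map_pow, hσ, pow_succ, pow_succ, pow_two]; exact J_four)
  obtain ⟨e', he', hσ4e⟩ := hcov _ hσ4 hσE
  rcases hφ.zero_or_iso hmin with hφ0 | ⟨hφi, hφs⟩
  swap
  · have hu := hφ.unique hlin hφi hinj hsurj
    obtain ⟨x, hx⟩ := companion_not_neg α β γ
    refine hx (hinje ?_)
    rw [← (pow_conj e σ _ hconj x).2, hσ4e, show x0 * e' * e x * (x0 * e')⁻¹ = x0 * (e' * e x * e'⁻¹) * x0⁻¹ by group,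
      hEc e' he' _ (heS x), mul_inv_cancel_right,
      show x0 * e x * x0⁻¹ = br x0 (e x) * e x by simp only [br]; group, hu _ (heS x)]
    have h4x : e (x + x + (x + x)) = 1 := by rw [hadd, hadd]; exact hH.four (heS x)
    show e x * e x * e x = e (-x)
    rw [← hadd, ← hadd]
    congr 1
    have : x + x + (x + x) = 0 := hinje (h4x.trans he0.symm)
    exact (eq_neg_of_add_eq_zero_left (by rw [add_assoc, ← this]))
  -- `Q` is abelian
  have hc := hcommQ hφ0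
  obtain ⟨f, hf, hfe⟩ := hsurj _ (hsq x0 hx0Q)
  obtain ⟨w, hwdef⟩ : ∃ w, w = x0 * f⁻¹ := ⟨_, rfl⟩
  have hwQ : w ∈ Q := hwdef ▸ mul_mem hx0Q (inv_mem (hEQ hf))
  have hwE : w ∉ E := fun h => hx0E (by
    have := mul_mem h hf; rwa [hwdef, inv_mul_cancel_right] at this)
  have hw2 : w * w = 1 := by
    rw [hwdef, show x0 * f⁻¹ * (x0 * f⁻¹) = x0 * (f⁻¹ * x0) * f⁻¹ by group, hc _ (inv_mem (hEQ hf)) _ hx0Q,
      show x0 * (x0 * f⁻¹) * f⁻¹ = x0 * x0 * (f * f)⁻¹ by group, show f * f = x0 * x0 from hfe, mul_inv_cancel]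
  have hwcov : ∀ p ∈ Q, p ∉ E → ∃ a ∈ E, p = w * a := fun p hp hpE =>
    ⟨_, hE2 w hwQ p hp hwE hpE, (mul_inv_cancel_left w p).symm⟩
  have hM4 : companion α β γ * companion α β γ * companion α β γ * companion α β γ = 1 := by
    refine Matrix.toLin'.injective (LinearMap.ext fun x => hinje ?_)
    rw [Matrix.toLin'_apply, Matrix.toLin'_apply, Matrix.one_mulVec, ← (pow_conj e σ _ hconj x).2,
      hc _ hσ4 _ (hEQ (heS x)), mul_inv_cancel_right]
  obtain ⟨a, ha, hσ4a⟩ := hwcov _ hσ4 hσE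
  obtain ⟨x, rfl⟩ := hsurje a ha
  have hσw : σ * w * σ⁻¹ = w * e (x - (companion α β γ).mulVec x) := by
    have h1 : σ * (w * e x) * σ⁻¹ = w * e x := by
      rw [← hσ4a]; simp only [pow_succ, pow_zero, one_mul]; group
    rw [show σ * (w * e x) * σ⁻¹ = σ * w * σ⁻¹ * (σ * e x * σ⁻¹) by group, hconj] at h1
    rw [← mul_inv_eq_iff_eq_mul.mpr h1.symm, mul_assoc]
    congr 1
    rw [mul_inv_eq_iff_eq_mul, ← hadd, sub_add_cancel]
  have heven : ∀ i, 2 * ((companion α β γ).mulVec x i - x i) = 0 := by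
    intro i
    have h1 : σ * w * σ⁻¹ * (σ * w * σ⁻¹) = 1 := by
      rw [show σ * w * σ⁻¹ * (σ * w * σ⁻¹) = σ * (w * w) * σ⁻¹ by group, hw2]; group
    have hd := heS (x - (companion α β γ).mulVec x)
    rw [hσw, mul_assoc, ← mul_assoc _ w, hc _ (hEQ hd) _ hwQ, mul_assoc w, ← mul_assoc, hw2, one_mul, ← hadd,
      ← he0] at h1
    have h2 := congrFun (hinje h1) i
    simp only [Pi.add_apply, Pi.sub_apply, Pi.zero_apply] at h2
    rw [two_mul]
    rw [← neg_eq_zero]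
    rw [← h2]; ring
  obtain ⟨y, hy⟩ := companion_even α β γ hM4 x heven
  obtain ⟨y2, hy2⟩ : ∃ y2 : W4, y2 = fun i => 2 * ((y i).val : ZMod 4) := ⟨_, rfl⟩
  rw [← hy2] at hy
  have hy2M : e y2 ∈ M := by
    refine (C.ker _ (heS _)).mp ?_
    rw [hce, hy2]
    funext i
    have key : ∀ j : Fin 2, cast42 (2 * (j.val : ZMod 4)) = 0 := by decide +kernel
    exact key (y i)
  have hσw' : σ * (w * e y2) * σ⁻¹ = w * e y2 := by
    rw [show σ * (w * e y2) * σ⁻¹ = σ * w * σ⁻¹ * (σ * e y2 * σ⁻¹) by group, hσw, hconj, mul_assoc, ← hadd]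
    congr 2
    rw [← neg_sub, hy]; abel
  have hw'Q : w * e y2 ∈ Q := mul_mem hwQ (hEQ (heS _))
  have hw'2 : w * e y2 * (w * e y2) = 1 := by
    rw [mul_assoc, ← mul_assoc (e y2) w, hc _ (hEQ (heS _)) _ hwQ, mul_assoc w, hM2 _ hy2M, mul_one, hw2]
  have hmov : ∀ g : X, g * (w * e y2) * g⁻¹ * (w * e y2)⁻¹ ∈ M := by
    intro g
    have hg : g * (w * e y2) * g⁻¹ ∈ Q := ‹Q.Normal›.conj_mem _ hw'Q g
    have hinv : (w * e y2)⁻¹ = w * e y2 := inv_eq_of_mul_eq_one_right hw'2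
    have hgE : g * (w * e y2) * g⁻¹ ∉ E := fun h => hwE (by
      have := hEn.conj_mem _ h g⁻¹
      rw [inv_inv, show g⁻¹ * (g * (w * e y2) * g⁻¹) * g = w * e y2 by group] at this
      have := mul_mem this (inv_mem (hME hy2M))
      rwa [mul_inv_cancel_right] at this)
    have hw'E : w * e y2 ∉ E := fun h => hwE (by
      have := mul_mem h (inv_mem (hME hy2M)); rwa [mul_inv_cancel_right] at this)
    have hmem : g * (w * e y2) * g⁻¹ * (w * e y2)⁻¹ ∈ E := by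
      have h1 := hE2 _ hw'Q _ hg hw'E hgE
      rwa [← hc _ hg _ (inv_mem hw'Q)] at h1
    refine hinj _ hmem ?_
    show _ * _ = 1
    rw [hinv, show g * (w * e y2) * g⁻¹ * (w * e y2) * (g * (w * e y2) * g⁻¹ * (w * e y2)) =
      g * (w * e y2) * g⁻¹ * ((w * e y2) * (g * (w * e y2) * g⁻¹)) * (w * e y2) by group, hc _ hw'Q _ hg,
      show g * (w * e y2) * g⁻¹ * (g * (w * e y2) * g⁻¹ * (w * e y2)) * (w * e y2) =
        g * ((w * e y2) * (w * e y2)) * g⁻¹ * ((w * e y2) * (w * e y2)) by group, hw'2]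
    group
  obtain ⟨m, hm, hfix⟩ := fixed_in_coset C hlin hinj hsurj (w * e y2) hmov (fun m hm => hMc m hm _ hw'Q)
    (fun q hq => hc q hq _ hw'Q) (fun q hq m hm => (hMc m hm q hq).symm) hσ (mul_inv_eq_iff_eq_mul.mp hσw')
  -- factor out the fixed involution
  obtain ⟨u, hu⟩ : ∃ u, u = w * e y2 * m := ⟨_, rfl⟩
  rw [← hu] at hfix
  have huQ : u ∈ Q := hu ▸ mul_mem hw'Q (hEQ (hME hm))
  have huM : u ∉ E := fun h => hwE (by
    have := mul_mem (mul_mem h (inv_mem (hME hm))) (inv_mem (hME hy2M))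
    rwa [hu, mul_inv_cancel_right, mul_inv_cancel_right] at this)
  have hu2 : u * u = 1 := by
    rw [hu, mul_assoc, ← mul_assoc m, hMc m hm _ hw'Q, mul_assoc _ m m, hM2 m hm, mul_one, hw'2]
  let R2 : Subgroup X :=
    { carrier := {p | p ∈ Q ∧ p * p = 1}
      one_mem' := ⟨one_mem _, one_mul _⟩
      mul_mem' := by
        rintro p q ⟨hp, hp'⟩ ⟨hq, hq'⟩
        refine ⟨mul_mem hp hq, ?_⟩
        rw [mul_assoc, ← mul_assoc q, hc q hq p hp, mul_assoc p q, hq', mul_one, hp']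
      inv_mem' := by
        rintro p ⟨hp, hp'⟩
        exact ⟨inv_mem hp, by rw [inv_eq_of_mul_eq_one_right hp', hp']⟩ }
  have hR2cases : ∀ r ∈ R2, r ∈ M ∨ u * r ∈ M := by
    rintro r ⟨hr, hr2⟩
    by_cases hrE : r ∈ E
    · exact Or.inl (hinj r hrE hr2)
    · right
      have h := hE2 u huQ r hr huM hrE
      rw [inv_eq_of_mul_eq_one_right hu2] at h
      refine hinj _ h ?_
      show u * r * (u * r) = 1
      rw [mul_assoc, ← mul_assoc r, hc r hr u huQ, mul_assoc u r r, hr2, mul_one, hu2]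
  haveI : R2.Normal := ⟨by
    rintro p ⟨hp, hp'⟩ g
    exact ⟨‹Q.Normal›.conj_mem p hp g, by
      rw [show g * p * g⁻¹ * (g * p * g⁻¹) = g * (p * p) * g⁻¹ by group, hp']; group⟩⟩
  have hMR2 : M ≤ R2 := fun m hm => ⟨hEQ (hME hm), hM2 m hm⟩
  have huR2 : u ∈ R2 := ⟨huQ, hu2⟩
  have hR2card : Nat.card R2 = 2 * Nat.card M := by
    rw [two_mul, ← Nat.card_sum]
    refine (Nat.card_congr (Equiv.ofBijective (Sum.elim (fun m : M => (⟨m, hMR2 m.2⟩ : R2))
      (fun m : M => (⟨u * m, mul_mem huR2 (hMR2 m.2)⟩ : R2))) ⟨?_, ?_⟩)).symm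
    · rintro (a | a) (b | b) h <;> simp only [Sum.elim_inl, Sum.elim_inr, Subtype.mk.injEq] at h
      · exact congrArg _ (Subtype.ext h)
      · exact absurd (hME (by rw [eq_mul_inv_of_mul_eq h.symm]; exact mul_mem a.2 (inv_mem b.2))) huM
      · exact absurd (hME (by rw [eq_mul_inv_of_mul_eq h]; exact mul_mem b.2 (inv_mem a.2))) huM
      · exact congrArg _ (Subtype.ext (mul_left_cancel h))
    · intro p
      rcases hR2cases p p.2 with hp | hp
      · exact ⟨Sum.inl ⟨p, hp⟩, rfl⟩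
      · exact ⟨Sum.inr ⟨_, hp⟩, Subtype.ext (by show u * (u * (p : X)) = p; rw [← mul_assoc, hu2, one_mul])⟩
  have hR2act : ∀ g : X, ∀ r ∈ R2, g * r * g⁻¹ * r⁻¹ ∈ M := fun g r hr => by
    rcases hR2cases r hr with h | h
    · exact mul_mem (hMn.conj_mem r h g) (inv_mem h)
    · obtain ⟨n, hn, rfl⟩ : ∃ n ∈ M, r = u * n := ⟨_, h, by rw [← mul_assoc, hu2, one_mul]⟩
      have hn' : g * n * g⁻¹ * n⁻¹ ∈ M := mul_mem (hMn.conj_mem n hn g) (inv_mem hn)
      rw [show g * (u * n) * g⁻¹ * (u * n)⁻¹ = g * u * g⁻¹ * (g * n * g⁻¹ * n⁻¹) * u⁻¹ by group, hfix g,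
        mul_inv_cancel_right, ← hMc _ hn' u huQ, mul_inv_cancel_right]
      exact hn'
  obtain ⟨F', ⟨C'⟩⟩ := exists_frame hcard (show R2 ≤ Q from fun p hp => hp.1) (by rw [h16, hR2card]; ring)
    (fun p hp => hMR2 (hsq p hp)) (fun q hq p hp => hMR2 (hQQ q hq p hp))
    (nontrivial_factor hcard M hQQ hne R2 (fun p hp => hp.1) hR2act)
  refine false_of_fixed h4 hQp C' hc (fun r hr => hr.2) (fun p hp h => ⟨hp, h⟩) u huR2 ?_ ?_ hfix
  · intro p hp h
    exact huM (hME (h ▸ hsq p hp))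
  · intro r hr
    rcases hR2cases r hr with h | h
    · obtain ⟨p, hp, he⟩ := hsurj r h
      exact ⟨p, hEQ hp, Or.inl he.symm⟩
    · obtain ⟨p, hp, he⟩ := hsurj _ h
      exact ⟨p, hEQ hp, Or.inr (by rw [show p * p = u * r from he, ← mul_assoc, hu2, one_mul])⟩

/-- A minimal normal squares subgroup has order two. -/
theorem layer_one [Finite X] (h4 : Cfsg.SectionalPRankLE 2 4 X) [Q.Normal] [IsSimpleGroup (X ⧸ Q)]
    (hcard : Nat.card (X ⧸ Q) = 168) (hQp : IsPGroup 2 Q) (M : Subgroup X) [hMn : M.Normal] (hMQ : M ≤ Q)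
    (hM1 : M ≠ ⊥) (hsq : ∀ q ∈ Q, q * q ∈ M) (hM2 : ∀ m ∈ M, m * m = 1)
    (hMc : ∀ m ∈ M, ∀ q ∈ Q, m * q = q * m) (hgen : M ≤ Subgroup.closure {m | ∃ q ∈ Q, q * q = m})
    (hmin : ∀ Y : Subgroup X, Y.Normal → Y ≤ M → Y = ⊥ ∨ Y = M)
    (hne : ∃ x : X, ∃ q ∈ Q, x * q * x⁻¹ * q⁻¹ ∉ M) :
    Nat.card M = 2 ∧ Nat.card Q = 32 ∧ (∀ p ∈ Q, ∀ q ∈ Q, p * q = q * p) ∧
      ∃ E : Subgroup X, E.Normal ∧ M ≤ E ∧ E ≤ Q ∧ Nat.card E = 16 ∧ ∀ p ∈ E, p * p = 1 := by
  classical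
  have hQQ : ∀ p ∈ Q, ∀ q ∈ Q, p * q * p⁻¹ * q⁻¹ ∈ M := fun p hp q hq => by
    have h := mul_mem (mul_mem (hsq _ (mul_mem hp hq)) (hsq _ (mul_mem (mul_mem (inv_mem hq) (inv_mem hp)) hq)))
      (hsq _ (inv_mem hq))
    convert h using 1
    group
  let g : Q →* X ⧸ M := (QuotientGroup.mk' M).comp Q.subtype
  have hW16 : Nat.card g.range ≤ 16 := card_le_of_rank h4 Q M hsq
  have hker : Nat.card g.ker = Nat.card M :=
    Nat.card_congr ⟨fun q => ⟨q.1.1, (QuotientGroup.eq_one_iff _).mp q.2⟩,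
      fun m => ⟨⟨m.1, hMQ m.2⟩, (QuotientGroup.eq_one_iff _).mpr m.2⟩, fun q => rfl, fun m => rfl⟩
  have hQc : Nat.card Q = Nat.card g.range * Nat.card M := by
    have h := g.ker.card_mul_index
    rw [Subgroup.index_ker, hker] at h
    rw [← h, mul_comm]
  haveI := Fact.mk Nat.prime_two
  obtain ⟨k, hk⟩ : ∃ k, Nat.card g.range = 2 ^ k := (hQp.of_surjective g.rangeRestrict g.rangeRestrict_surjective).exists_card_eq
  have hk4 : k ≤ 4 := (Nat.pow_le_pow_iff_right (a := 2) (by norm_num)).mp (by rw [← hk]; exact hW16)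
  -- the action on the Frattini quotient is faithful
  have hk3 : 3 ≤ k := by
    by_contra hlt
    have h4' : Nat.card g.range ≤ 4 := by
      rw [hk]; exact (Nat.pow_le_pow_right (by norm_num) (show k ≤ 2 by omega)).trans (by norm_num)
    let π : X → g.range → g.range := fun x w =>
      ⟨(x : X ⧸ M) * w * (x : X ⧸ M)⁻¹, by
        obtain ⟨q, hq⟩ := w.2
        exact ⟨⟨x * q * x⁻¹, ‹Q.Normal›.conj_mem q q.2 x⟩, by rw [← hq]; rfl⟩⟩
    let f : X ⧸ Q → (g.range → g.range) := fun v => π v.out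
    have hf : Function.Injective f := by
      intro v w h
      rw [← QuotientGroup.out_eq' v, ← QuotientGroup.out_eq' w, QuotientGroup.eq]
      refine ker_act M hQQ hne _ fun q hq => (QuotientGroup.eq_one_iff _).mp ?_
      have h1 : (v.out : X ⧸ M) * (q : X ⧸ M) * (v.out : X ⧸ M)⁻¹ = (w.out : X ⧸ M) * (q : X ⧸ M) * (w.out : X ⧸ M)⁻¹ :=
        congrArg Subtype.val (congrFun h ⟨(q : X ⧸ M), ⟨q, hq⟩, rfl⟩)
      simp only [QuotientGroup.mk_mul, QuotientGroup.mk_inv]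
      calc (v.out : X ⧸ M)⁻¹ * w.out * q * ((v.out : X ⧸ M)⁻¹ * w.out)⁻¹ * (q : X ⧸ M)⁻¹
          = (v.out : X ⧸ M)⁻¹ * ((w.out : X ⧸ M) * q * (w.out : X ⧸ M)⁻¹) * v.out * (q : X ⧸ M)⁻¹ := by group
        _ = 1 := by rw [← h1]; group
    -- every map fixes the identity
    let f' : X ⧸ Q → ({w : g.range // w ≠ 1} → g.range) := fun v w => f v w
    have hf' : Function.Injective f' := by
      intro v w hvw
      refine hf (funext fun z => ?_)
      by_cases hz : z = 1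
      · subst hz
        exact Subtype.ext (by simp [f, π])
      · exact congrFun hvw ⟨z, hz⟩
    have h' := Nat.card_le_card_of_injective f' hf'
    rw [hcard, Nat.card_fun] at h'
    have hc3 : Nat.card {w : g.range // w ≠ 1} ≤ 3 := by
      haveI := Fintype.ofFinite g.range
      rw [Nat.card_eq_fintype_card, Fintype.card_subtype_compl, Fintype.card_subtype_eq, ← Nat.card_eq_fintype_card]
      omega
    have : Nat.card g.range ^ Nat.card {w : g.range // w ≠ 1} ≤ 4 ^ 3 :=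
      (Nat.pow_le_pow_left h4' _).trans (Nat.pow_le_pow_right (by norm_num) hc3)
    omega
  rcases (show k = 3 ∨ k = 4 by omega) with rfl | rfl
  · exfalso
    rw [show (2 : ℕ) ^ 3 = 8 from rfl] at hk
    rw [hk] at hQc
    obtain ⟨F, ⟨C⟩⟩ := exists_frame hcard hMQ hQc hsq hQQ hne
    have hcomm := comm_of_quadratic C M hM2 hMc hMQ hsq hQQ hM2 hMc hmin
    have hlin : LinMap C M sqr := sqr_linMap C hsq hcomm hM2
    rcases hlin.zero_or_iso hmin with h0 | ⟨hinj, hsurj⟩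
    · refine hM1 (le_bot_iff.mp (hgen.trans ((Subgroup.closure_le _).mpr ?_)))
      rintro _ ⟨q, hq, rfl⟩
      exact h0 q hq
    exact homocyclic_false h4 hQp C ⟨hcomm, fun p hp => ⟨hinj p hp, fun h => hM2 p h⟩, hsurj⟩
  rw [show (2 : ℕ) ^ 4 = 16 from rfl] at hk
  rw [hk] at hQc
  by_cases hE : ∃ E : Subgroup X, E.Normal ∧ M ≤ E ∧ E ≤ Q ∧ Nat.card E = 8 * Nat.card M
  · obtain ⟨E, hEn, hME, hEQ, hE8⟩ := hE
    exact case_hyperplane h4 hcard hQp M hsq hM2 hMc hgen hM1 hmin hQc hne E hME hEQ hE8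
  exfalso
  rcases hyperplane_or_point hcard hQp M hMQ hsq hQc hne with h | ⟨u, hu, huM, hufix⟩
  · exact hE h
  · exact case_point h4 hcard hQp M hMQ hM1 hsq hM2 hMc hgen hmin hQc hne u hu huM hufix hE

end Cfsg.Agent.Sec62
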