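import Cfsg.Agent.Sec62.Layer1

/-!
No second layer.
-/

set_option autoImplicit false
set_option linter.style.haveILetI false

namespace Cfsg.Agent.Sec62

variable {X : Type*} [Group X] {Q : Subgroup X}

/-- factoring out a fixed involution of the upper layer -/
theorem false_of_fixed_layer [Finite X] (h4 : Cfsg.SectionalPRankLE 2 4 X) [Q.Normal] [IsSimpleGroup (X ⧸ Q)]
    (hcard : Nat.card (X ⧸ Q) = 168) (hQp : IsPGroup 2 Q) (M P : Subgroup X) [hMn : M.Normal] [hPn : P.Normal]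
    (hMP : M ≤ P) (hPQ : P ≤ Q) (hM8 : Nat.card M = 8) (hP2 : ∀ p ∈ P, p * p = 1)
    (hPc : ∀ p ∈ P, ∀ q ∈ Q, p * q = q * p) (hsq : ∀ q ∈ Q, q * q ∈ P)
    (hgen : P ≤ Subgroup.closure {m | ∃ q ∈ Q, q * q = m})
    (hmin : ∀ Y : Subgroup X, Y.Normal → Y ≤ M → Y = ⊥ ∨ Y = M)
    (hne : ∃ x : X, ∃ q ∈ Q, x * q * x⁻¹ * q⁻¹ ∉ P) (s : X) (hsP : s ∈ P) (hsM : s ∉ M)
    (hcov : ∀ p ∈ P, p ∈ M ∨ s * p ∈ M) (hfix : ∀ x : X, x * s = s * x) : False := by
  classical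
  obtain ⟨U, hU⟩ : ∃ U, U = Subgroup.zpowers s := ⟨_, rfl⟩
  have hs2 := hP2 s hsP
  have hUmem : ∀ a ∈ U, a = 1 ∨ a = s := fun a ha => by
    rw [hU, Subgroup.mem_zpowers_iff] at ha
    obtain ⟨n, rfl⟩ := ha
    rcases Int.even_or_odd n with ⟨k, hk⟩ | ⟨k, hk⟩
    · left; rw [hk, zpow_add, ← (Commute.refl s).mul_zpow, hs2, one_zpow]
    · right
      rw [hk, two_mul, zpow_add, zpow_add, ← (Commute.refl s).mul_zpow, hs2, one_zpow, one_mul, zpow_one]
  haveI hUn : U.Normal := ⟨fun a ha x => by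
    rcases hUmem a ha with rfl | rfl
    · simp
    · rw [hfix x, mul_inv_cancel_right]; exact ha⟩
  have hUP : U ≤ P := hU ▸ Subgroup.zpowers_le.mpr hsP
  obtain ⟨f, hfdef⟩ : ∃ f : X →* X ⧸ U, f = QuotientGroup.mk' U := ⟨_, rfl⟩
  have hfs : Function.Surjective f := by rw [hfdef]; exact QuotientGroup.mk'_surjective U
  have hf : ∀ a, f a = 1 ↔ a ∈ U := fun a => by rw [hfdef]; exact QuotientGroup.eq_one_iff a
  have hfmem : ∀ {K : Subgroup X} {a : X}, U ≤ K → f a ∈ K.map f → a ∈ K := by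
    rintro K a hK ⟨b, hb, he⟩
    have := mul_mem hb (hK ((hf (b⁻¹ * a)).mp (by rw [map_mul, map_inv, he, inv_mul_cancel])))
    rwa [mul_inv_cancel_left] at this
  haveI : (Q.map f).Normal := ‹Q.Normal›.map f hfs
  haveI : (P.map f).Normal := hPn.map f hfs
  let g : X →* (X ⧸ U) ⧸ Q.map f := (QuotientGroup.mk' (Q.map f)).comp f
  have hg : Function.Surjective g := (QuotientGroup.mk'_surjective _).comp hfs
  have hgker : g.ker = Q := by
    ext a
    rw [MonoidHom.mem_ker]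
    show (QuotientGroup.mk' (Q.map f) (f a) = 1) ↔ _
    rw [QuotientGroup.mk'_apply, QuotientGroup.eq_one_iff]
    exact ⟨hfmem (hUP.trans hPQ), Subgroup.mem_map_of_mem f⟩
  let e : X ⧸ Q ≃* (X ⧸ U) ⧸ Q.map f :=
    (QuotientGroup.quotientMulEquivOfEq hgker.symm).trans (QuotientGroup.quotientKerEquivOfSurjective g hg)
  haveI : Nontrivial ((X ⧸ U) ⧸ Q.map f) := e.symm.toEquiv.nontrivial
  haveI : IsSimpleGroup ((X ⧸ U) ⧸ Q.map f) := IsSimpleGroup.isSimpleGroup_of_surjective e.toMonoidHom e.surjective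
  have hc' : Nat.card ((X ⧸ U) ⧸ Q.map f) = 168 := by rw [← Nat.card_congr e.toEquiv, hcard]
  have hcardP : Nat.card (P.map f) = 8 := by
    rw [← hM8]
    let h : M → P.map f := fun m => ⟨f m, Subgroup.mem_map_of_mem f (hMP m.2)⟩
    refine (Nat.card_congr (Equiv.ofBijective h ⟨fun a b hab => ?_, ?_⟩)).symm
    · have : (b : X)⁻¹ * a ∈ U := (hf _).mp (by rw [map_mul, map_inv, show f (a : X) = f b from congrArg Subtype.val hab, inv_mul_cancel])
      rcases hUmem _ this with h1 | h1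
      · exact Subtype.ext (inv_mul_eq_one.mp h1).symm
      · exact absurd (h1 ▸ mul_mem (inv_mem b.2) a.2) hsM
    · rintro ⟨_, p, hp, rfl⟩
      rcases hcov p hp with hp' | hp'
      · exact ⟨⟨p, hp'⟩, rfl⟩
      · refine ⟨⟨_, hp'⟩, Subtype.ext ?_⟩
        show f (s * p) = f p
        rw [map_mul, (hf s).mpr (hU ▸ Subgroup.mem_zpowers s), one_mul]
  have hres := layer_one (Q := Q.map f) (FGS82.Meta2.rank_of_surjective h4 f hfs) hc' (hQp.map f) (P.map f)
    (Subgroup.map_mono hPQ) (fun h => by rw [h, Subgroup.card_bot] at hcardP; norm_num at hcardP)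
    (by rintro _ ⟨q, hq, rfl⟩; rw [← map_mul]; exact Subgroup.mem_map_of_mem f (hsq q hq))
    (by rintro _ ⟨p, hp, rfl⟩; rw [← map_mul, hP2 p hp, map_one])
    (by rintro _ ⟨p, hp, rfl⟩ _ ⟨q, hq, rfl⟩; rw [← map_mul, ← map_mul, hPc p hp q hq])
    (by
      refine (Subgroup.map_mono hgen).trans ?_
      rw [MonoidHom.map_closure]
      refine Subgroup.closure_mono ?_
      rintro _ ⟨m, ⟨q, hq, rfl⟩, rfl⟩
      exact ⟨f q, Subgroup.mem_map_of_mem f hq, (map_mul f q q).symm⟩)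
    (by
      intro Y hY hYP
      rcases hmin (Y.comap f ⊓ M) inferInstance inf_le_right with h | h
      · left
        rw [eq_bot_iff]
        intro y hy
        obtain ⟨p, hp, rfl⟩ := hYP hy
        rw [Subgroup.mem_bot, hf]
        rcases hcov p hp with hp' | hp'
        · have : p ∈ (⊥ : Subgroup X) := h ▸ ⟨hy, hp'⟩
          rw [Subgroup.mem_bot] at this
          subst this
          exact one_mem _
        · have : s * p ∈ (⊥ : Subgroup X) := h ▸ ⟨show f (s * p) ∈ Y by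
            rw [map_mul, (hf s).mpr (hU ▸ Subgroup.mem_zpowers s), one_mul]; exact hy, hp'⟩
          rw [Subgroup.mem_bot] at this
          rw [show p = s from (eq_inv_of_mul_eq_one_right this).trans (inv_eq_of_mul_eq_one_right hs2), hU]
          exact Subgroup.mem_zpowers s
      · right
        refine le_antisymm hYP ?_
        rintro _ ⟨p, hp, rfl⟩
        rcases hcov p hp with hp' | hp'
        · exact (h.ge hp').1
        · have : f (s * p) ∈ Y := (h.ge hp').1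
          rwa [map_mul, (hf s).mpr (hU ▸ Subgroup.mem_zpowers s), one_mul] at this)
    (by
      obtain ⟨x, q, hq, hxq⟩ := hne
      refine ⟨f x, f q, Subgroup.mem_map_of_mem f hq, fun h => hxq (hfmem hUP ?_)⟩
      simpa only [map_mul, map_inv] using h)
  rw [hcardP] at hres
  exact absurd hres.1 (by norm_num)

variable {F : Frame Q} {S R : Subgroup X}

/-- equivariant alternating pairing with fixed values -/
theorem br_eq_one_of_fixed (C : Coord F S R) (M : Subgroup X) (hM2 : ∀ m ∈ M, m * m = 1)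
    (hMc : ∀ m ∈ M, ∀ p ∈ S, m * p = p * m) (hbr : ∀ p ∈ S, ∀ q ∈ S, br p q ∈ M)
    (hfix : ∀ x : X, ∀ m ∈ M, x * m * x⁻¹ = m) (hRc : ∀ r ∈ R, ∀ p ∈ S, r * p = p * r) :
    ∀ p ∈ S, ∀ q ∈ S, br p q = 1 := by
  have hbl : ∀ p ∈ S, ∀ a ∈ S, ∀ b ∈ S, br p (a * b) = br p a * br p b := fun p hp a ha b hb => by
    rw [show br p (a * b) = br p a * (a * br p b * a⁻¹) by simp only [br]; group,
      ← hMc _ (hbr p hp b hb) a ha, mul_inv_cancel_right]
  have hsym : ∀ p ∈ S, ∀ q ∈ S, br q p = br p q := fun p hp q hq => by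
    have : br q p = (br p q)⁻¹ := by simp only [br]; group
    rw [this, inv_eq_of_mul_eq_one_right (hM2 _ (hbr p hp q hq))]
  have hR0 : ∀ r ∈ R, ∀ p ∈ S, br p r = 1 := fun r hr p hp => by
    simp only [br]; rw [← hRc r hr p hp]; group
  have hc : ∀ p ∈ S, ∀ q ∈ S, ∀ q' ∈ S, C.c q = C.c q' → br p q = br p q' := fun p hp q hq q' hq' h => by
    have hr := (C.eq_iff hq hq').mp h
    have := hbl p hp q' hq' _ (C.le hr)
    rw [mul_inv_cancel_left, hR0 _ hr p hp, mul_one] at this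
    exact this
  have hc2 : ∀ p ∈ S, ∀ q ∈ S, ∀ p' ∈ S, ∀ q' ∈ S, C.c p = C.c p' → C.c q = C.c q' → br p q = br p' q' := by
    intro p hp q hq p' hp' q' hq' h h'
    rw [hc p hp q hq q' hq' h', hsym q' hq' p hp, hc q' hq' p hp p' hp' h, hsym p' hp' q' hq']
  obtain ⟨u1, h1, hc1⟩ := C.surj e1
  obtain ⟨u2, h2, hcu2⟩ := C.surj e2
  obtain ⟨u3, h3, hc3⟩ := C.surj e3
  have hall : ∀ p ∈ S, ∀ q ∈ S, C.c p ≠ 0 → C.c q ≠ 0 → C.c p ≠ C.c q → br p q = br u1 u2 := by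
    intro p hp q hq hp0 hq0 hpq
    obtain ⟨A, hA, hA1, hA2⟩ := trans_pair _ _ hp0 hq0 hpq
    obtain ⟨x, rfl⟩ := F.surj' A hA
    rw [hc2 p hp q hq _ (C.conj x u1 h1) _ (C.conj x u2 h2) (by rw [← C.act x u1 h1, hc1, hA1])
      (by rw [← C.act x u2 h2, hcu2, hA2]), ← br_conj, hfix x _ (hbr u1 h1 u2 h2)]
  have hb : br u1 u2 = 1 := by
    have e := hbl u1 h1 u2 h2 u3 h3
    rw [hall u1 h1 u3 h3 (by rw [hc1]; decide) (by rw [hc3]; decide) (by rw [hc1, hc3]; decide),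
      hall u1 h1 _ (mul_mem h2 h3) (by rw [hc1]; decide) (by rw [C.add _ h2 _ h3, hcu2, hc3]; decide)
        (by rw [C.add _ h2 _ h3, hc1, hcu2, hc3]; decide)] at e
    exact left_eq_mul.mp e
  intro p hp q hq
  by_cases hp0 : C.c p = 0
  · rw [← hsym p hp q hq]; exact hR0 p ((C.ker p hp).mp hp0) q hq
  by_cases hq0 : C.c q = 0
  · exact hR0 q ((C.ker q hq).mp hq0) p hp
  by_cases hpq : C.c p = C.c q
  · rw [hc p hp q hq p hp hpq.symm]; simp [br]
  rw [hall p hp q hq hp0 hq0 hpq, hb]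

/-- an equivariant homomorphism with fixed values vanishes -/
theorem LinMap.eq_one_of_fixed {C : Coord F S R} {M : Subgroup X} {g : X → X} (hg : LinMap C M g)
    (hfix : ∀ x : X, ∀ m ∈ M, x * m * x⁻¹ = m) : ∀ p ∈ S, g p = 1 := by
  obtain ⟨u1, h1, hc1⟩ := C.surj e1
  obtain ⟨u2, h2, hc2⟩ := C.surj e2
  have hall : ∀ p ∈ S, C.c p ≠ 0 → g p = g u1 := by
    intro p hp hp0
    obtain ⟨x, hx⟩ := C.conj_class h1 hp (by rw [hc1]; decide) hp0
    rw [hg.congr_mod hp (C.conj x u1 h1) hx, hg.act x u1 h1, hfix x _ (hg.mem u1 h1)]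
  have h := hg.mul u1 h1 u2 h2
  rw [hall u2 h2 (by rw [hc2]; decide),
    hall _ (mul_mem h1 h2) (by rw [C.add _ h1 _ h2, hc1, hc2]; decide)] at h
  intro p hp
  by_cases hp0 : C.c p = 0
  · exact hg.one p ((C.ker p hp).mp hp0)
  · rw [hall p hp hp0]; exact left_eq_mul.mp h

set_option maxHeartbeats 1000000 in
theorem layer_two [Finite X] (h4 : Cfsg.SectionalPRankLE 2 4 X) [Q.Normal] [IsSimpleGroup (X ⧸ Q)]
    (hcard : Nat.card (X ⧸ Q) = 168) (hQp : IsPGroup 2 Q) (M P E : Subgroup X) [hMn : M.Normal] [hPn : P.Normal]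
    [hEn : E.Normal] (hMP : M ≤ P) (hPE : P ≤ E) (hEQ : E ≤ Q) (hM1 : M ≠ ⊥)
    (hM2 : ∀ m ∈ M, m * m = 1) (hMc : ∀ m ∈ M, ∀ q ∈ Q, m * q = q * m)
    (hmin : ∀ Y : Subgroup X, Y.Normal → Y ≤ M → Y = ⊥ ∨ Y = M)
    (hP : Nat.card P = 2 * Nat.card M) (hE8 : Nat.card E = 8 * Nat.card P) (hQ2 : Nat.card Q = 2 * Nat.card E)
    (hsq : ∀ q ∈ Q, q * q ∈ P) (hgen : P ≤ Subgroup.closure {m | ∃ q ∈ Q, q * q = m})
    (hEsq : ∀ p ∈ E, p * p ∈ M) (hQQ : ∀ p ∈ Q, ∀ q ∈ Q, p * q * p⁻¹ * q⁻¹ ∈ M)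
    (hne : ∃ x : X, ∃ q ∈ Q, x * q * x⁻¹ * q⁻¹ ∉ P) : False := by
  classical
  have hMQ : M ≤ Q := hMP.trans (hPE.trans hEQ)
  have hPQ : P ≤ Q := hPE.trans hEQ
  -- the upper layer is central
  have hbrM : ∀ p ∈ Q, ∀ q ∈ Q, br p q ∈ M := hQQ
  have hbl : ∀ p ∈ Q, ∀ a ∈ Q, ∀ b ∈ Q, br p (a * b) = br p a * br p b := fun p hp a ha b hb => by
    rw [show br p (a * b) = br p a * (a * br p b * a⁻¹) by simp only [br]; group,
      ← hMc _ (hbrM p hp b hb) a ha, mul_inv_cancel_right]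
  have hPc : ∀ p ∈ P, ∀ q ∈ Q, p * q = q * p := by
    intro p hp q hq
    have hle : P ≤ Subgroup.centralizer ({q} : Set X) := hgen.trans ((Subgroup.closure_le _).mpr (by
      rintro _ ⟨a, ha, rfl⟩
      rw [SetLike.mem_coe, Subgroup.mem_centralizer_singleton_iff]
      have h1 : br q (a * a) = 1 := by rw [hbl q hq a ha a ha]; exact hM2 _ (hbrM q hq a ha)
      symm
      rw [show q * (a * a) = br q (a * a) * (a * a * q) by simp only [br]; group, h1, one_mul]))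
    exact Subgroup.mem_centralizer_singleton_iff.mp (hle hp)
  have hidx : (E.subgroupOf Q).index = 2 := by
    have h := (E.subgroupOf Q).card_mul_index
    rw [Nat.card_congr (Subgroup.subgroupOfEquivOfLe hEQ).toEquiv, hQ2, mul_comm 2] at h
    exact Nat.eq_of_mul_eq_mul_left Nat.card_pos h
  have hE2 : ∀ p ∈ Q, ∀ q ∈ Q, p ∉ E → q ∉ E → p⁻¹ * q ∈ E := by
    intro p hp q hq hpE hqE
    have h := Subgroup.mul_mem_iff_of_index_two hidx (a := (⟨p, hp⟩⁻¹ : Q)) (b := ⟨q, hq⟩)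
    simp only [Subgroup.mem_subgroupOf, Subgroup.coe_mul, Subgroup.coe_inv, inv_mem_iff] at h
    exact h.mpr (iff_of_false hpE hqE)
  obtain ⟨x0, hx0Q, hx0sq⟩ : ∃ x0 ∈ Q, x0 * x0 ∉ M := by
    by_contra h
    push Not at h
    have hle : P ≤ M := hgen.trans ((Subgroup.closure_le _).mpr (by rintro _ ⟨a, ha, rfl⟩; exact h a ha))
    have := Subgroup.card_le_of_le hle
    rw [hP] at this
    have : 0 < Nat.card M := Nat.card_pos
    omega
  have hx0E : x0 ∉ E := fun h => hx0sq (hEsq x0 h)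
  have hcov : ∀ p ∈ Q, p ∉ E → ∃ e ∈ E, p = x0 * e := fun p hp hpE =>
    ⟨_, hE2 x0 hx0Q p hp hx0E hpE, (mul_inv_cancel_left x0 p).symm⟩
  have hsqmul : ∀ e ∈ E, x0 * e * (x0 * e) = x0 * x0 * (e * e * br x0 e) := fun e he => by
    have h1 : br e x0 = br x0 e := by
      rw [show br e x0 = (br x0 e)⁻¹ by simp only [br]; group,
        inv_eq_of_mul_eq_one_right (hM2 _ (hbrM x0 hx0Q e (hEQ he)))]
    rw [show x0 * e * (x0 * e) = x0 * (br e x0 * x0) * (e * e) by simp only [br]; group,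
      hMc _ (hbrM e (hEQ he) x0 hx0Q) x0 hx0Q, ← mul_assoc x0 x0, h1, mul_assoc, mul_assoc, mul_assoc]
    congr 2
    exact hMc _ (hbrM x0 hx0Q e (hEQ he)) _ (mul_mem (hEQ he) (hEQ he))
  have hPcov : ∀ p ∈ P, p ∈ M ∨ (x0 * x0)⁻¹ * p ∈ M := by
    have hidxP : (M.subgroupOf P).index = 2 := by
      have h := (M.subgroupOf P).card_mul_index
      rw [Nat.card_congr (Subgroup.subgroupOfEquivOfLe hMP).toEquiv, hP, mul_comm 2] at h
      exact Nat.eq_of_mul_eq_mul_left Nat.card_pos h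
    intro p hp
    by_cases hpM : p ∈ M
    · exact Or.inl hpM
    · right
      have h := Subgroup.mul_mem_iff_of_index_two hidxP (a := (⟨_, hsq x0 hx0Q⟩⁻¹ : P)) (b := ⟨p, hp⟩)
      simp only [Subgroup.mem_subgroupOf, Subgroup.coe_mul, Subgroup.coe_inv, inv_mem_iff] at h
      exact h.mpr (iff_of_false hx0sq hpM)
  -- the action on `E / P` is nontrivial
  have hneE : ∃ x : X, ∃ p ∈ E, x * p * x⁻¹ * p⁻¹ ∉ P := by
    by_contra h
    push Not at h
    obtain ⟨x, q, hq, hxq⟩ := nontrivial_factor hcard P (fun p hp q hq => hMP (hQQ p hp q hq)) hne E hEQ h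
    refine hxq ?_
    have hq' : x * q * x⁻¹ ∈ Q := ‹Q.Normal›.conj_mem q hq x
    by_cases hqE : q ∈ E
    · exact mul_mem (hEn.conj_mem q hqE x) (inv_mem hqE)
    · have hx' : x * q * x⁻¹ ∉ E := fun he => hqE (by
        have := hEn.conj_mem _ he x⁻¹
        rwa [inv_inv, show x⁻¹ * (x * q * x⁻¹) * x = q by group] at this)
      have := hEn.conj_mem _ (inv_mem (hE2 _ hq' q hq hx' hqE)) q
      rwa [show q * ((x * q * x⁻¹)⁻¹ * q)⁻¹ * q⁻¹ = x * q * x⁻¹ * q⁻¹ by group] at this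
  obtain ⟨F, ⟨C⟩⟩ := exists_frame hcard hPE hE8 (fun p hp => hMP (hEsq p hp))
    (fun q hq p hp => hMP (hQQ q hq p (hEQ hp))) hneE
  have hx0conj : ∀ g : X, ∃ e ∈ E, g * x0 * g⁻¹ = x0 * e := fun g => by
    refine hcov _ (‹Q.Normal›.conj_mem x0 hx0Q g) fun he => hx0E ?_
    have := hEn.conj_mem _ he g⁻¹
    rwa [inv_inv, show g⁻¹ * (g * x0 * g⁻¹) * g = x0 by group] at this
  have hφ : (∀ p ∈ E, ∀ q ∈ E, p * q = q * p) → LinMap C M (br x0) := by
    intro hEc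
    refine ⟨fun p hp => hbrM x0 hx0Q p (hEQ hp), fun p hp q hq => hbl x0 hx0Q p (hEQ hp) q (hEQ hq),
      fun r hr => by simp only [br]; rw [← hPc r hr x0 hx0Q]; group, fun g p hp => ?_⟩
    have hp' := C.conj g p hp
    obtain ⟨e, he, hxe⟩ := hx0conj g
    rw [br_conj, hxe, show br (x0 * e) (g * p * g⁻¹) =
      x0 * (e * (g * p * g⁻¹) * e⁻¹ * (g * p * g⁻¹)⁻¹) * x0⁻¹ * br x0 (g * p * g⁻¹) by simp only [br]; group,
      hEc e he _ hp', mul_inv_cancel_right, mul_inv_cancel, mul_one, mul_inv_cancel, one_mul]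
  have hcommQ : (∀ p ∈ E, ∀ q ∈ E, p * q = q * p) → (∀ p ∈ E, br x0 p = 1) → ∀ p ∈ Q, ∀ q ∈ Q, p * q = q * p := by
    intro hEc h0 p hp q hq
    have hx0c : ∀ e ∈ E, x0 * e = e * x0 := fun e he => by
      rw [show x0 * e = br x0 e * (e * x0) by simp only [br]; group, h0 e he, one_mul]
    have hcl : ∀ a ∈ Q, ∀ e ∈ E, a * e = e * a := fun a ha e he => by
      by_cases haE : a ∈ E
      · exact hEc a haE e he
      · obtain ⟨b, hb, rfl⟩ := hcov a ha haE
        rw [mul_assoc, hEc b hb e he, ← mul_assoc, hx0c e he, mul_assoc]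
    by_cases hqE : q ∈ E
    · exact hcl p hp q hqE
    obtain ⟨b, hb, rfl⟩ := hcov q hq hqE
    have : p * x0 = x0 * p := by
      by_cases hpE : p ∈ E
      · exact (hx0c p hpE).symm
      · obtain ⟨a, ha, rfl⟩ := hcov p hp hpE
        rw [mul_assoc, ← hx0c a ha]
    rw [← mul_assoc, this, mul_assoc, hcl p hp b hb, ← mul_assoc]
  obtain ⟨x4, hx4⟩ : ∃ x4, x4 = x0 * x0 * (x0 * x0) := ⟨_, rfl⟩
  have hx4M : x4 ∈ M := by
    rcases hPcov _ (mul_mem (hsq x0 hx0Q) (hsq x0 hx0Q)) with h | h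
    · exact hx4 ▸ h
    · rw [inv_mul_cancel_left] at h; exact absurd h hx0sq
  have hx4fix : ∀ g : X, g * x4 * g⁻¹ = x4 := fun g => by
    obtain ⟨e, he, hxe⟩ := hx0conj g
    have hm : e * e * br x0 e ∈ M := mul_mem (hEsq e he) (hbrM x0 hx0Q e (hEQ he))
    rw [hx4, show g * (x0 * x0 * (x0 * x0)) * g⁻¹ = g * x0 * g⁻¹ * (g * x0 * g⁻¹) * (g * x0 * g⁻¹ * (g * x0 * g⁻¹)) by group,
      hxe, hsqmul e he, mul_assoc, ← mul_assoc (e * e * br x0 e), hMc _ hm _ (mul_mem hx0Q hx0Q),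
      mul_assoc (x0 * x0) (e * e * br x0 e), hM2 _ hm, mul_one]
  by_cases hx41 : x4 = 1
  · -- exponent two upper layer
    have hP2 : ∀ p ∈ P, p * p = 1 := fun p hp => by
      rcases hPcov p hp with h | h
      · exact hM2 p h
      · obtain ⟨m, hm, rfl⟩ : ∃ m ∈ M, p = x0 * x0 * m := ⟨_, h, (mul_inv_cancel_left _ p).symm⟩
        rw [mul_assoc, ← mul_assoc m, hMc m hm _ (mul_mem hx0Q hx0Q), mul_assoc (x0 * x0) m m, hM2 m hm, mul_one,
          ← hx4, hx41]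
    have hEc := comm_of_quadratic C M hM2 (fun m hm p hp => hMc m hm p (hEQ hp)) (hMP.trans hPE) hEsq
      (fun p hp q hq => hbrM p (hEQ hp) q (hEQ hq)) hP2 (fun r hr p hp => hPc r hr p (hEQ hp)) hmin
    have hlin : LinMap C M sqr := sqr_linMap C hEsq hEc hP2
    rcases hlin.zero_or_iso hmin with hq0 | ⟨hinj, hsurj⟩
    · rcases (hφ hEc).zero_or_iso hmin with hφ0 | ⟨hφi, hφs⟩
      · have hle : P ≤ Subgroup.zpowers (x0 * x0) := hgen.trans ((Subgroup.closure_le _).mpr (by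
          rintro _ ⟨q, hq, rfl⟩
          by_cases hqE : q ∈ E
          · rw [show q * q = 1 from hq0 q hqE]; exact one_mem _
          · obtain ⟨e, he, rfl⟩ := hcov q hq hqE
            rw [hsqmul e he, show e * e = 1 from hq0 e he, one_mul, hφ0 e he, mul_one]
            exact Subgroup.mem_zpowers _))
        refine hM1 (le_bot_iff.mp fun m hm => ?_)
        obtain ⟨n, hn⟩ := Subgroup.mem_zpowers_iff.mp (hle (hMP hm))
        rcases Int.even_or_odd n with ⟨k, hk⟩ | ⟨k, hk⟩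
        · rw [← hn, hk, zpow_add, ← (Commute.refl _).mul_zpow, ← hx4, hx41, one_zpow]; exact one_mem _
        · rw [hk, two_mul, zpow_add, zpow_add, ← (Commute.refl _).mul_zpow, ← hx4, hx41, one_zpow, one_mul,
            zpow_one] at hn
          exact absurd (hn ▸ hm) hx0sq
      · have h := (hφ hEc).card_image hφi hφs
        have h' := card_le_of_invol h4 E hq0
        rw [hE8] at h h'
        have hM8 : Nat.card M = 8 := Nat.eq_of_mul_eq_mul_right Nat.card_pos h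
        rw [hP] at h'
        omega
    have hM8 : Nat.card M = 8 := by
      have h := hlin.card_image hinj hsurj
      rw [hE8] at h
      exact Nat.eq_of_mul_eq_mul_right Nat.card_pos h
    -- a fixed element of the upper coset
    have hfin : ∀ s ∈ P, s ∉ M → (∀ g : X, g * s = s * g) → False := fun s hs hsM hfix => by
      refine false_of_fixed_layer h4 hcard hQp M P hMP hPQ hM8 hP2 hPc hsq hgen hmin hne s hs hsM ?_ hfix
      intro p hp
      by_cases hpM : p ∈ M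
      · exact Or.inl hpM
      · right
        rcases hPcov s hs with h1 | h1
        · exact absurd h1 hsM
        rcases hPcov p hp with h2 | h2
        · exact absurd h2 hpM
        have h := mul_mem (hMn.conj_mem _ h1 (x0 * x0)) (mul_mem (hx4 ▸ hx4M) h2)
        rwa [show x0 * x0 * ((x0 * x0)⁻¹ * s) * (x0 * x0)⁻¹ * (x0 * x0 * (x0 * x0) * ((x0 * x0)⁻¹ * p)) = s * p by
          group] at h
    rcases (hφ hEc).zero_or_iso hmin with hφ0 | ⟨hφi, hφs⟩
    swap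
    · have hu := (hφ hEc).unique hlin hφi hinj hsurj
      refine hfin (x0 * x0) (hsq x0 hx0Q) hx0sq fun g => mul_inv_eq_iff_eq_mul.mp ?_
      obtain ⟨e, he, hxe⟩ := hx0conj g
      rw [show g * (x0 * x0) * g⁻¹ = g * x0 * g⁻¹ * (g * x0 * g⁻¹) by group, hxe, hsqmul e he, hu e he]
      show x0 * x0 * (e * e * (e * e)) = _
      rw [hM2 _ (hEsq e he), mul_one]
    have hc := hcommQ hEc hφ0
    by_cases hlift : ∀ σ, F.π σ = mJ → σ ^ 4 ∈ E
    · obtain ⟨H, hEH, hHQ, hs⟩ := split F E hEQ hQ2 hlift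
      haveI : (E.subgroupOf H).Normal := hEn.subgroupOf H
      haveI : (M.subgroupOf H).Normal := hMn.subgroupOf H
      let g : H →* X ⧸ Q := (QuotientGroup.mk' Q).comp H.subtype
      have hg : Function.Surjective g := fun v => by
        obtain ⟨x, rfl⟩ := QuotientGroup.mk_surjective v
        obtain ⟨h, hh, he⟩ := hs (F.π x) (F.det_pi x)
        exact ⟨⟨h, hh⟩, QuotientGroup.eq.mpr (F.congr_Q he.symm)⟩
      have hgker : g.ker = E.subgroupOf H := by
        ext a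
        rw [MonoidHom.mem_ker, Subgroup.mem_subgroupOf, ← hHQ, Subgroup.mem_inf]
        exact ⟨fun h => ⟨a.2, (QuotientGroup.eq_one_iff _).mp h⟩, fun h => (QuotientGroup.eq_one_iff _).mpr h.2⟩
      let e : H ⧸ E.subgroupOf H ≃* X ⧸ Q :=
        (QuotientGroup.quotientMulEquivOfEq hgker.symm).trans (QuotientGroup.quotientKerEquivOfSurjective g hg)
      haveI : Nontrivial (H ⧸ E.subgroupOf H) := e.toEquiv.nontrivial
      haveI : IsSimpleGroup (H ⧸ E.subgroupOf H) :=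
        IsSimpleGroup.isSimpleGroup_of_surjective e.symm.toMonoidHom e.symm.surjective
      have hc' : Nat.card (H ⧸ E.subgroupOf H) = 168 := by rw [Nat.card_congr e.toEquiv, hcard]
      have hMH : M ≤ H := hMP.trans (hPE.trans hEH)
      have hcM : Nat.card (M.subgroupOf H) = 8 := by
        rw [Nat.card_congr (Subgroup.subgroupOfEquivOfLe hMH).toEquiv, hM8]
      have hres := layer_one (Q := E.subgroupOf H) (rank_sub h4 H) hc'
        ((hQp.to_le hEQ).comap_of_injective _ (Subgroup.subtype_injective H)) (M.subgroupOf H)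
        (fun m hm => (hMP.trans hPE) hm) (fun h => by rw [h, Subgroup.card_bot] at hcM; norm_num at hcM)
        (fun q hq => hEsq _ hq) (fun m hm => Subtype.ext (hM2 _ hm))
        (fun m hm q hq => Subtype.ext (hMc _ hm _ (hEQ hq)))
        (fun m hm => by
          obtain ⟨p, hp, hpe⟩ := hsurj (m : X) hm
          exact Subgroup.subset_closure ⟨⟨p, hEH hp⟩, hp, Subtype.ext hpe⟩)
        (fun Y hY hYM => by
          have hYn : (Y.map H.subtype).Normal := ⟨by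
            rintro _ ⟨y, hy, rfl⟩ x
            obtain ⟨h, hh, he⟩ := hs (F.π x) (F.det_pi x)
            have hq : h⁻¹ * x ∈ Q := F.congr_Q he.symm
            refine ⟨⟨h, hh⟩ * y * ⟨h, hh⟩⁻¹, hY.conj_mem y hy _, ?_⟩
            show h * (y : X) * h⁻¹ = x * (y : X) * x⁻¹
            have hy' : (y : X) ∈ M := hYM hy
            rw [show x * (y : X) * x⁻¹ = h * ((h⁻¹ * x) * (y : X) * (h⁻¹ * x)⁻¹) * h⁻¹ by group,
              ← hMc _ hy' _ hq, mul_inv_cancel_right]⟩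
          rcases hmin _ hYn (by rintro _ ⟨y, hy, rfl⟩; exact hYM hy) with h | h
          · left
            exact (Subgroup.map_eq_bot_iff_of_injective _ (Subgroup.subtype_injective H)).mp h
          · right
            refine le_antisymm hYM fun m hm => ?_
            obtain ⟨y, hy, he⟩ := h.ge (show (m : X) ∈ M from hm)
            exact (Subtype.ext he : y = m) ▸ hy)
        (by
          obtain ⟨x, p, hp, hxp⟩ := hneE
          obtain ⟨h, hh, he⟩ := hs (F.π x) (F.det_pi x)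
          have hq : h⁻¹ * x ∈ Q := F.congr_Q he.symm
          refine ⟨⟨h, hh⟩, ⟨p, hEH hp⟩, hp, fun hm => hxp ?_⟩
          rw [show x * p * x⁻¹ * p⁻¹ = h * ((h⁻¹ * x) * p * (h⁻¹ * x)⁻¹) * h⁻¹ * p⁻¹ by group,
            hc _ hq p (hEQ hp), mul_inv_cancel_right]
          exact hMP hm)
      rw [hcM] at hres
      exact absurd hres.1 (by norm_num)
    push Not at hlift
    obtain ⟨σ, hσ, hσE⟩ := hlift
    have hσ4 : σ ^ 4 ∈ Q := (F.ker _).mp (by rw [map_pow, hσ, pow_succ, pow_succ, pow_two]; exact J_four)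
    obtain ⟨e, he, hσe⟩ := hcov _ hσ4 hσE
    obtain ⟨w, hwdef⟩ : ∃ w, w = σ ^ 4 * σ ^ 4 := ⟨_, rfl⟩
    have hwP : w ∈ P := hwdef ▸ hsq _ hσ4
    have hwM : w ∉ M := fun h => hx0sq (by
      rw [hwdef, hσe, hsqmul e he, hφ0 e he, mul_one] at h
      have := mul_mem h (inv_mem (hEsq e he))
      rwa [mul_inv_cancel_right] at this)
    have hwfix : σ * w = w * σ := by
      rw [hwdef]; exact ((Commute.refl σ).pow_right 4).mul_right ((Commute.refl σ).pow_right 4)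
    have hmov : ∀ g : X, g * w * g⁻¹ * w⁻¹ ∈ M := by
      intro g
      have hg := hPn.conj_mem w hwP g
      have hgM : g * w * g⁻¹ ∉ M := fun h => hwM (by
        have := hMn.conj_mem _ h g⁻¹
        rwa [inv_inv, show g⁻¹ * (g * w * g⁻¹) * g = w by group] at this)
      rcases hPcov _ hg with h1 | h1
      · exact absurd h1 hgM
      rcases hPcov w hwP with h2 | h2
      · exact absurd h2 hwM
      have h := hMn.conj_mem _ (mul_mem h1 (inv_mem h2)) (x0 * x0)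
      rwa [show x0 * x0 * ((x0 * x0)⁻¹ * (g * w * g⁻¹) * ((x0 * x0)⁻¹ * w)⁻¹) * (x0 * x0)⁻¹ = g * w * g⁻¹ * w⁻¹ by
        group] at h
    obtain ⟨m, hm, hfix⟩ := fixed_in_coset C hlin hinj hsurj w hmov (fun m hm => hMc m hm w (hPQ hwP))
      (fun q hq => hc q hq w (hPQ hwP)) (fun q hq m hm => (hMc m hm q hq).symm) hσ hwfix
    exact hfin (w * m) (mul_mem hwP (hMP hm))
      (fun h => hwM (by have := mul_mem h (inv_mem hm); rwa [mul_inv_cancel_right] at this)) hfix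
  -- cyclic upper layer of order four
  have hMeq : ∀ m ∈ M, m = 1 ∨ m = x4 := by
    let Y : Subgroup X :=
      { carrier := {a | a = 1 ∨ a = x4}
        one_mem' := Or.inl rfl
        mul_mem' := by
          rintro a b (rfl | rfl) (rfl | rfl)
          · exact Or.inl (one_mul _)
          · exact Or.inr (one_mul _)
          · exact Or.inr (mul_one _)
          · exact Or.inl (hM2 _ hx4M)
        inv_mem' := by
          rintro a (rfl | rfl)
          · exact Or.inl inv_one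
          · exact Or.inr (inv_eq_of_mul_eq_one_right (hM2 _ hx4M)) }
    have hY : Y.Normal := ⟨by
      rintro a (rfl | rfl) g
      · exact Or.inl (by group)
      · exact Or.inr (hx4fix g)⟩
    have hYM : Y ≤ M := by
      rintro a (rfl | rfl)
      · exact one_mem _
      · exact hx4M
    rcases hmin Y hY hYM with h | h
    · have : x4 ∈ (⊥ : Subgroup X) := h ▸ (Or.inr rfl : x4 ∈ Y)
      exact absurd (Subgroup.mem_bot.mp this) hx41
    · exact fun m hm => h.ge hm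
  have hMcard : Nat.card M = 2 := by
    rw [Nat.card_eq_two_iff' (1 : M)]
    refine ⟨⟨x4, hx4M⟩, fun h => hx41 (congrArg Subtype.val h), fun m hm => ?_⟩
    rcases hMeq m m.2 with h | h
    · exact absurd (Subtype.ext h) hm
    · exact Subtype.ext h
  have hMfix : ∀ g : X, ∀ m ∈ M, g * m * g⁻¹ = m := fun g m hm => by
    rcases hMeq m hm with rfl | rfl
    · group
    · exact hx4fix g
  have hEbr := br_eq_one_of_fixed C M hM2 (fun m hm p hp => hMc m hm p (hEQ hp))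
    (fun p hp q hq => hbrM p (hEQ hp) q (hEQ hq)) hMfix (fun r hr p hp => hPc r hr p (hEQ hp))
  have hEc : ∀ p ∈ E, ∀ q ∈ E, p * q = q * p := fun p hp q hq => by
    rw [show p * q = br p q * (q * p) by simp only [br]; group, hEbr p hp q hq, one_mul]
  have hc := hcommQ hEc ((hφ hEc).eq_one_of_fixed hMfix)
  have hPmem : ∀ p ∈ P, ∃ m ∈ M, p = m ∨ p = x0 * x0 * m := fun p hp => by
    rcases hPcov p hp with h | h
    · exact ⟨p, h, Or.inl rfl⟩
    · exact ⟨_, h, Or.inr (mul_inv_cancel_left _ p).symm⟩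
  have hQ4 : ∀ p ∈ E, p * p * (p * p) = 1 := fun p hp => hM2 _ (hEsq p hp)
  have hQ8 : ∀ q ∈ Q, q ^ 8 = 1 := fun q hq => by
    have h4' : q * q * (q * q) ∈ M := by
      rcases hPcov _ (mul_mem (hsq q hq) (hsq q hq)) with h | h
      · exact h
      · exfalso
        obtain ⟨m, hm, hq2 | hq2⟩ := hPmem _ (hsq q hq)
        · rw [hq2, hM2 m hm, mul_one, inv_mem_iff] at h
          exact hx0sq h
        · rw [hq2, mul_assoc, ← mul_assoc m, hMc m hm _ (mul_mem hx0Q hx0Q), mul_assoc (x0 * x0) m m, hM2 m hm,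
            mul_one, inv_mul_cancel_left] at h
          exact hx0sq h
    rw [show q ^ 8 = q * q * (q * q) * (q * q * (q * q)) by simp [pow_succ, mul_assoc]]
    exact hM2 _ h4'
  -- the involutions of `E`
  obtain ⟨W, hW⟩ : ∃ W : Subgroup X, ∀ p, p ∈ W ↔ p ∈ E ∧ p * p = 1 := by
    refine ⟨{ carrier := {p | p ∈ E ∧ p * p = 1}
              one_mem' := ⟨one_mem _, one_mul _⟩
              mul_mem' := ?_
              inv_mem' := ?_ }, fun p => Iff.rfl⟩
    · rintro p q ⟨hp, hp'⟩ ⟨hq, hq'⟩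
      refine ⟨mul_mem hp hq, ?_⟩
      rw [mul_assoc, ← mul_assoc q, hEc q hq p hp, mul_assoc p q, hq', mul_one, hp']
    · rintro p ⟨hp, hp'⟩
      exact ⟨inv_mem hp, by rw [inv_eq_of_mul_eq_one_right hp', hp']⟩
  haveI hWn : W.Normal := ⟨fun p hp g => by
    rw [hW] at hp ⊢
    exact ⟨hEn.conj_mem p hp.1 g, by
      rw [show g * p * g⁻¹ * (g * p * g⁻¹) = g * (p * p) * g⁻¹ by group, hp.2]; group⟩⟩
  have hMW : M ≤ W := fun m hm => (hW m).mpr ⟨hPE (hMP hm), hM2 m hm⟩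
  have hWE : ∀ p ∈ W, p ∈ E := fun p hp => ((hW p).mp hp).1
  have hWcov : ∀ p ∈ E, p ∈ W ∨ (x0 * x0)⁻¹ * p ∈ W := fun p hp => by
    rcases hMeq _ (hEsq p hp) with h | h
    · exact Or.inl ((hW p).mpr ⟨hp, h⟩)
    · refine Or.inr ((hW _).mpr ⟨mul_mem (inv_mem (hPE (hsq x0 hx0Q))) hp, ?_⟩)
      rw [mul_assoc, ← mul_assoc p, ← hPc _ (inv_mem (hsq x0 hx0Q)) p (hEQ hp), mul_assoc ((x0 * x0)⁻¹) p,
        ← mul_assoc, ← mul_inv_rev, ← hx4, h, inv_mul_cancel]
  have hcovW : ∀ q ∈ Q, ∃ n : ℕ, (x0 ^ n)⁻¹ * q ∈ W := fun q hq => by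
    by_cases hqE : q ∈ E
    · rcases hWcov q hqE with h | h
      · exact ⟨0, by rwa [pow_zero, inv_one, one_mul]⟩
      · exact ⟨2, by rwa [pow_two]⟩
    · obtain ⟨e, he, rfl⟩ := hcov q hq hqE
      rcases hWcov e he with h | h
      · exact ⟨1, by rwa [pow_one, inv_mul_cancel_left]⟩
      · refine ⟨3, ?_⟩
        rwa [show (x0 ^ 3)⁻¹ * (x0 * e) = (x0 * x0)⁻¹ * e by simp only [pow_succ, pow_zero, one_mul]; group]
  -- every fourth power of a lift lies in `E`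
  have hlift : ∀ σ, F.π σ = mJ → σ ^ 4 ∈ E := fun σ hσ => by
    have h := sigma_four_sq F W (fun p hp => hEQ (hWE p hp)) x0 hx0Q hcovW
      (fun q hq => by rw [hQ8 q hq]; exact one_mem _) σ hσ
    by_contra hσE
    have hσ4 : σ ^ 4 ∈ Q := (F.ker _).mp (by rw [map_pow, hσ, pow_succ, pow_succ, pow_two]; exact J_four)
    obtain ⟨e, he, hσe⟩ := hcov _ hσ4 hσE
    have h2 := ((hW _).mp h).2
    rw [hσe, hsqmul e he, (hφ hEc).eq_one_of_fixed hMfix e he, mul_one, mul_assoc, ← mul_assoc (e * e),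
      hMc _ (hEsq e he) _ (mul_mem hx0Q hx0Q), mul_assoc (x0 * x0) (e * e), hQ4 e he, mul_one, ← hx4] at h2
    exact hx41 h2
  obtain ⟨σ, hσ⟩ := F.surj mJ det_J
  obtain ⟨v1, hv1d⟩ : ∃ a, a = σ * x0 * σ⁻¹ * x0⁻¹ := ⟨_, rfl⟩
  have hv1 : v1 ∈ E := by
    obtain ⟨e, he, hxe⟩ := hx0conj σ
    rw [hv1d, hxe, hc x0 hx0Q e (hEQ he), mul_inv_cancel_right]; exact he
  by_cases hA : C.c v1 2 = 0
  · -- a fixed element outside `E`
    obtain ⟨w, hw, hwe⟩ : ∃ w ∈ E, mJ.mulVec (C.c w) + C.c w = C.c v1 := by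
      have key : ∀ κ : V3, κ 2 = 0 → ∃ w : V3, mJ.mulVec w + w = κ := by decide +kernel
      obtain ⟨v, hv⟩ := key _ hA
      obtain ⟨w, hw, rfl⟩ := C.surj v
      exact ⟨w, hw, hv⟩
    obtain ⟨x', hx'⟩ : ∃ x', x' = x0 * w := ⟨_, rfl⟩
    have hx'Q : x' ∈ Q := hx' ▸ mul_mem hx0Q (hEQ hw)
    have hx'σ : σ * x' * σ⁻¹ * x'⁻¹ ∈ P := by
      have hd : σ * w * σ⁻¹ * w⁻¹ ∈ E := mul_mem (C.conj σ w hw) (inv_mem hw)
      rw [hx', show σ * (x0 * w) * σ⁻¹ * (x0 * w)⁻¹ = v1 * (x0 * (σ * w * σ⁻¹ * w⁻¹) * x0⁻¹) by rw [hv1d]; group,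
        hc x0 hx0Q _ (hEQ hd), mul_inv_cancel_right]
      refine (C.ker _ (mul_mem hv1 hd)).mp ?_
      rw [C.add v1 hv1 _ hd, C.div hw, hσ, ← hwe, sub_eq_add_neg, CharTwo.neg_eq, CharTwo.add_self_eq_zero]
    obtain ⟨a, ha⟩ : ∃ a, a = σ * σ := ⟨_, rfl⟩
    have haπ : F.π a = mJ * mJ := by rw [ha, map_mul, hσ]
    obtain ⟨ρ, hρ, hρ3⟩ := F.exists_rho hQp
    have hρinv : F.π ρ⁻¹ = mR * mR :=
      left_inv_eq_right_inv (a := F.π ρ) (by rw [← map_mul, inv_mul_cancel, map_one]) (by rw [hρ, ← mul_assoc]; exact R_three)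
    let K : Subgroup X :=
      { carrier := {p | p ∈ E ∧ (C.c p = 0 ∨ C.c p = e1)}
        one_mem' := ⟨one_mem _, Or.inl C.one⟩
        mul_mem' := by
          rintro p q ⟨hp, hp'⟩ ⟨hq, hq'⟩
          refine ⟨mul_mem hp hq, ?_⟩
          rw [C.add p hp q hq]
          rcases hp' with h | h <;> rcases hq' with h' | h' <;> rw [h, h'] <;>
            simp [CharTwo.add_self_eq_zero]
        inv_mem' := by
          rintro p ⟨hp, hp'⟩
          exact ⟨inv_mem hp, by rw [C.inv hp]; exact hp'⟩ }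
    have hPK : P ≤ K := fun p hp => ⟨hPE hp, Or.inl ((C.ker p (hPE hp)).mpr hp)⟩
    obtain ⟨z, hz, hzc⟩ := C.surj e1
    have hKc : Nat.card K = 2 * Nat.card P := by
      rw [two_mul, ← Nat.card_sum]
      refine (Nat.card_congr (Equiv.ofBijective (Sum.elim (fun m : P => (⟨m, hPK m.2⟩ : K))
        (fun m : P => (⟨z * m, mul_mem (show z ∈ K from ⟨hz, Or.inr hzc⟩) (hPK m.2)⟩ : K))) ⟨?_, ?_⟩)).symm
      · have hzP : z ∉ P := fun h => absurd (hzc.symm.trans ((C.ker z hz).mpr h)) (by decide)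
        rintro (p | p) (q | q) h <;> simp only [Sum.elim_inl, Sum.elim_inr, Subtype.mk.injEq] at h
        · exact congrArg _ (Subtype.ext h)
        · exact absurd (by rw [eq_mul_inv_of_mul_eq h.symm]; exact mul_mem p.2 (inv_mem q.2)) hzP
        · exact absurd (by rw [eq_mul_inv_of_mul_eq h]; exact mul_mem q.2 (inv_mem p.2)) hzP
        · exact congrArg _ (Subtype.ext (mul_left_cancel h))
      · rintro ⟨p, hp, hp' | hp'⟩
        · exact ⟨Sum.inl ⟨p, (C.ker p hp).mp hp'⟩, rfl⟩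
        · exact ⟨Sum.inr ⟨_, (C.eq_iff hp hz).mp (hp'.trans hzc.symm)⟩, Subtype.ext (mul_inv_cancel_left z p)⟩
    have hax' : a * x' * a⁻¹ * x'⁻¹ ∈ P := by
      have h := mul_mem (hPn.conj_mem _ hx'σ σ) hx'σ
      rwa [show σ * (σ * x' * σ⁻¹ * x'⁻¹) * σ⁻¹ * (σ * x' * σ⁻¹ * x'⁻¹) = a * x' * a⁻¹ * x'⁻¹ by rw [ha]; group] at h
    have hEact : ∀ p ∈ E, a * p * a⁻¹ * p⁻¹ ∈ K := fun p hp =>
      ⟨mul_mem (C.conj a p hp) (inv_mem hp), by rw [C.div hp, haπ]; exact a_centre _⟩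
    refine witness h4 Q Q K ρ a (fun p hp => hEQ hp.1) le_rfl hρ3 (fun p hp => ‹Q.Normal›.conj_mem p hp ρ) ?_
      (fun p hp => hPK (hsq p hp)) ?_ (by rw [hQ2, hE8, hKc]; ring) ?_ ?_
      (fun q hq => mul_mem (‹Q.Normal›.conj_mem q hq a) (inv_mem hq)) (fun q hq _ => hq) ?_ ?_ ?_
    · rintro p ⟨hp, hp'⟩
      refine ⟨C.conj ρ p hp, ?_⟩
      rw [← C.act ρ p hp, hρ]
      rcases hp' with h | h <;> rw [h] <;> decide
    · intro k hk p hp
      rw [hc p hp k (hEQ hk.1), mul_inv_cancel_right]; exact hk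
    · intro p hp
      by_cases hpE : p ∈ E
      · exact hEact p hpE
      · have hx'E : x' ∉ E := fun h => hx0E (by
          have := mul_mem h (inv_mem hw); rwa [hx', mul_inv_cancel_right] at this)
        obtain ⟨e, he, rfl⟩ : ∃ e ∈ E, p = x' * e :=
          ⟨_, hE2 x' hx'Q p hp hx'E hpE, (mul_inv_cancel_left x' p).symm⟩
        rw [show a * (x' * e) * a⁻¹ * (x' * e)⁻¹ = (a * x' * a⁻¹ * x'⁻¹) * (x' * (a * e * a⁻¹ * e⁻¹) * x'⁻¹) by group,
          hc x' hx'Q _ (hEQ (hEact e he).1), mul_inv_cancel_right]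
        exact mul_mem (hPK hax') (hEact e he)
    · have h4σ : a * a = σ ^ 4 := by rw [ha]; simp [pow_succ, mul_assoc]
      rw [h4σ]
      refine ⟨hlift σ hσ, fixed_point _ ?_⟩
      have h := C.act σ _ (hlift σ hσ)
      rwa [hσ, show σ * σ ^ 4 * σ⁻¹ = σ ^ 4 by simp [pow_succ, mul_assoc]] at h
    · intro h
      exact four_distinct.1 (haπ ▸ (F.ker a).mpr h)
    · intro h
      refine four_distinct.2.2.1 ?_
      have h' := (F.ker _).mpr h
      rwa [map_mul, map_mul, map_mul, haπ, hρ, hρinv] at h'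
    · refine (F.ker _).mp ?_
      simp only [map_mul, haπ, hρ, hρinv]
      exact four_distinct.2.2.2
  -- an invariant complement of the fourth power
  obtain ⟨v2, hv2d⟩ : ∃ a, a = σ * v1 * σ⁻¹ * v1⁻¹ := ⟨_, rfl⟩
  have hv2 : v2 ∈ E := hv2d ▸ mul_mem (C.conj σ v1 hv1) (inv_mem hv1)
  obtain ⟨v3, hv3d⟩ : ∃ a, a = σ * v2 * σ⁻¹ * v2⁻¹ := ⟨_, rfl⟩
  have hv3 : v3 ∈ E := hv3d ▸ mul_mem (C.conj σ v2 hv2) (inv_mem hv2)
  obtain ⟨v4, hv4d⟩ : ∃ a, a = σ * v3 * σ⁻¹ * v3⁻¹ := ⟨_, rfl⟩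
  have hv4 : v4 ∈ E := hv4d ▸ mul_mem (C.conj σ v3 hv3) (inv_mem hv3)
  have hsqfix : ∀ g : X, ∀ p ∈ E, (g * p * g⁻¹ * p⁻¹) * (g * p * g⁻¹ * p⁻¹) = 1 := fun g p hp => by
    have hd : g * p * g⁻¹ ∈ E := C.conj g p hp
    rw [mul_assoc, ← mul_assoc p⁻¹, ← hEc _ hd _ (inv_mem hp), mul_assoc (g * p * g⁻¹) p⁻¹, ← mul_assoc,
      show g * p * g⁻¹ * (g * p * g⁻¹) = g * (p * p) * g⁻¹ by group, hMfix g _ (hEsq p hp)]
    group
  have hv3c : C.c v3 = e1 := by
    have key : ∀ κ : V3, κ 2 ≠ 0 → mJ.mulVec (mJ.mulVec κ - κ) - (mJ.mulVec κ - κ) = e1 := by decide +kernel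
    rw [hv3d, C.div hv2, hσ, hv2d, C.div hv1, hσ]
    exact key _ hA
  have hv3W : v3 ∈ W := (hW v3).mpr ⟨hv3, by rw [hv3d]; exact hsqfix σ v2 hv2⟩
  letI : CommGroup Q := { (inferInstance : Group Q) with mul_comm := fun a b => Subtype.ext (hc a a.2 b b.2) }
  let sσ : Q →* Q := (MulAut.conjNormal σ : MulAut Q).toMonoidHom
  have hs : ∀ a : Q, ((sσ a : Q) : X) = σ * a * σ⁻¹ := fun a => MulAut.conjNormal_apply σ a
  have step : ∀ a b : X, ∀ (ha : a ∈ Q) (hb : b ∈ Q), b = σ * a * σ⁻¹ * a⁻¹ → sσ ⟨a, ha⟩ = ⟨a, ha⟩ * ⟨b, hb⟩ := by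
    intro a b ha hb he
    refine Subtype.ext ?_
    rw [hs, Subgroup.coe_mul]
    show σ * a * σ⁻¹ = a * b
    rw [← hc b hb a ha, he, inv_mul_cancel_right]
  have h4v := congrArg Subtype.val (sigma_pow_four sσ _ _ _ _ _ (step x0 v1 hx0Q (hEQ hv1) hv1d)
    (step v1 v2 (hEQ hv1) (hEQ hv2) hv2d) (step v2 v3 (hEQ hv2) (hEQ hv3) hv3d) (step v3 v4 (hEQ hv3) (hEQ hv4) hv4d))
  have hσ4 : σ ^ 4 ∈ Q := (F.ker _).mp (by rw [map_pow, hσ, pow_succ, pow_succ, pow_two]; exact J_four)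
  simp only [hs, Subgroup.coe_mul, SubgroupClass.coe_pow] at h4v
  have hfourth : σ * (σ * (σ * (σ * x0 * σ⁻¹) * σ⁻¹) * σ⁻¹) * σ⁻¹ = x0 := by
    rw [show σ * (σ * (σ * (σ * x0 * σ⁻¹) * σ⁻¹) * σ⁻¹) * σ⁻¹ = σ ^ 4 * x0 * (σ ^ 4)⁻¹ by
      simp only [pow_succ, pow_zero, one_mul]; group, hc _ hσ4 x0 hx0Q, mul_inv_cancel_right]
  rw [hfourth, left_eq_mul] at h4v
  have hexp4 : ∀ p ∈ E, p ^ 4 = 1 := fun p hp => by
    rw [show (4 : ℕ) = 2 * 2 from rfl, pow_mul, pow_two, pow_two]; exact hQ4 p hp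
  rw [hexp4 v1 hv1, hexp4 v3 hv3, show (6 : ℕ) = 4 + 2 from rfl, pow_add, hexp4 v2 hv2, one_mul, one_mul, mul_one,
    pow_two, hv2d, hsqfix σ v1 hv1, one_mul] at h4v
  have hσv3 : σ * v3 * σ⁻¹ * v3⁻¹ = 1 := hv4d ▸ h4v
  -- coordinates on the involutions
  let CW : Coord F W M :=
    { c := C.c
      le := hMW
      conj := fun g p hp => hWn.conj_mem p hp g
      add := fun p hp q hq => C.add p (hWE p hp) q (hWE q hq)
      ker := fun p hp => by
        rw [C.ker p (hWE p hp)]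
        refine ⟨fun h => ?_, fun h => hMP h⟩
        rcases hPcov p h with h' | h'
        · exact h'
        · exfalso
          obtain ⟨m, hm, rfl⟩ : ∃ m ∈ M, p = x0 * x0 * m := ⟨_, h', (mul_inv_cancel_left _ p).symm⟩
          have hp2 := ((hW _).mp hp).2
          rw [mul_assoc, ← mul_assoc m, hMc m hm _ (mul_mem hx0Q hx0Q), mul_assoc (x0 * x0) m m, hM2 m hm, mul_one,
            ← hx4] at hp2
          exact hx41 hp2
      surj := fun v => by
        obtain ⟨p, hp, rfl⟩ := C.surj v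
        rcases hWcov p hp with h | h
        · exact ⟨p, h, rfl⟩
        · exact ⟨_, h, by rw [C.add _ (inv_mem (hPE (hsq x0 hx0Q))) p hp,
            (C.ker _ (inv_mem (hPE (hsq x0 hx0Q)))).mpr (inv_mem (hsq x0 hx0Q)), zero_add]⟩
      act := fun g p hp => C.act g p (hWE p hp) }
  obtain ⟨E0, hE0n, -, hE0W, hx4E0, hE0cov⟩ := exists_complement CW hQp ⊥ bot_le x4 hx4M
    (fun h => hx41 (Subgroup.mem_bot.mp h))
    (fun r hr => by
      rcases hMeq r hr with rfl | rfl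
      · exact Or.inl (one_mem _)
      · exact Or.inr (by rw [inv_mul_cancel]; exact one_mem _))
    (fun p hp => Subgroup.mem_bot.mpr ((hW p).mp hp).2)
    (fun q hq p hp => by rw [Subgroup.mem_bot, hc q hq p (hEQ (hWE p hp))]; group)
    v3 hv3W hv3c σ hσ (by rw [hσv3]; exact one_mem _)
  have hcovE0 : ∀ q ∈ Q, ∃ n : ℕ, (x0 ^ n)⁻¹ * q ∈ E0 := fun q hq => by
    obtain ⟨n, hn⟩ := hcovW q hq
    rcases hE0cov _ hn with h | h
    · exact ⟨n, h⟩
    · refine ⟨n + 4, ?_⟩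
      rwa [add_comm, pow_add, mul_inv_rev, mul_assoc, hc _ (inv_mem (pow_mem hx0Q 4)) q hq, ← mul_assoc,
        ← hc _ (inv_mem (pow_mem hx0Q 4)) _ (mul_mem (inv_mem (pow_mem hx0Q n)) hq),
        show x0 ^ 4 = x4 by rw [hx4]; simp [pow_succ, mul_assoc]]
  have hliftW : ∀ τ, F.π τ = mJ → τ ^ 4 ∈ W := fun τ hτ => by
    have h := sigma_four_sq F E0 (fun p hp => hEQ (hWE p (hE0W hp))) x0 hx0Q hcovE0
      (fun q hq => by rw [hQ8 q hq]; exact one_mem _) τ hτ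
    refine (hW _).mpr ⟨hlift τ hτ, ?_⟩
    rcases hMeq _ (hEsq _ (hlift τ hτ)) with h1 | h1
    · exact h1
    · exact absurd (h1 ▸ h) hx4E0
  obtain ⟨H, hEH, hHQ, hsH⟩ := split F E hEQ hQ2 hlift
  obtain ⟨σH, hσH, hσHπ⟩ := hsH mJ det_J
  obtain ⟨rH, hrH, hρH3⟩ := (F.restrict H E hHQ hsH).exists_rho
    ((hQp.to_le hEQ).comap_of_injective _ (Subgroup.subtype_injective H))
  obtain ⟨ρ, hρdef⟩ : ∃ ρ : X, ρ = (rH : X) := ⟨_, rfl⟩
  have hρmem : ρ ∈ H := hρdef ▸ rH.2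
  have hρ : F.π ρ = mR := by rw [hρdef]; exact hrH
  have hρ3 : ρ * ρ * ρ = 1 := by rw [hρdef]; exact congrArg Subtype.val hρH3
  obtain ⟨a, ha⟩ : ∃ a, a = σH * σH := ⟨_, rfl⟩
  have haπ : F.π a = mJ * mJ := by rw [ha, map_mul, hσHπ]
  have hρinv : F.π ρ⁻¹ = mR * mR :=
    left_inv_eq_right_inv (a := F.π ρ) (by rw [← map_mul, inv_mul_cancel, map_one]) (by rw [hρ, ← mul_assoc]; exact R_three)
  let K : Subgroup X :=
    { carrier := {p | p ∈ W ∧ (C.c p = 0 ∨ C.c p = e1)}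
      one_mem' := ⟨one_mem _, Or.inl C.one⟩
      mul_mem' := by
        rintro p q ⟨hp, hp'⟩ ⟨hq, hq'⟩
        refine ⟨mul_mem hp hq, ?_⟩
        rw [C.add p (hWE p hp) q (hWE q hq)]
        rcases hp' with h | h <;> rcases hq' with h' | h' <;> rw [h, h'] <;>
          simp [CharTwo.add_self_eq_zero]
      inv_mem' := by
        rintro p ⟨hp, hp'⟩
        exact ⟨inv_mem hp, by rw [C.inv (hWE p hp)]; exact hp'⟩ }
  have hMK : M ≤ K := fun m hm => ⟨hMW hm, Or.inl ((C.ker m (hPE (hMP hm))).mpr (hMP hm))⟩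
  have hKc : Nat.card K = 2 * Nat.card M := by
    rw [two_mul, ← Nat.card_sum]
    refine (Nat.card_congr (Equiv.ofBijective (Sum.elim (fun m : M => (⟨m, hMK m.2⟩ : K))
      (fun m : M => (⟨v3 * m, mul_mem (show v3 ∈ K from ⟨hv3W, Or.inr hv3c⟩) (hMK m.2)⟩ : K))) ⟨?_, ?_⟩)).symm
    · have hv3M : v3 ∉ M := fun h => absurd (hv3c.symm.trans ((C.ker v3 hv3).mpr (hMP h))) (by decide)
      rintro (p | p) (q | q) h <;> simp only [Sum.elim_inl, Sum.elim_inr, Subtype.mk.injEq] at h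
      · exact congrArg _ (Subtype.ext h)
      · exact absurd (by rw [eq_mul_inv_of_mul_eq h.symm]; exact mul_mem p.2 (inv_mem q.2)) hv3M
      · exact absurd (by rw [eq_mul_inv_of_mul_eq h]; exact mul_mem q.2 (inv_mem p.2)) hv3M
      · exact congrArg _ (Subtype.ext (mul_left_cancel h))
    · rintro ⟨p, hp, hp' | hp'⟩
      · exact ⟨Sum.inl ⟨p, (CW.ker p hp).mp hp'⟩, rfl⟩
      · exact ⟨Sum.inr ⟨_, (CW.eq_iff hp hv3W).mp (show C.c p = C.c v3 from hp'.trans hv3c.symm)⟩,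
          Subtype.ext (mul_inv_cancel_left v3 p)⟩
  refine witness h4 E E K ρ a (fun p hp => hWE p hp.1) le_rfl hρ3 (fun p hp => C.conj ρ p hp) ?_
    (fun p hp => hMK (hEsq p hp)) ?_ (by rw [hE8, hP, hKc]) ?_ ?_
    (fun q hq => mul_mem (C.conj a q hq) (inv_mem hq)) (fun q hq _ => hq) ?_ ?_ ?_
  · rintro p ⟨hp, hp'⟩
    refine ⟨hWn.conj_mem p hp ρ, ?_⟩
    rw [← C.act ρ p (hWE p hp), hρ]
    rcases hp' with h | h <;> rw [h] <;> decide
  · intro k hk p hp
    rw [hEc p hp k (hWE k hk.1), mul_inv_cancel_right]; exact hk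
  · intro p hp
    refine ⟨(hW _).mpr ⟨mul_mem (C.conj a p hp) (inv_mem hp), hsqfix a p hp⟩, ?_⟩
    rw [C.div hp, haπ]
    exact a_centre _
  · have h4σ : a * a = σH ^ 4 := by rw [ha]; simp [pow_succ, mul_assoc]
    rw [h4σ]
    refine ⟨hliftW σH hσHπ, fixed_point _ ?_⟩
    have h := C.act σH _ (hlift σH hσHπ)
    rwa [hσHπ, show σH * σH ^ 4 * σH⁻¹ = σH ^ 4 by simp [pow_succ, mul_assoc]] at h
  · intro h
    exact four_distinct.1 (haπ ▸ (F.ker a).mpr (hEQ h))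
  · intro h
    refine four_distinct.2.2.1 ?_
    have h' := (F.ker _).mpr (hEQ h)
    rwa [map_mul, map_mul, map_mul, haπ, hρ, hρinv] at h'
  · have haH : a ∈ H := ha ▸ mul_mem hσH hσH
    rw [← hHQ, Subgroup.mem_inf]
    refine ⟨mul_mem (mul_mem haH (mul_mem (mul_mem hρmem haH) (inv_mem hρmem)))
      (mul_mem (mul_mem (inv_mem hρmem) haH) hρmem), (F.ker _).mp ?_⟩
    simp only [map_mul, haπ, hρ, hρinv]
    exact four_distinct.2.2.2

end Cfsg.Agent.Sec62
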