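import Mathlib

/-!
Finite facts about the group of invertible 3 by 3 matrices over the field with two elements.
-/

set_option autoImplicit false

namespace Cfsg.Agent.Sec62

abbrev M3 : Type := Matrix (Fin 3) (Fin 3) (ZMod 2)

abbrev V3 : Type := Fin 3 → ZMod 2

def mJ : M3 := !![1, 1, 0; 0, 1, 1; 0, 0, 1]
def mR : M3 := !![1, 0, 0; 0, 0, 1; 0, 1, 1]
/-- an element inverting `mJ` -/
def mY : M3 := !![1, 0, 0; 0, 1, 1; 0, 0, 1]
def mG1 : M3 := !![0, 1, 0; 1, 0, 0; 0, 0, 1]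
def mG2 : M3 := !![1, 0, 0; 0, 0, 1; 0, 1, 0]

def e1 : V3 := ![1, 0, 0]
def e2 : V3 := ![0, 1, 0]
def e3 : V3 := ![0, 0, 1]

def det3 (M : M3) : ZMod 2 :=
  M 0 0 * (M 1 1 * M 2 2 - M 1 2 * M 2 1) - M 0 1 * (M 1 0 * M 2 2 - M 1 2 * M 2 0) +
    M 0 2 * (M 1 0 * M 2 1 - M 1 1 * M 2 0)

theorem det3_eq (M : M3) : det3 M = M.det := by
  rw [Matrix.det_fin_three]; unfold det3; ring

theorem det_eq_one {M : M3} (h : IsUnit M) : M.det = 1 := by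
  have h := (Matrix.isUnit_iff_isUnit_det _).mp h
  revert h
  generalize M.det = x
  intro h
  fin_cases x
  · exact absurd h not_isUnit_zero
  · rfl

def mk9 (a b c d e f g h i : ZMod 2) : M3 := !![a, b, c; d, e, f; g, h, i]

theorem forall_mat {P : M3 → Prop} (h : ∀ a b c d e f g h i, P (mk9 a b c d e f g h i)) (M : M3) : P M := by
  have e : M = mk9 (M 0 0) (M 0 1) (M 0 2) (M 1 0) (M 1 1) (M 1 2) (M 2 0) (M 2 1) (M 2 2) := by
    ext i j; fin_cases i <;> fin_cases j <;> rfl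
  rw [e]; exact h ..

theorem det_J : mJ.det = 1 := by rw [← det3_eq]; decide +kernel
theorem det_R : mR.det = 1 := by rw [← det3_eq]; decide +kernel
theorem det_G1 : mG1.det = 1 := by rw [← det3_eq]; decide +kernel
theorem det_G2 : mG2.det = 1 := by rw [← det3_eq]; decide +kernel

theorem J_four : mJ * mJ * mJ * mJ = 1 := by decide +kernel
theorem R_three : mR * mR * mR = 1 := by decide +kernel
theorem four_distinct : mJ * mJ ≠ 1 ∧ mR * (mJ * mJ) * (mR * mR) ≠ 1 ∧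
    mJ * mJ * (mR * (mJ * mJ) * (mR * mR)) ≠ 1 ∧
    mJ * mJ * (mR * (mJ * mJ) * (mR * mR)) * ((mR * mR) * (mJ * mJ) * mR) = 1 := by decide +kernel

theorem G1_conj : mG1 * mG1 = 1 ∧ mG1 * (mJ * mJ) * mG1 = mY := by decide +kernel
theorem G2_conj : mG2 * mG2 = 1 ∧ mG2 * (mJ * mJ) * mG2 = mY * mJ := by decide +kernel
theorem Y_conj : mY * mY = 1 ∧ mY * mJ * mY = mJ * mJ * mJ := by decide +kernel

/-- powers of `mJ` and `mY` -/
theorem dihedral_faithful : ∀ (i : Fin 4) (j : Fin 2), mJ ^ (i : ℕ) * mY ^ (j : ℕ) = 1 → i = 0 ∧ j = 0 := by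
  decide +kernel

theorem J_comm : ∃ A A' B B' : M3, A * A' = 1 ∧ B * B' = 1 ∧ A * B * A' * B' = mJ :=
  ⟨!![0, 0, 1; 0, 1, 0; 1, 1, 0], !![0, 1, 1; 0, 1, 0; 1, 0, 0], !![0, 0, 1; 1, 0, 0; 1, 1, 1],
    !![0, 1, 0; 1, 1, 1; 1, 0, 0], by decide +kernel, by decide +kernel, by decide +kernel⟩

theorem G1_comm : ∃ A A' B B' : M3, A * A' = 1 ∧ B * B' = 1 ∧ A * B * A' * B' = mG1 :=
  ⟨!![0, 0, 1; 1, 1, 1; 0, 1, 1], !![0, 1, 1; 1, 0, 1; 1, 0, 0], !![0, 0, 1; 1, 1, 1; 1, 0, 1],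
    !![1, 0, 1; 0, 1, 1; 1, 0, 0], by decide +kernel, by decide +kernel, by decide +kernel⟩

theorem G2_comm : ∃ A A' B B' : M3, A * A' = 1 ∧ B * B' = 1 ∧ A * B * A' * B' = mG2 :=
  ⟨!![0, 0, 1; 1, 0, 1; 1, 1, 0], !![1, 1, 0; 1, 1, 1; 1, 0, 0], !![0, 1, 0; 1, 1, 0; 1, 0, 1],
    !![1, 1, 0; 1, 0, 0; 1, 1, 1], by decide +kernel, by decide +kernel, by decide +kernel⟩

set_option maxHeartbeats 4000000 in
theorem stab_e1 : ∀ M : M3, det3 M = 1 → M.mulVec e1 = e1 →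
    ∃ i : Fin 4, ∃ j : Fin 3, ∃ k : Fin 2, ∃ l : Fin 3,
      M = mJ ^ (i : ℕ) * mR ^ (j : ℕ) * mJ ^ (k : ℕ) * mR ^ (l : ℕ) := by
  refine forall_mat ?_
  decide +kernel

theorem trans_point : ∀ v : V3, v ≠ 0 → ∃ M : M3, det3 M = 1 ∧ M.mulVec e1 = v := by
  intro v hv
  have key : ∀ a b c : ZMod 2, (![a, b, c] : V3) ≠ 0 →
      ∃ d e f g h i : ZMod 2, det3 (mk9 a d g b e h c f i) = 1 := by decide +kernel
  have e : v = ![v 0, v 1, v 2] := by ext i; fin_cases i <;> rfl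
  obtain ⟨d, e', f, g, h, i, hd⟩ := key (v 0) (v 1) (v 2) (e ▸ hv)
  refine ⟨_, hd, ?_⟩
  rw [e]
  ext r
  fin_cases r <;> simp [mk9, e1, Matrix.mulVec, dotProduct, Fin.sum_univ_three]

theorem trans_pair : ∀ v w : V3, v ≠ 0 → w ≠ 0 → v ≠ w → ∃ M : M3, det3 M = 1 ∧ M.mulVec e1 = v ∧ M.mulVec e2 = w := by
  intro v w hv hw hvw
  have key : ∀ a b c d e f : ZMod 2, (![a, b, c] : V3) ≠ 0 → (![d, e, f] : V3) ≠ 0 →
      (![a, b, c] : V3) ≠ ![d, e, f] → ∃ g h i : ZMod 2, det3 (mk9 a d g b e h c f i) = 1 := by decide +kernel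
  have ev : v = ![v 0, v 1, v 2] := by ext i; fin_cases i <;> rfl
  have ew : w = ![w 0, w 1, w 2] := by ext i; fin_cases i <;> rfl
  obtain ⟨g, h, i, hd⟩ := key (v 0) (v 1) (v 2) (w 0) (w 1) (w 2) (ev ▸ hv) (ew ▸ hw) (by rw [← ev, ← ew]; exact hvw)
  refine ⟨_, hd, ?_, ?_⟩
  · rw [ev]; ext r; fin_cases r <;> simp [mk9, e1, Matrix.mulVec, dotProduct, Fin.sum_univ_three]
  · rw [ew]; ext r; fin_cases r <;> simp [mk9, e2, Matrix.mulVec, dotProduct, Fin.sum_univ_three]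

/-- cross product -/
def cross (x y : V3) : V3 := ![x 1 * y 2 + x 2 * y 1, x 2 * y 0 + x 0 * y 2, x 0 * y 1 + x 1 * y 0]

theorem cross_surj : ∀ w : V3, ∃ x y : V3, cross x y = w := by decide +kernel

theorem cross_fixed : ∀ x y : V3, cross (mJ.mulVec x) (mJ.mulVec y) = cross x y →
    cross (mR.mulVec x) (mR.mulVec y) = cross x y → cross x y = 0 := by decide +kernel

theorem cross_indep : ∀ x y : V3, cross x y ≠ 0 → x ≠ 0 ∧ y ≠ 0 ∧ x ≠ y := by decide +kernel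

theorem fixed_line : ∀ c : V3, (mJ.mulVec c - c = 0 ∨ mJ.mulVec c - c = e1) →
    (mR.mulVec c - c = 0 ∨ mR.mulVec c - c = e1) → c = 0 ∨ c = e1 := by decide +kernel

theorem fixed_point : ∀ c : V3, mJ.mulVec c = c → c = 0 ∨ c = e1 := by decide +kernel

theorem fixed_R : ∀ c : V3, mR.mulVec c - c = 0 ∨ mR.mulVec c - c = e1 → c = 0 ∨ c = e1 := by decide +kernel

theorem a_centre : ∀ c : V3, (mJ * mJ).mulVec c - c = 0 ∨ (mJ * mJ).mulVec c - c = e1 := by decide +kernel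

theorem card_det_one : Nat.card {M : M3 // det3 M = 1} = 168 := by
  rw [Nat.card_eq_fintype_card]
  decide +kernel

end Cfsg.Agent.Sec62
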