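import Cfsg.Agent.Sec62.Homocyclic
import Cfsg.Agent.Sec62.Fixed
import Cfsg.Agent.Sec62.Groups

/-!
Squares form a natural module: reduction to the homocyclic case, and the fixed point case.
-/

set_option autoImplicit false
set_option linter.style.haveILetI false

namespace Cfsg.Agent.Sec62

variable {X : Type*} [Group X] {Q : Subgroup X} {F : Frame Q} {S R M : Subgroup X}

/-- squaring on the section -/
def sqr (p : X) : X := p * p

theorem sqr_linMap (C : Coord F S R) (hsq : ∀ p ∈ S, p * p ∈ M) (hcomm : ∀ p ∈ S, ∀ q ∈ S, p * q = q * p)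
    (hR2 : ∀ r ∈ R, r * r = 1) : LinMap C M sqr := by
  refine ⟨hsq, fun p hp q hq => ?_, hR2, fun x p _ => ?_⟩
  · show p * q * (p * q) = p * p * (q * q)
    rw [mul_assoc, ← mul_assoc q p q, hcomm q hq p hp]
    group
  · show x * p * x⁻¹ * (x * p * x⁻¹) = x * (p * p) * x⁻¹
    group

theorem LinMap.card_image [Finite X] {C : Coord F S R} {g : X → X} (hg : LinMap C M g)
    (hinj : ∀ p ∈ S, g p = 1 → p ∈ R) (hsurj : ∀ m ∈ M, ∃ p ∈ S, g p = m) :
    Nat.card M * Nat.card R = Nat.card S := by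
  let f : S →* M := MonoidHom.mk' (fun p => ⟨g p, hg.mem p p.2⟩) fun p q => Subtype.ext (hg.mul p p.2 q q.2)
  have hf : Function.Surjective f := fun m => by
    obtain ⟨p, hp, he⟩ := hsurj m m.2
    exact ⟨⟨p, hp⟩, Subtype.ext he⟩
  have h := f.ker.card_mul_index
  rw [Subgroup.index_ker, MonoidHom.range_eq_top_of_surjective f hf, Subgroup.card_top,
    Nat.card_congr (show f.ker ≃ R from ⟨fun p => ⟨p.1, hinj _ p.1.2 (congrArg Subtype.val p.2)⟩,
      fun r => ⟨⟨r.1, C.le r.2⟩, Subtype.ext (hg.one r r.2)⟩, fun p => rfl, fun r => rfl⟩)] at h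
  rw [mul_comm]; exact h

/-- factoring out a central involution outside the squares -/
theorem false_of_fixed [Finite X] [Q.Normal] (h4 : Cfsg.SectionalPRankLE 2 4 X) (hQp : IsPGroup 2 Q)
    (C : Coord F Q R) (hcomm : ∀ p ∈ Q, ∀ q ∈ Q, p * q = q * p) (hR2 : ∀ r ∈ R, r * r = 1)
    (hinj : ∀ p ∈ Q, p * p = 1 → p ∈ R) (u : X) (hu : u ∈ R) (hu0 : ∀ p ∈ Q, p * p ≠ u)
    (hR : ∀ r ∈ R, ∃ p ∈ Q, r = p * p ∨ r = u * (p * p)) (hfix : ∀ x : X, x * u = u * x) : False := by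
  obtain ⟨U, hU⟩ : ∃ U, U = Subgroup.zpowers u := ⟨_, rfl⟩
  haveI hUn : U.Normal := ⟨fun a ha x => by
    rw [hU, Subgroup.mem_zpowers_iff] at ha ⊢
    obtain ⟨n, rfl⟩ := ha
    refine ⟨n, ?_⟩
    rw [(Commute.zpow_right (hfix x) n).eq, mul_inv_cancel_right]⟩
  have hUmem : ∀ a ∈ U, a = 1 ∨ a = u := fun a ha => by
    rw [hU, Subgroup.mem_zpowers_iff] at ha
    obtain ⟨n, rfl⟩ := ha
    rcases Int.even_or_odd n with ⟨k, hk⟩ | ⟨k, hk⟩
    · left
      rw [hk, zpow_add, ← (Commute.refl u).mul_zpow, hR2 u hu, one_zpow]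
    · right
      rw [hk, two_mul, zpow_add, zpow_add, ← (Commute.refl u).mul_zpow, hR2 u hu, one_zpow, one_mul, zpow_one]
  have hUR : U ≤ R := fun a ha => by rcases hUmem a ha with rfl | rfl; exacts [one_mem _, hu]
  have hUQ : U ≤ Q := hUR.trans C.le
  obtain ⟨f, hfdef⟩ : ∃ f : X →* X ⧸ U, f = QuotientGroup.mk' U := ⟨_, rfl⟩
  have hfs : Function.Surjective f := by rw [hfdef]; exact QuotientGroup.mk'_surjective U
  have hf : ∀ a, f a = 1 ↔ a ∈ U := fun a => by rw [hfdef]; exact QuotientGroup.eq_one_iff a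
  have hfeq : ∀ {a b}, f a = f b → b⁻¹ * a ∈ U := fun {a b} h => by
    rw [← hf, map_mul, map_inv, h, inv_mul_cancel]
  let Q' : Subgroup (X ⧸ U) := Q.map f
  haveI : Q'.Normal := ‹Q.Normal›.map f hfs
  have hπ : ∀ g : X ⧸ U, ∀ a b : X, f a = g → f b = g → F.π a = F.π b := fun g a b ha hb => by
    have h := (F.ker _).mpr (hUQ (hfeq (ha.trans hb.symm)))
    rw [map_mul] at h
    calc F.π a = F.π b * (F.π b⁻¹ * F.π a) := by
          rw [← mul_assoc, ← map_mul, mul_inv_cancel, map_one, one_mul]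
      _ = F.π b := by rw [h, mul_one]
  choose sec hsec using hfs
  let π' : X ⧸ U →* M3 :=
    { toFun := fun g => F.π (sec g)
      map_one' := by rw [hπ 1 (sec 1) 1 (hsec 1) f.map_one, map_one]
      map_mul' := fun g h => by
        rw [hπ _ _ (sec g * sec h) (hsec _) (by rw [map_mul, hsec, hsec]), map_mul] }
  have hπ' : ∀ a, π' (f a) = F.π a := fun a => hπ _ _ _ (hsec _) rfl
  let F' : Frame Q' :=
    { π := π'
      ker := fun g => by
        obtain ⟨a, rfl⟩ : ∃ a, f a = g := ⟨_, hsec g⟩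
        rw [hπ', F.ker]
        refine ⟨fun h => Subgroup.mem_map_of_mem f h, ?_⟩
        rintro ⟨b, hb, he⟩
        have := mul_mem hb (hUQ (hfeq he.symm))
        rwa [mul_inv_cancel_left] at this
      surj := fun M hM => by
        obtain ⟨x, hx⟩ := F.surj M hM
        exact ⟨f x, by rw [hπ', hx]⟩ }
  have hcc : ∀ a ∈ Q, C.c (sec (f a)) = C.c a := fun a ha => by
    have h := hfeq (hsec (f a))
    have hs : sec (f a) ∈ Q := by
      have := mul_mem ha (hUQ h)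
      rwa [mul_inv_cancel_left] at this
    exact (C.eq_iff hs ha).mpr (hUR h)
  let C' : Coord F' Q' (R.map f) :=
    { c := fun g => C.c (sec g)
      le := Subgroup.map_mono C.le
      conj := fun g p hp => ‹Q'.Normal›.conj_mem p hp g
      add := by
        rintro _ ⟨p, hp, rfl⟩ _ ⟨q, hq, rfl⟩
        rw [← map_mul, hcc p hp, hcc q hq, hcc _ (mul_mem hp hq), C.add p hp q hq]
      ker := by
        rintro _ ⟨p, hp, rfl⟩
        rw [hcc p hp, C.ker p hp]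
        refine ⟨fun h => Subgroup.mem_map_of_mem f h, ?_⟩
        rintro ⟨r, hr, he⟩
        have := mul_mem hr (hUR (hfeq he.symm))
        rwa [mul_inv_cancel_left] at this
      surj := fun v => by
        obtain ⟨p, hp, rfl⟩ := C.surj v
        exact ⟨f p, Subgroup.mem_map_of_mem f hp, hcc p hp⟩
      act := by
        rintro g _ ⟨p, hp, rfl⟩
        obtain ⟨a, rfl⟩ : ∃ a, f a = g := ⟨_, hsec g⟩
        show (π' (f a)).mulVec _ = _
        rw [hπ', hcc p hp, C.act a p hp, ← hcc _ (C.conj a p hp)]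
        simp only [map_mul, map_inv] }
  refine homocyclic_false (FGS82.Meta2.rank_of_surjective h4 f (fun g => ⟨_, hsec g⟩)) (hQp.map f) C' ⟨?_, ?_, ?_⟩
  · rintro _ ⟨p, hp, rfl⟩ _ ⟨q, hq, rfl⟩
    rw [← map_mul, ← map_mul, hcomm p hp q hq]
  · rintro _ ⟨p, hp, rfl⟩
    rw [← map_mul, hf]
    refine ⟨fun h => ⟨p, ?_, rfl⟩, ?_⟩
    · rcases hUmem _ h with h | h
      · exact hinj p hp h
      · exact absurd h (hu0 p hp)
    · rintro ⟨r, hr, he⟩
      obtain ⟨v, hv, rfl⟩ : ∃ v ∈ U, p = r * v := ⟨_, hfeq he.symm, (mul_inv_cancel_left r p).symm⟩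
      rw [hR2 _ (mul_mem hr (hUR hv))]
      exact one_mem _
  · rintro _ ⟨r, hr, rfl⟩
    obtain ⟨p, hp, h | h⟩ := hR r hr
    · exact ⟨f p, Subgroup.mem_map_of_mem f hp, by rw [← map_mul, h]⟩
    · refine ⟨f p, Subgroup.mem_map_of_mem f hp, ?_⟩
      rw [h, map_mul f u, (hf u).mpr (hU ▸ Subgroup.mem_zpowers u), one_mul, map_mul]

theorem sigma_pow_four {G : Type*} [CommGroup G] (s : G →* G) (v v1 v2 v3 v4 : G) (h0 : s v = v * v1)
    (h1 : s v1 = v1 * v2) (h2 : s v2 = v2 * v3) (h3 : s v3 = v3 * v4) :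
    s (s (s (s v))) = v * (v1 ^ 4 * v2 ^ 6 * v3 ^ 4 * v4) := by
  simp only [h0, h1, h2, h3, map_mul, pow_succ, pow_zero, one_mul]
  ac_rfl

set_option maxHeartbeats 400000 in
/-- a fixed point of the Frattini quotient without invariant hyperplane -/
theorem case_point [Finite X] (h4 : Cfsg.SectionalPRankLE 2 4 X) [Q.Normal] [IsSimpleGroup (X ⧸ Q)]
    (hcard : Nat.card (X ⧸ Q) = 168) (hQp : IsPGroup 2 Q) (M : Subgroup X) [hMn : M.Normal] (hMQ : M ≤ Q)
    (hM1 : M ≠ ⊥) (hsq : ∀ q ∈ Q, q * q ∈ M) (hM2 : ∀ m ∈ M, m * m = 1)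
    (hMc : ∀ m ∈ M, ∀ q ∈ Q, m * q = q * m) (hgen : M ≤ Subgroup.closure {m | ∃ q ∈ Q, q * q = m})
    (hmin : ∀ Y : Subgroup X, Y.Normal → Y ≤ M → Y = ⊥ ∨ Y = M)
    (h16 : Nat.card Q = 16 * Nat.card M) (hne : ∃ x : X, ∃ q ∈ Q, x * q * x⁻¹ * q⁻¹ ∉ M)
    (u : X) (huQ : u ∈ Q) (huM : u ∉ M) (hufix : ∀ x : X, x * u * x⁻¹ * u⁻¹ ∈ M)
    (hnoE : ¬ ∃ E : Subgroup X, E.Normal ∧ M ≤ E ∧ E ≤ Q ∧ Nat.card E = 8 * Nat.card M) : False := by
  classical
  have hQQ : ∀ p ∈ Q, ∀ q ∈ Q, p * q * p⁻¹ * q⁻¹ ∈ M := fun p hp q hq => by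
    have h := mul_mem (mul_mem (hsq _ (mul_mem hp hq)) (hsq _ (mul_mem (mul_mem (inv_mem hq) (inv_mem hp)) hq)))
      (hsq _ (inv_mem hq))
    convert h using 1
    group
  let R : Subgroup X :=
    { carrier := {p | p ∈ M ∨ u⁻¹ * p ∈ M}
      one_mem' := Or.inl (one_mem _)
      mul_mem' := by
        rintro p q (hp | hp) (hq | hq)
        · exact Or.inl (mul_mem hp hq)
        · right
          rw [show u⁻¹ * (p * q) = u⁻¹ * p * u * (u⁻¹ * q) by group]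
          exact mul_mem (by simpa using hMn.conj_mem p hp u⁻¹) hq
        · exact Or.inr (by rw [← mul_assoc]; exact mul_mem hp hq)
        · left
          have h1 := mul_mem (hMn.conj_mem _ hp u) (hsq u huQ)
          have h2 := mul_mem h1 hq
          rwa [show u * (u⁻¹ * p) * u⁻¹ * (u * u) * (u⁻¹ * q) = p * q by group] at h2
      inv_mem' := by
        rintro p (hp | hp)
        · exact Or.inl (inv_mem hp)
        · right
          have h1 := mul_mem (inv_mem (hsq u huQ)) (hMn.conj_mem _ (inv_mem hp) u)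
          rwa [show (u * u)⁻¹ * (u * (u⁻¹ * p)⁻¹ * u⁻¹) = u⁻¹ * p⁻¹ by group] at h1 }
  have hMR : M ≤ R := fun m hm => Or.inl hm
  have huR : u ∈ R := Or.inr (by rw [inv_mul_cancel]; exact one_mem _)
  have hRQ : R ≤ Q := by
    rintro p (hp | hp)
    · exact hMQ hp
    · have := mul_mem huQ (hMQ hp); rwa [mul_inv_cancel_left] at this
  have hRfix : ∀ x : X, ∀ r ∈ R, x * r * x⁻¹ * r⁻¹ ∈ M := by
    rintro x r (hr | hr)
    · exact mul_mem (hMn.conj_mem r hr x) (inv_mem hr)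
    · obtain ⟨m, hm, rfl⟩ : ∃ m ∈ M, r = u * m := ⟨_, hr, (mul_inv_cancel_left u r).symm⟩
      rw [show x * (u * m) * x⁻¹ * (u * m)⁻¹ = (x * u * x⁻¹ * u⁻¹) * (u * ((x * m * x⁻¹) * m⁻¹) * u⁻¹) by group]
      exact mul_mem (hufix x) (hMn.conj_mem _ (mul_mem (hMn.conj_mem m hm x) (inv_mem hm)) u)
  haveI hRn : R.Normal := ⟨fun r hr x => by
    have := mul_mem (hMR (hRfix x r hr)) hr
    rwa [inv_mul_cancel_right] at this⟩
  have hRcard : Nat.card R = 2 * Nat.card M := by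
    rw [two_mul, ← Nat.card_sum]
    refine (Nat.card_congr (Equiv.ofBijective (Sum.elim (fun m : M => (⟨m, hMR m.2⟩ : R))
      (fun m : M => (⟨u * m, Or.inr (by rw [inv_mul_cancel_left]; exact m.2)⟩ : R))) ⟨?_, ?_⟩)).symm
    · rintro (a | a) (b | b) h <;> simp only [Sum.elim_inl, Sum.elim_inr, Subtype.mk.injEq] at h
      · exact congrArg _ (Subtype.ext h)
      · exact absurd (by rw [eq_mul_inv_of_mul_eq h.symm]; exact mul_mem a.2 (inv_mem b.2)) huM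
      · exact absurd (by rw [eq_mul_inv_of_mul_eq h]; exact mul_mem b.2 (inv_mem a.2)) huM
      · exact congrArg _ (Subtype.ext (mul_left_cancel h))
    · rintro ⟨p, hp | hp⟩
      · exact ⟨Sum.inl ⟨p, hp⟩, rfl⟩
      · exact ⟨Sum.inr ⟨_, hp⟩, Subtype.ext (mul_inv_cancel_left u p)⟩
  obtain ⟨F, ⟨C⟩⟩ := exists_frame hcard hRQ (by rw [h16, hRcard]; ring)
    (fun p hp => hMR (hsq p hp)) (fun q hq p hp => hMR (hQQ q hq p hp))
    (nontrivial_factor hcard M hQQ hne R hRQ hRfix)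
  have hRc : ∀ r ∈ R, r ∈ M ∨ u⁻¹ * r ∈ M := fun r hr => hr
  -- a fixed lift gives an invariant hyperplane
  have hno : ∀ z ∈ Q, C.c z = e1 → ∀ σ, F.π σ = mJ → σ * z * σ⁻¹ * z⁻¹ ∈ M → False := by
    intro z hz hze σ hσ hσz
    obtain ⟨E, hEn, hME, hEQ, huE, hcov⟩ := exists_complement C hQp M hMR u huR huM hRc hsq
      (fun q hq p hp => hQQ q hq p hp) z hz hze σ hσ hσz
    refine hnoE ⟨E, hEn, hME, hEQ, ?_⟩
    have hidx : (E.subgroupOf Q).index = 2 := by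
      rw [Subgroup.index_eq_two_iff]
      refine ⟨⟨u, huQ⟩, fun b => ?_⟩
      simp only [Subgroup.mem_subgroupOf, Subgroup.coe_mul]
      have hu2 : u * u ∈ E := hME (hsq u huQ)
      rcases hcov b b.2 with hb | hb
      · exact Or.inr ⟨hb, fun h => huE (by have := mul_mem (inv_mem hb) h; rwa [inv_mul_cancel_left] at this)⟩
      · left
        have hb' : (b : X) * u ∈ E := by
          have h1 := mul_mem (hEn.conj_mem _ hb u) hu2
          rwa [show u * (u⁻¹ * b) * u⁻¹ * (u * u) = (b : X) * u by group] at h1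
        exact ⟨hb', fun h => huE (by have := mul_mem (inv_mem h) hb'; rwa [inv_mul_cancel_left] at this)⟩
    have h := (E.subgroupOf Q).card_mul_index
    rw [hidx, Nat.card_congr (Subgroup.subgroupOfEquivOfLe hEQ).toEquiv, h16] at h
    omega
  obtain ⟨σ, hσ⟩ := F.surj mJ det_J
  -- a lift distinguished by its square
  have hdist : ∀ z ∈ Q, C.c z = e1 → z * z = 1 → z * u * (z * u) ≠ 1 → False := by
    intro z hz hze hz1 hz2
    refine hno z hz hze σ hσ ?_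
    have hc : C.c (σ * z * σ⁻¹) = C.c z := by rw [← C.act σ z hz, hσ, hze]; decide
    rcases hRc _ ((C.eq_iff (C.conj σ z hz) hz).mp hc) with h | h
    · have := hMn.conj_mem _ h z
      rwa [show z * (z⁻¹ * (σ * z * σ⁻¹)) * z⁻¹ = σ * z * σ⁻¹ * z⁻¹ by group] at this
    exfalso
    refine hz2 ?_
    obtain ⟨m, hm, he⟩ : ∃ m ∈ M, σ * z * σ⁻¹ = z * u * m :=
      ⟨_, h, by group⟩
    have h1 : z * u * m * (z * u * m) = 1 := by
      rw [← he, show σ * z * σ⁻¹ * (σ * z * σ⁻¹) = σ * (z * z) * σ⁻¹ by group, hz1]; group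
    rwa [mul_assoc (z * u) m, ← mul_assoc m (z * u) m, hMc m hm _ (mul_mem hz huQ), mul_assoc (z * u) m m,
      hM2 m hm, mul_one] at h1
  have hbrM : ∀ p ∈ Q, ∀ q ∈ Q, br p q ∈ M := hQQ
  have hbr_mul : ∀ p ∈ Q, ∀ a ∈ Q, ∀ b ∈ Q, br p (a * b) = br p a * br p b := by
    intro p hp a ha b hb
    rw [show br p (a * b) = br p a * (a * br p b * a⁻¹) by simp only [br]; group,
      ← hMc _ (hbrM p hp b hb) a ha, mul_inv_cancel_right]
  have hMbr : ∀ m ∈ M, ∀ p ∈ Q, br p m = 1 := fun m hm p hp => by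
    simp only [br]; rw [← hMc m hm p hp]; group
  have hφ : LinMap C M (br u) := by
    refine ⟨fun p hp => hbrM u huQ p hp, fun p hp q hq => hbr_mul u huQ p hp q hq, ?_, ?_⟩
    · intro r hr
      rcases hRc r hr with h | h
      · exact hMbr r h u huQ
      · rw [show r = u * (u⁻¹ * r) by group, hbr_mul u huQ u huQ _ (hMQ h), hMbr _ h u huQ, mul_one]
        simp only [br]; group
    · intro x p hp
      have hp' := C.conj x p hp
      obtain ⟨m, hm, he⟩ : ∃ m ∈ M, x * u * x⁻¹ = m * u :=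
        ⟨_, hufix x, (inv_mul_cancel_right _ _).symm⟩
      rw [br_conj, he]
      have hb := hbrM u huQ _ hp'
      calc br u (x * p * x⁻¹) = m * br u (x * p * x⁻¹) * m⁻¹ := by rw [hMc m hm _ (hMQ hb), mul_inv_cancel_right]
        _ = m * br u (x * p * x⁻¹) * m⁻¹ * br m (x * p * x⁻¹) := by
            rw [show br m (x * p * x⁻¹) = 1 by simp only [br]; rw [hMc m hm _ hp']; group, mul_one]
        _ = br (m * u) (x * p * x⁻¹) := by simp only [br]; group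
  obtain ⟨p1, hp1, hp1c⟩ := C.surj e1
  rcases hφ.zero_or_iso hmin with hφ0 | ⟨hφi, hφs⟩
  swap
  · -- the commutator with `u` is bijective
    have hu2 : u * u = 1 := by
      obtain ⟨p, hp, hpe⟩ := hφs _ (hsq u huQ)
      rw [← hpe]
      refine hφ.fixed_eq_one hφi hp fun x => ?_
      rw [hpe]
      obtain ⟨m, hm, he⟩ : ∃ m ∈ M, x * u * x⁻¹ = m * u :=
        ⟨_, hufix x, (inv_mul_cancel_right _ _).symm⟩
      rw [show x * (u * u) * x⁻¹ = (x * u * x⁻¹) * (x * u * x⁻¹) by group, he, mul_assoc, ← mul_assoc u m u,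
        ← hMc m hm u huQ, mul_assoc m u u, ← mul_assoc, hM2 m hm, one_mul]
    have hsqu : ∀ p ∈ Q, p * u * (p * u) = p * p * br u p := fun p hp => by
      have hb := hbrM u huQ p hp
      calc p * u * (p * u) = p * (br u p * p) * (u * u) := by simp only [br]; group
        _ = p * p * br u p := by rw [hu2, mul_one, hMc _ hb p hp, mul_assoc]
    obtain ⟨k, hk, hkc⟩ := hφs _ (hsq p1 hp1)
    have hκ : ∀ x : X, (F.π x).mulVec e1 = e1 →
        (F.π x).mulVec (C.c k) - C.c k = 0 ∨ (F.π x).mulVec (C.c k) - C.c k = e1 := by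
      intro x hx
      have hxk := C.conj x k hk
      have he : br u (x * k * x⁻¹) = (x * p1 * x⁻¹) * (x * p1 * x⁻¹) := by rw [hφ.act x k hk, hkc]; group
      obtain ⟨r, hr, hre⟩ : ∃ r ∈ R, x * p1 * x⁻¹ = p1 * r :=
        ⟨_, (C.eq_iff (C.conj x p1 hp1) hp1).mp (by rw [← C.act x p1 hp1, hp1c, hx]), (mul_inv_cancel_left _ _).symm⟩
      have hsqm : ∀ a ∈ Q, ∀ m ∈ M, a * m * (a * m) = a * a := fun a ha m hm => by
        rw [mul_assoc, ← mul_assoc m a m, hMc m hm a ha, mul_assoc a m m, hM2 m hm, mul_one]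
      rcases hRc r hr with h | h
      · left
        rw [hre, hsqm p1 hp1 r h, ← hkc] at he
        rw [C.act x k hk, sub_eq_zero, C.eq_iff hxk hk]
        refine hφi _ (mul_mem (inv_mem hk) hxk) ?_
        rw [hφ.mul _ (inv_mem hk) _ hxk, hφ.map_inv' hk, he, inv_mul_cancel]
      · right
        obtain ⟨m, hm, rfl⟩ : ∃ m ∈ M, r = u * m := ⟨_, h, (mul_inv_cancel_left u r).symm⟩
        rw [hre, ← mul_assoc p1 u m, hsqm _ (mul_mem hp1 huQ) m hm, hsqu p1 hp1, ← hkc, ← hφ.mul k hk p1 hp1] at he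
        rw [C.act x k hk, sub_eq_iff_eq_add, ← hp1c, add_comm, ← C.add k hk p1 hp1, C.eq_iff hxk (mul_mem hk hp1)]
        refine hφi _ (mul_mem (inv_mem (mul_mem hk hp1)) hxk) ?_
        rw [hφ.mul _ (inv_mem (mul_mem hk hp1)) _ hxk, hφ.map_inv' (mul_mem hk hp1), he, inv_mul_cancel]
    obtain ⟨ρ, hρ, -⟩ := F.exists_rho hQp
    have hJ := hκ σ (by rw [hσ]; decide)
    have hR' := hκ ρ (by rw [hρ]; decide)
    rw [hσ] at hJ
    rw [hρ] at hR'
    have hφp1 : br u p1 ≠ 1 := fun h => absurd (hp1c.symm.trans ((C.ker p1 hp1).mpr (hφi p1 hp1 h))) (by decide)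
    rcases fixed_line _ hJ hR' with h | h
    · refine hdist p1 hp1 hp1c ?_ ?_
      · rw [← hkc]; exact hφ.one k ((C.ker k hk).mp h)
      · rw [hsqu p1 hp1, ← hkc, hφ.one k ((C.ker k hk).mp h), one_mul]; exact hφp1
    · have he : br u k = br u p1 := hφ.congr_mod hk hp1 ((C.eq_iff hk hp1).mp (h.trans hp1c.symm))
      have hz2 : p1 * u * (p1 * u) = 1 := by rw [hsqu p1 hp1, ← hkc, he, hM2 _ (hbrM u huQ p1 hp1)]
      refine hdist (p1 * u) (mul_mem hp1 huQ) ?_ hz2 ?_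
      · rw [C.add p1 hp1 u huQ, (C.ker u huQ).mpr huR, add_zero, hp1c]
      · rw [mul_assoc p1 u u, hu2, mul_one, ← hkc, he]; exact hφp1
  -- now `u` is central in `Q`
  have huc : ∀ p ∈ Q, u * p = p * u := fun p hp => by
    have e : u * p = br u p * (p * u) := by simp only [br]; group
    rw [e, hφ0 p hp, one_mul]
  have hsqu : ∀ p ∈ Q, p * u * (p * u) = p * p * (u * u) := fun p hp => by
    rw [mul_assoc, ← mul_assoc u p u, huc p hp]; group
  by_cases hu2 : u * u = 1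
  swap
  · have hfixu : ∀ x : X, x * (u * u) * x⁻¹ = u * u := fun x => by
      obtain ⟨m, hm, he⟩ : ∃ m ∈ M, x * u * x⁻¹ = m * u :=
        ⟨_, hufix x, (inv_mul_cancel_right _ _).symm⟩
      rw [show x * (u * u) * x⁻¹ = (x * u * x⁻¹) * (x * u * x⁻¹) by group, he, mul_assoc, ← mul_assoc u m u,
        ← hMc m hm u huQ, mul_assoc m u u, ← mul_assoc, hM2 m hm, one_mul]
    let Y : Subgroup X :=
      { carrier := {a | a = 1 ∨ a = u * u}
        one_mem' := Or.inl rfl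
        mul_mem' := by
          rintro a b (rfl | rfl) (rfl | rfl)
          · exact Or.inl (one_mul _)
          · exact Or.inr (one_mul _)
          · exact Or.inr (mul_one _)
          · exact Or.inl (hM2 _ (hsq u huQ))
        inv_mem' := by
          rintro a (rfl | rfl)
          · exact Or.inl inv_one
          · exact Or.inr (inv_eq_of_mul_eq_one_right (hM2 _ (hsq u huQ))) }
    have hY : Y.Normal := ⟨by
      rintro a (rfl | rfl) x
      · exact Or.inl (by group)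
      · exact Or.inr (hfixu x)⟩
    have hYM : Y ≤ M := by
      rintro a (rfl | rfl)
      · exact one_mem _
      · exact hsq u huQ
    rcases hmin Y hY hYM with h | h
    · have : u * u ∈ (⊥ : Subgroup X) := h ▸ (Or.inr rfl : u * u ∈ Y)
      exact hu2 (Subgroup.mem_bot.mp this)
    · rcases (h.ge (hsq p1 hp1) : p1 * p1 = 1 ∨ p1 * p1 = u * u) with hs | hs
      · exact hdist p1 hp1 hp1c hs (by rw [hsqu p1 hp1, hs, one_mul]; exact hu2)
      · refine hdist (p1 * u) (mul_mem hp1 huQ) ?_ (by rw [hsqu p1 hp1, hs, hM2 _ (hsq u huQ)]) ?_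
        · rw [C.add p1 hp1 u huQ, (C.ker u huQ).mpr huR, add_zero, hp1c]
        · rw [hsqu _ (mul_mem hp1 huQ), hsqu p1 hp1, hs, hM2 _ (hsq u huQ), one_mul]; exact hu2
  have hR2 : ∀ r ∈ R, r * r = 1 := fun r hr => by
    rcases hRc r hr with h | h
    · exact hM2 r h
    · obtain ⟨m, hm, rfl⟩ : ∃ m ∈ M, r = u * m := ⟨_, h, (mul_inv_cancel_left u r).symm⟩
      rw [mul_assoc, ← mul_assoc m u m, hMc m hm u huQ, mul_assoc u m m, hM2 m hm, mul_one, hu2]
  have hRcen : ∀ r ∈ R, ∀ p ∈ Q, r * p = p * r := fun r hr p hp => by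
    rcases hRc r hr with h | h
    · exact hMc r h p hp
    · obtain ⟨m, hm, rfl⟩ : ∃ m ∈ M, r = u * m := ⟨_, h, (mul_inv_cancel_left u r).symm⟩
      rw [mul_assoc, hMc m hm p hp, ← mul_assoc, huc p hp, mul_assoc]
  have hcomm := comm_of_quadratic C M hM2 hMc hMQ hsq hbrM hR2 hRcen hmin
  have hlin := sqr_linMap (M := M) C hsq hcomm hR2
  rcases hlin.zero_or_iso hmin with h0 | ⟨hinj, hsurj⟩
  · refine hM1 (le_bot_iff.mp (hgen.trans ((Subgroup.closure_le _).mpr ?_)))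
    rintro _ ⟨q, hq, rfl⟩
    exact h0 q hq
  obtain ⟨v, hv, hvc⟩ := C.surj e3
  obtain ⟨v1, hv1d⟩ : ∃ a, a = σ * v * σ⁻¹ * v⁻¹ := ⟨_, rfl⟩
  have hv1 : v1 ∈ Q := hv1d ▸ mul_mem (C.conj σ v hv) (inv_mem hv)
  have hv1c : C.c v1 = e2 := by rw [hv1d, C.div hv, hσ, hvc]; decide
  obtain ⟨v2, hv2d⟩ : ∃ a, a = σ * v1 * σ⁻¹ * v1⁻¹ := ⟨_, rfl⟩
  have hv2 : v2 ∈ Q := hv2d ▸ mul_mem (C.conj σ v1 hv1) (inv_mem hv1)
  have hv2c : C.c v2 = e1 := by rw [hv2d, C.div hv1, hσ, hv1c]; decide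
  obtain ⟨v3, hv3d⟩ : ∃ a, a = σ * v2 * σ⁻¹ * v2⁻¹ := ⟨_, rfl⟩
  have hv3 : v3 ∈ R := by
    refine hv3d ▸ (C.ker _ (mul_mem (C.conj σ v2 hv2) (inv_mem hv2))).mp ?_
    rw [C.div hv2, hσ, hv2c]; decide
  rcases hRc v3 hv3 with h | h
  · exact hno v2 hv2 hv2c σ hσ (hv3d ▸ h)
  obtain ⟨m, hm, hv3e⟩ : ∃ m ∈ M, v3 = u * m := ⟨_, h, (mul_inv_cancel_left u v3).symm⟩
  obtain ⟨d, hdQ, hde⟩ := hsurj _ (hufix σ)
  by_cases hd2 : C.c d 2 = 0
  · -- a fixed involution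
    obtain ⟨p', hp', hp'c⟩ : ∃ p' ∈ Q, mJ.mulVec (C.c p') + C.c p' = C.c d := by
      have key : ∀ κ : V3, κ 2 = 0 → ∃ w : V3, mJ.mulVec w + w = κ := by decide +kernel
      obtain ⟨w, hw⟩ := key _ hd2
      obtain ⟨p', hp', rfl⟩ := C.surj w
      exact ⟨p', hp', hw⟩
    obtain ⟨w, hwdef⟩ : ∃ w, w = u * sqr p' := ⟨_, rfl⟩
    have hwQ : w ∈ Q := hwdef ▸ mul_mem huQ (hMQ (hlin.mem p' hp'))
    have hwR : w ∈ R := hwdef ▸ mul_mem huR (hMR (hlin.mem p' hp'))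
    have hwσ : σ * w * σ⁻¹ = w := by
      have h1 : sqr d * sqr (σ * p' * σ⁻¹ * p'⁻¹) = 1 := by
        rw [← hlin.mul d hdQ _ (mul_mem (C.conj σ p' hp') (inv_mem hp'))]
        refine hlin.one _ ((C.ker _ (mul_mem hdQ (mul_mem (C.conj σ p' hp') (inv_mem hp')))).mp ?_)
        rw [C.add d hdQ _ (mul_mem (C.conj σ p' hp') (inv_mem hp')), C.div hp', hσ, ← hp'c, sub_eq_add_neg,
          CharTwo.neg_eq, CharTwo.add_self_eq_zero]
      rw [hlin.mul _ (C.conj σ p' hp') _ (inv_mem hp'), hlin.act σ p' hp', hlin.map_inv' hp', hde] at h1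
      have hm' : σ * sqr p' * σ⁻¹ * (sqr p')⁻¹ ∈ M :=
        mul_mem (hMn.conj_mem _ (hlin.mem p' hp') σ) (inv_mem (hlin.mem p' hp'))
      rw [hwdef]
      calc σ * (u * sqr p') * σ⁻¹
          = (σ * u * σ⁻¹ * u⁻¹) * (u * (σ * sqr p' * σ⁻¹ * (sqr p')⁻¹)) * sqr p' := by group
        _ = (σ * u * σ⁻¹ * u⁻¹ * (σ * sqr p' * σ⁻¹ * (sqr p')⁻¹)) * u * sqr p' := by rw [← hMc _ hm' u huQ]; group
        _ = u * sqr p' := by rw [h1, one_mul]
    obtain ⟨m1, hm1, hfix⟩ := fixed_in_coset C hlin hinj hsurj w (fun x => hRfix x w hwR)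
      (fun m hm => hMc m hm w hwQ) (fun q hq => hcomm q hq w hwQ) (fun q hq m hm => (hMc m hm q hq).symm)
      hσ (mul_inv_eq_iff_eq_mul.mp hwσ)
    have hwm : w * m1 ∈ R := mul_mem hwR (hMR hm1)
    refine false_of_fixed h4 hQp C hcomm hR2 hinj (w * m1) hwm ?_ ?_ hfix
    · intro p hp he
      refine huM ?_
      rw [show u = p * p * m1⁻¹ * (sqr p')⁻¹ by rw [he, hwdef]; group]
      exact mul_mem (mul_mem (hsq p hp) (inv_mem hm1)) (inv_mem (hlin.mem p' hp'))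
    · intro r hr
      rcases hRc r hr with h | h
      · obtain ⟨p, hp, hpe⟩ := hsurj r h
        exact ⟨p, hp, Or.inl hpe.symm⟩
      · obtain ⟨p, hp, hpe⟩ := hsurj _ (mul_mem (inv_mem (mul_mem (hlin.mem p' hp') hm1)) h)
        refine ⟨p, hp, Or.inr ?_⟩
        rw [show p * p = _ from hpe, hwdef]; group
  -- otherwise the fourth power of `σ` cannot centralise `Q`
  letI : CommGroup Q := { (inferInstance : Group Q) with mul_comm := fun a b => Subtype.ext (hcomm a a.2 b b.2) }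
  let s : Q →* Q := (MulAut.conjNormal σ : MulAut Q).toMonoidHom
  have hs : ∀ a : Q, ((s a : Q) : X) = σ * a * σ⁻¹ := fun a => MulAut.conjNormal_apply σ a
  obtain ⟨v4, hv4d⟩ : ∃ a, a = σ * v3 * σ⁻¹ * v3⁻¹ := ⟨_, rfl⟩
  have hv4 : v4 ∈ Q := hv4d ▸ mul_mem (C.conj σ v3 (hRQ hv3)) (inv_mem (hRQ hv3))
  have step : ∀ a b : X, ∀ (ha : a ∈ Q) (hb : b ∈ Q), b = σ * a * σ⁻¹ * a⁻¹ → s ⟨a, ha⟩ = ⟨a, ha⟩ * ⟨b, hb⟩ := by
    intro a b ha hb he
    refine Subtype.ext ?_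
    rw [hs, Subgroup.coe_mul]
    show σ * a * σ⁻¹ = a * b
    rw [← hcomm b hb a ha, he, inv_mul_cancel_right]
  have h4v := congrArg Subtype.val (sigma_pow_four s _ _ _ _ _ (step v v1 hv hv1 hv1d) (step v1 v2 hv1 hv2 hv2d)
    (step v2 v3 hv2 (hRQ hv3) hv3d) (step v3 v4 (hRQ hv3) hv4 hv4d))
  have hσ4 : σ ^ 4 ∈ Q := (F.ker _).mp (by rw [map_pow, hσ, pow_succ, pow_succ, pow_two]; exact J_four)
  simp only [hs, Subgroup.coe_mul, SubgroupClass.coe_pow] at h4v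
  have hfourth : σ * (σ * (σ * (σ * v * σ⁻¹) * σ⁻¹) * σ⁻¹) * σ⁻¹ = v := by
    rw [show σ * (σ * (σ * (σ * v * σ⁻¹) * σ⁻¹) * σ⁻¹) * σ⁻¹ = σ ^ 4 * v * (σ ^ 4)⁻¹ by
      simp only [pow_succ, pow_zero, one_mul]; group, hcomm _ hσ4 v hv, mul_inv_cancel_right]
  rw [hfourth, left_eq_mul] at h4v
  have hexp4 : ∀ a ∈ Q, a ^ 4 = 1 := fun a ha => by
    rw [show (4 : ℕ) = 2 * 2 from rfl, pow_mul, pow_two, pow_two]; exact hM2 _ (hsq a ha)
  rw [hexp4 v1 hv1, hexp4 v3 (hRQ hv3), show (6 : ℕ) = 4 + 2 from rfl, pow_add, hexp4 v2 hv2, one_mul, one_mul,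
    mul_one, pow_two] at h4v
  obtain ⟨b, hb, hbe⟩ := hsurj m hm
  have hb' : σ * b * σ⁻¹ * b⁻¹ ∈ Q := mul_mem (C.conj σ b hb) (inv_mem hb)
  have hv4e : v4 = sqr (d * (σ * b * σ⁻¹ * b⁻¹)) := by
    rw [hlin.mul d hdQ _ hb', hlin.mul _ (C.conj σ b hb) _ (inv_mem hb), hlin.act σ b hb, hlin.map_inv' hb, hde, hbe,
      hv4d, hv3e]
    have hm' : σ * m * σ⁻¹ * m⁻¹ ∈ M := mul_mem (hMn.conj_mem m hm σ) (inv_mem hm)
    calc σ * (u * m) * σ⁻¹ * (u * m)⁻¹ = (σ * u * σ⁻¹ * u⁻¹) * (u * (σ * m * σ⁻¹ * m⁻¹) * u⁻¹) := by group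
      _ = _ := by rw [← hMc _ hm' u huQ, mul_inv_cancel_right]
  have hfin : C.c (v2 * (d * (σ * b * σ⁻¹ * b⁻¹))) = 0 := by
    refine (C.ker _ (mul_mem hv2 (mul_mem hdQ hb'))).mpr (hinj _ (mul_mem hv2 (mul_mem hdQ hb')) ?_)
    rw [hlin.mul v2 hv2 _ (mul_mem hdQ hb'), ← hv4e]
    exact h4v
  rw [C.add v2 hv2 _ (mul_mem hdQ hb'), C.add d hdQ _ hb', C.div hb, hσ, hv2c] at hfin
  refine hd2 ?_
  have key : ∀ κ w : V3, e1 + (κ + (mJ.mulVec w - w)) = 0 → κ 2 = 0 := by decide +kernel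
  exact key _ _ hfin

end Cfsg.Agent.Sec62
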