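import Cfsg.Agent.Sec62.Frame

/-!
Linear and quadratic maps from a natural section into an irreducible elementary section.
-/

set_option autoImplicit false
set_option linter.style.haveILetI false

namespace Cfsg.Agent.Sec62

variable {X : Type*} [Group X] {Q : Subgroup X} {F : Frame Q} {S R : Subgroup X}

/-- an equivariant homomorphism of the section into `M` -/
structure LinMap (C : Coord F S R) (M : Subgroup X) (g : X → X) : Prop where
  mem : ∀ p ∈ S, g p ∈ M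
  mul : ∀ p ∈ S, ∀ q ∈ S, g (p * q) = g p * g q
  one : ∀ r ∈ R, g r = 1
  act : ∀ x : X, ∀ p ∈ S, g (x * p * x⁻¹) = x * g p * x⁻¹

theorem Coord.conj_class (C : Coord F S R) {p q : X} (hp : p ∈ S) (hq : q ∈ S) (hp0 : C.c p ≠ 0)
    (hq0 : C.c q ≠ 0) : ∃ x : X, (x * p * x⁻¹)⁻¹ * q ∈ R := by
  obtain ⟨A, hA, hAe⟩ := trans_point _ hp0
  obtain ⟨B, hB, hBe⟩ := trans_point _ hq0
  obtain ⟨a, rfl⟩ := F.surj' A hA
  obtain ⟨b, rfl⟩ := F.surj' B hB
  refine ⟨b * a⁻¹, (C.eq_iff hq (C.conj _ _ hp)).mp ?_⟩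
  rw [← C.act _ p hp, ← hBe, ← hAe, Matrix.mulVec_mulVec, ← map_mul, inv_mul_cancel_right]

theorem Coord.hom_ext (C : Coord F S R) {g h : X → X}
    (g_mul : ∀ p ∈ S, ∀ q ∈ S, g (p * q) = g p * g q) (h_mul : ∀ p ∈ S, ∀ q ∈ S, h (p * q) = h p * h q)
    (gR : ∀ r ∈ R, g r = 1) (hR : ∀ r ∈ R, h r = 1) (u : Fin 3 → X) (hu : ∀ i, u i ∈ S)
    (hc : ∀ i, C.c (u i) = Pi.single i 1) (heq : ∀ i, g (u i) = h (u i)) : ∀ p ∈ S, g p = h p := by
  have key : ∀ p ∈ S, ∀ i, g (u i * p) = h (u i * p) ↔ g p = h p := fun p hp i => by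
    rw [g_mul _ (hu i) _ hp, h_mul _ (hu i) _ hp, heq i, mul_right_inj]
  intro p hp
  have hr : ∀ q ∈ S, C.c q = 0 → g q = h q := fun q hq hq0 => by
    rw [gR q ((C.ker q hq).mp hq0), hR q ((C.ker q hq).mp hq0)]
  -- remove the coordinates one by one
  have step : ∀ q ∈ S, ∀ i, ∃ q' ∈ S, (g q' = h q' → g q = h q) ∧ C.c q' i = 0 ∧ ∀ j, j ≠ i → C.c q' j = C.c q j := by
    intro q hq i
    rcases (show ∀ t : ZMod 2, t = 0 ∨ t = 1 by decide) (C.c q i) with h0 | h1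
    · exact ⟨q, hq, id, h0, fun j _ => rfl⟩
    · refine ⟨u i * q, mul_mem (hu i) hq, fun h => (key q hq i).mp h, ?_, fun j hj => ?_⟩
      · rw [C.add _ (hu i) _ hq, hc]; simp [h1, CharTwo.add_self_eq_zero]
      · rw [C.add _ (hu i) _ hq, hc]; simp [hj]
  obtain ⟨a, ha, hga, ha0, haj⟩ := step p hp 0
  obtain ⟨b, hb, hgb, hb1, hbj⟩ := step a ha 1
  obtain ⟨d, hd, hgd, hd2, hdj⟩ := step b hb 2
  refine hga (hgb (hgd (hr d hd ?_)))
  ext j
  fin_cases j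
  · rw [Fin.zero_eta, hdj 0 (by decide), hbj 0 (by decide), ha0]; rfl
  · rw [Fin.mk_one, hdj 1 (by decide), hb1]; rfl
  · exact hd2

namespace LinMap

variable {C : Coord F S R} {M : Subgroup X} {g : X → X} (hg : LinMap C M g)
include hg

theorem congr_mod {p q : X} (hp : p ∈ S) (hq : q ∈ S) (h : q⁻¹ * p ∈ R) : g p = g q := by
  have := hg.mul q hq _ (mul_mem (inv_mem hq) hp)
  rw [mul_inv_cancel_left, hg.one _ h, mul_one] at this
  exact this

theorem map_one' : g 1 = 1 := hg.one 1 (one_mem _)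

theorem map_inv' {p : X} (hp : p ∈ S) : g p⁻¹ = (g p)⁻¹ := by
  refine eq_inv_of_mul_eq_one_left ?_
  rw [← hg.mul _ (inv_mem hp) _ hp, inv_mul_cancel, hg.map_one']

/-- the dichotomy: zero or bijective -/
theorem zero_or_iso (hmin : ∀ Y : Subgroup X, Y.Normal → Y ≤ M → Y = ⊥ ∨ Y = M) :
    (∀ p ∈ S, g p = 1) ∨ ((∀ p ∈ S, g p = 1 → p ∈ R) ∧ ∀ m ∈ M, ∃ p ∈ S, g p = m) := by
  by_cases h : ∃ p ∈ S, p ∉ R ∧ g p = 1
  · obtain ⟨p, hp, hpR, hp1⟩ := h
    left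
    intro q hq
    by_cases hqR : q ∈ R
    · exact hg.one q hqR
    obtain ⟨x, hx⟩ := C.conj_class hp hq (fun e => hpR ((C.ker p hp).mp e)) (fun e => hqR ((C.ker q hq).mp e))
    rw [hg.congr_mod hq (C.conj x p hp) hx, hg.act x p hp, hp1]
    group
  · right
    push Not at h
    refine ⟨fun p hp hp1 => by_contra fun hpR => h p hp hpR hp1, ?_⟩
    let Y : Subgroup X :=
      { carrier := g '' S
        one_mem' := ⟨1, one_mem _, hg.map_one'⟩
        mul_mem' := by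
          rintro _ _ ⟨p, hp, rfl⟩ ⟨q, hq, rfl⟩
          exact ⟨p * q, mul_mem hp hq, hg.mul p hp q hq⟩
        inv_mem' := by
          rintro _ ⟨p, hp, rfl⟩
          exact ⟨p⁻¹, inv_mem hp, hg.map_inv' hp⟩ }
    have hY : Y.Normal := ⟨by
      rintro _ ⟨p, hp, rfl⟩ x
      exact ⟨x * p * x⁻¹, C.conj x p hp, hg.act x p hp⟩⟩
    rcases hmin Y hY (by rintro _ ⟨p, hp, rfl⟩; exact hg.mem p hp) with hb | hb
    · exfalso
      obtain ⟨p, hp, hpv⟩ := C.surj e1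
      have : g p ∈ (⊥ : Subgroup X) := hb ▸ (⟨p, hp, rfl⟩ : g p ∈ Y)
      refine h p hp (fun hR => ?_) (Subgroup.mem_bot.mp this)
      exact absurd (hpv.symm.trans ((C.ker p hp).mpr hR)) (by decide)
    · exact fun m hm => hb.ge hm

/-- an injective equivariant map has no fixed values -/
theorem fixed_eq_one (hinj : ∀ p ∈ S, g p = 1 → p ∈ R) {p : X} (hp : p ∈ S)
    (hfix : ∀ x : X, x * g p * x⁻¹ = g p) : g p = 1 := by
  have hc : ∀ x : X, (F.π x).mulVec (C.c p) = C.c p := fun x => by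
    rw [C.act x p hp, C.eq_iff (C.conj x p hp) hp]
    refine hinj _ (mul_mem (inv_mem hp) (C.conj x p hp)) ?_
    rw [hg.mul _ (inv_mem hp) _ (C.conj x p hp), hg.act x p hp, hfix, hg.map_inv' hp, inv_mul_cancel]
  refine hg.one p ((C.ker p hp).mp ?_)
  obtain ⟨x, hx⟩ := F.surj mJ det_J
  obtain ⟨y, hy⟩ := F.surj mG1 det_G1
  have h1 := hc x
  have h2 := hc y
  rw [hx] at h1
  rw [hy] at h2
  exact (fixed_point _ h1).resolve_right fun e => by rw [e] at h2; exact absurd h2 (by decide)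

/-- two bijective equivariant maps coincide -/
theorem unique {h : X → X} (hh : LinMap C M h) (hinj : ∀ p ∈ S, g p = 1 → p ∈ R)
    (hinjh : ∀ p ∈ S, h p = 1 → p ∈ R) (hsurj : ∀ m ∈ M, ∃ p ∈ S, h p = m) : ∀ p ∈ S, g p = h p := by
  intro p hp
  by_cases hpR : p ∈ R
  · rw [hg.one p hpR, hh.one p hpR]
  obtain ⟨p1, hp1, hv1⟩ := C.surj e1
  obtain ⟨p', hp', hgp'⟩ := hsurj _ (hg.mem p1 hp1)
  obtain ⟨s, hs⟩ := F.surj mJ det_J
  have hfix : C.c p' = e1 := by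
    have e : (F.π s).mulVec (C.c p') = C.c p' := by
      rw [C.act s p' hp', C.eq_iff (C.conj s p' hp') hp']
      refine hinjh _ (mul_mem (inv_mem hp') (C.conj s p' hp')) ?_
      rw [hh.mul _ (inv_mem hp') _ (C.conj s p' hp'), hh.act s p' hp', hh.map_inv' hp', hgp', ← hg.act s p1 hp1,
        hg.congr_mod (C.conj s p1 hp1) hp1 ((C.eq_iff (C.conj s p1 hp1) hp1).mp
          (by rw [← C.act s p1 hp1, hs, hv1]; decide)), inv_mul_cancel]
    rw [hs] at e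
    refine (fixed_point _ e).resolve_left fun e0 => ?_
    have : g p1 = 1 := by rw [← hgp']; exact hh.one p' ((C.ker p' hp').mp e0)
    exact absurd (hv1.symm.trans ((C.ker p1 hp1).mpr (hinj p1 hp1 this))) (by decide)
  have h1 : g p1 = h p1 := by
    rw [← hgp', hh.congr_mod hp' hp1 ((C.eq_iff hp' hp1).mp (hfix.trans hv1.symm))]
  have hp10 : C.c p1 ≠ 0 := by rw [hv1]; decide
  obtain ⟨x, hx⟩ := C.conj_class hp1 hp hp10 (fun e => hpR ((C.ker p hp).mp e))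
  rw [hg.congr_mod hp (C.conj x p1 hp1) hx, hh.congr_mod hp (C.conj x p1 hp1) hx, hg.act x p1 hp1,
    hh.act x p1 hp1, h1]

end LinMap

/-- `p q p⁻¹ q⁻¹` -/
def br (p q : X) : X := p * q * p⁻¹ * q⁻¹

theorem br_conj (x p q : X) : x * br p q * x⁻¹ = br (x * p * x⁻¹) (x * q * x⁻¹) := by
  simp only [br]; group

theorem comm_of_quadratic (C : Coord F S R) (M : Subgroup X) (hM2 : ∀ m ∈ M, m * m = 1)
    (hMc : ∀ m ∈ M, ∀ p ∈ S, m * p = p * m)
    (hMS : M ≤ S) (hsq : ∀ p ∈ S, p * p ∈ M) (hbr : ∀ p ∈ S, ∀ q ∈ S, br p q ∈ M)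
    (hR2 : ∀ r ∈ R, r * r = 1) (hRc : ∀ r ∈ R, ∀ p ∈ S, r * p = p * r)
    (hmin : ∀ Y : Subgroup X, Y.Normal → Y ≤ M → Y = ⊥ ∨ Y = M) :
    ∀ p ∈ S, ∀ q ∈ S, p * q = q * p := by
  classical
  letI : CommGroup M := { (inferInstance : Group M) with
    mul_comm := fun a b => Subtype.ext (hMc a a.2 b (hMS b.2)) }
  have hbl : ∀ p ∈ S, ∀ p' ∈ S, ∀ q ∈ S, br (p * p') q = br p q * br p' q := by
    intro p hp p' hp' q hq
    have hc := hMc _ (hbr p' hp' q hq)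
    rw [hMc _ (hbr p hp q hq) _ (hMS (hbr p' hp' q hq))]
    calc br (p * p') q = p * br p' q * p⁻¹ * br p q := by simp only [br]; group
      _ = br p' q * br p q := by rw [← hc p hp, mul_inv_cancel_right]
  have hsym : ∀ p ∈ S, ∀ q ∈ S, br q p = br p q := by
    intro p hp q hq
    have : br q p = (br p q)⁻¹ := by simp only [br]; group
    rw [this, inv_eq_of_mul_eq_one_right (hM2 _ (hbr p hp q hq))]
  have hbR : ∀ r ∈ R, ∀ q ∈ S, br r q = 1 := fun r hr q hq => by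
    simp only [br]; rw [hRc r hr q hq]; group
  have hcongr : ∀ p ∈ S, ∀ p' ∈ S, ∀ q ∈ S, p'⁻¹ * p ∈ R → br p q = br p' q := by
    intro p hp p' hp' q hq h
    have := hbl p' hp' _ (C.le h) q hq
    rw [mul_inv_cancel_left, hbR _ h q hq, mul_one] at this
    exact this
  have hcongr' : ∀ p ∈ S, ∀ q ∈ S, ∀ p' ∈ S, ∀ q' ∈ S, p'⁻¹ * p ∈ R → q'⁻¹ * q ∈ R → br p q = br p' q' := by
    intro p hp q hq p' hp' q' hq' h h'
    rw [hcongr p hp p' hp' q hq h, hsym q hq p' hp', hcongr q hq q' hq' p' hp' h', hsym p' hp' q' hq']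
  have hdep : ∀ p ∈ S, ∀ q ∈ S, C.c p = 0 ∨ C.c q = 0 ∨ C.c p = C.c q → br p q = 1 := by
    rintro p hp q hq (h | h | h)
    · exact hbR p ((C.ker p hp).mp h) q hq
    · rw [← hsym p hp q hq]; exact hbR q ((C.ker q hq).mp h) p hp
    · rw [hcongr p hp q hq q hq ((C.eq_iff hp hq).mp h)]
      simp [br]
  by_cases hcase : ∃ p ∈ S, ∃ q ∈ S, C.c p ≠ 0 ∧ C.c q ≠ 0 ∧ C.c p ≠ C.c q ∧ br p q = 1
  · obtain ⟨p, hp, q, hq, hp0, hq0, hpq, h1⟩ := hcase
    intro a ha b hb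
    have : br a b = 1 := by
      by_cases hd : C.c a = 0 ∨ C.c b = 0 ∨ C.c a = C.c b
      · exact hdep a ha b hb hd
      push Not at hd
      obtain ⟨A, hA, hA1, hA2⟩ := trans_pair _ _ hp0 hq0 hpq
      obtain ⟨B, hB, hB1, hB2⟩ := trans_pair _ _ hd.1 hd.2.1 hd.2.2
      obtain ⟨u, rfl⟩ := F.surj' A hA
      obtain ⟨v, rfl⟩ := F.surj' B hB
      have ha' : (v * u⁻¹ * p * (v * u⁻¹)⁻¹)⁻¹ * a ∈ R := (C.eq_iff ha (C.conj _ p hp)).mp (by
        rw [← C.act _ p hp, ← hA1, Matrix.mulVec_mulVec, ← map_mul, inv_mul_cancel_right, hB1])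
      have hb' : (v * u⁻¹ * q * (v * u⁻¹)⁻¹)⁻¹ * b ∈ R := (C.eq_iff hb (C.conj _ q hq)).mp (by
        rw [← C.act _ q hq, ← hA2, Matrix.mulVec_mulVec, ← map_mul, inv_mul_cancel_right, hB2])
      rw [hcongr' a ha b hb _ (C.conj _ p hp) _ (C.conj _ q hq) ha' hb', ← br_conj, h1]
      group
    have e : a * b = br a b * (b * a) := by simp only [br]; group
    rw [e, this, one_mul]
  exfalso
  push Not at hcase
  obtain ⟨u0, hu0, hc0⟩ := C.surj (Pi.single 0 1)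
  obtain ⟨u1, hu1, hc1⟩ := C.surj (Pi.single 1 1)
  obtain ⟨u2, hu2, hc2⟩ := C.surj (Pi.single 2 1)
  let u : Fin 3 → X := ![u0, u1, u2]
  have hu : ∀ i, u i ∈ S := fun i => by fin_cases i <;> assumption
  have huc : ∀ i, C.c (u i) = Pi.single i 1 := fun i => by fin_cases i <;> assumption
  let A0 : M := ⟨br u1 u2, hbr _ hu1 _ hu2⟩
  let A1 : M := ⟨br u2 u0, hbr _ hu2 _ hu0⟩
  let A2 : M := ⟨br u0 u1, hbr _ hu0 _ hu1⟩
  let f : V3 → M := fun w => A0 ^ (w 0).val * A1 ^ (w 1).val * A2 ^ (w 2).val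
  have hpow : ∀ a : M, ∀ s t : ZMod 2, a ^ (s + t).val = a ^ s.val * a ^ t.val := by
    intro a s t
    have h2 : a * a = 1 := Subtype.ext (hM2 _ a.2)
    have hd : ∀ z : ZMod 2, z = 0 ∨ z = 1 := by decide
    rcases hd s with rfl | rfl <;> rcases hd t with rfl | rfl <;>
      simp [h2, ZMod.val_one, CharTwo.add_self_eq_zero]
  have hfadd : ∀ v w, f (v + w) = f v * f w := fun v w => by
    simp only [f, Pi.add_apply, hpow]
    ac_rfl
  have hf0 : f 0 = 1 := by simp [f]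
  have hcross_add : ∀ a b w : V3, cross (a + b) w = cross a w + cross b w := by decide +kernel
  have hcross_sym : ∀ a b : V3, cross a b = cross b a := by decide +kernel
  have hB : ∀ q ∈ S, ∀ p ∈ S, br p q = f (cross (C.c p) (C.c q)) := by
    intro q hq
    have gmul : ∀ p ∈ S, ∀ p' ∈ S, br (p * p') q = br p q * br p' q := fun p hp p' hp' => hbl p hp p' hp' q hq
    have fmul : ∀ w : X, ∀ p ∈ S, ∀ p' ∈ S, ((f (cross (C.c (p * p')) (C.c w)) : M) : X) =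
        f (cross (C.c p) (C.c w)) * f (cross (C.c p') (C.c w)) := fun w p hp p' hp' => by
      rw [C.add p hp p' hp', hcross_add, hfadd]; rfl
    have fR : ∀ w : X, ∀ r ∈ R, ((f (cross (C.c r) (C.c w)) : M) : X) = 1 := fun w r hr => by
      rw [(C.ker r (C.le hr)).mpr hr, show cross 0 (C.c w) = 0 by ext i; fin_cases i <;> simp [cross], hf0]; rfl
    refine C.hom_ext gmul (fmul q) (fun r hr => hbR r hr q hq) (fR q) u hu huc fun i => ?_
    rw [← hsym _ (hu i) q hq]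
    rw [hcross_sym]
    refine C.hom_ext (g := fun p => br p (u i)) (h := fun p => ((f (cross (C.c p) (C.c (u i))) : M) : X))
      (fun p hp p' hp' => hbl p hp p' hp' _ (hu i)) (fmul (u i)) (fun r hr => hbR r hr _ (hu i)) (fR (u i))
      u hu huc (fun j => ?_) q hq
    simp only [huc]
    fin_cases i <;> fin_cases j <;>
      simp [u, f, cross, A0, A1, A2, hdep _ hu0 _ hu0 (Or.inr (Or.inr rfl)), hdep _ hu1 _ hu1 (Or.inr (Or.inr rfl)),
        hdep _ hu2 _ hu2 (Or.inr (Or.inr rfl)), hsym _ hu0 _ hu1, hsym _ hu1 _ hu2, hsym _ hu2 _ hu0, ZMod.val_one]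
  have hinj : ∀ w, f w = 1 → w = 0 := by
    intro w hw
    obtain ⟨x, y, rfl⟩ := cross_surj w
    by_contra hne
    obtain ⟨p, hp, rfl⟩ := C.surj x
    obtain ⟨q, hq, rfl⟩ := C.surj y
    obtain ⟨h1, h2, h3⟩ := cross_indep _ _ hne
    exact hcase p hp q hq h1 h2 h3 (by rw [hB q hq p hp, hw]; rfl)
  let Y : Subgroup X :=
    { carrier := {m | ∃ w, (f w : X) = m}
      one_mem' := ⟨0, by rw [hf0]; rfl⟩
      mul_mem' := by
        rintro _ _ ⟨v, rfl⟩ ⟨w, rfl⟩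
        exact ⟨v + w, by rw [hfadd]; rfl⟩
      inv_mem' := by
        rintro _ ⟨v, rfl⟩
        exact ⟨v, (inv_eq_of_mul_eq_one_right (hM2 _ (f v).2)).symm⟩ }
  have hY : Y.Normal := ⟨by
    rintro _ ⟨w, rfl⟩ x
    obtain ⟨a, b, rfl⟩ := cross_surj w
    obtain ⟨p, hp, rfl⟩ := C.surj a
    obtain ⟨q, hq, rfl⟩ := C.surj b
    refine ⟨cross (C.c (x * p * x⁻¹)) (C.c (x * q * x⁻¹)), ?_⟩
    rw [← hB _ (C.conj x q hq) _ (C.conj x p hp), ← hB q hq p hp, br_conj]⟩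
  rcases hmin Y hY (by rintro _ ⟨w, rfl⟩; exact (f w).2) with hb | hb
  · have : (f (Pi.single 2 1) : X) ∈ (⊥ : Subgroup X) := hb ▸ ⟨_, rfl⟩
    exact absurd (hinj _ (Subtype.ext (Subgroup.mem_bot.mp this))) (by decide)
  obtain ⟨p1, hp1, hv1⟩ := C.surj e1
  obtain ⟨w, hw⟩ := hb.ge (hsq p1 hp1)
  obtain ⟨a, b, rfl⟩ := cross_surj w
  obtain ⟨p, hp, rfl⟩ := C.surj a
  obtain ⟨q, hq, rfl⟩ := C.surj b
  have hsqw : ∀ s ∈ S, ∀ t ∈ S, C.c s = C.c t → s * s = t * t := by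
    intro s hs t ht h
    have hr := (C.eq_iff hs ht).mp h
    obtain ⟨r, rfl⟩ : ∃ r, s = t * r := ⟨t⁻¹ * s, (mul_inv_cancel_left t s).symm⟩
    rw [inv_mul_cancel_left] at hr
    rw [mul_assoc, ← mul_assoc r t r, hRc r hr t ht, mul_assoc t r r, hR2 r hr, mul_one]
  have hfixed : ∀ x : X, (F.π x).mulVec e1 = e1 →
      cross ((F.π x).mulVec (C.c p)) ((F.π x).mulVec (C.c q)) = cross (C.c p) (C.c q) := by
    intro x hx
    have h1 : (f (cross ((F.π x).mulVec (C.c p)) ((F.π x).mulVec (C.c q))) : X) = f (cross (C.c p) (C.c q)) := by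
      rw [C.act x p hp, C.act x q hq, ← hB _ (C.conj x q hq) _ (C.conj x p hp), ← br_conj, hB q hq p hp, hw,
        show x * (p1 * p1) * x⁻¹ = (x * p1 * x⁻¹) * (x * p1 * x⁻¹) by group]
      exact hsqw _ (C.conj x p1 hp1) _ hp1 (by rw [← C.act x p1 hp1, hv1, hx])
    rw [← CharTwo.add_eq_zero]
    refine hinj _ ?_
    rw [hfadd, Subtype.ext h1]
    exact Subtype.ext (hM2 _ (f _).2)
  obtain ⟨s, hs⟩ := F.surj mJ det_J
  obtain ⟨r, hr⟩ := F.surj mR det_R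
  have h1 := hfixed s (by rw [hs]; decide)
  have h2 := hfixed r (by rw [hr]; decide)
  rw [hs] at h1
  rw [hr] at h2
  rw [cross_fixed _ _ h1 h2, hf0] at hw
  have hall : ∀ t ∈ S, t * t = 1 := by
    intro t ht
    by_cases h : C.c t = 0
    · exact hR2 t ((C.ker t ht).mp h)
    obtain ⟨x, hx⟩ := C.conj_class hp1 ht (by rw [hv1]; decide) h
    rw [hsqw t ht _ (C.conj x p1 hp1) ((C.eq_iff ht (C.conj x p1 hp1)).mpr hx),
      show x * p1 * x⁻¹ * (x * p1 * x⁻¹) = x * (p1 * p1) * x⁻¹ by group, ← hw]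
    simp
  refine hcase u0 hu0 u1 hu1 (by rw [hc0]; decide) (by rw [hc1]; decide) (by rw [hc0, hc1]; decide) ?_
  simp only [br]
  rw [inv_eq_of_mul_eq_one_right (hall u0 hu0), inv_eq_of_mul_eq_one_right (hall u1 hu1),
    mul_assoc (u0 * u1) u0 u1]
  exact hall _ (mul_mem hu0 hu1)

end Cfsg.Agent.Sec62
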