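import Cfsg.Agent.Sec62.Frame

/-!
An elementary abelian section of order 32 built from a four-group of the quotient.
-/

set_option autoImplicit false

namespace Cfsg.Agent.Sec62

theorem invol_comm {G : Type*} [Group G] {a b c x : G} (ha : a * a = 1) (hb : b * b = 1) (hc : c * c = 1)
    (hx : x * x = 1) (hcx : c * x = x * c) (h : a * b * c = x) : a * b = b * a := by
  have h1 : a * b = x * c := by
    rw [← h, mul_assoc _ c c, hc, mul_one]
  have h2 : (a * b) * (a * b) = 1 := by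
    rw [h1, mul_assoc, ← mul_assoc c x c, hcx, mul_assoc x c c, hc, mul_one, hx]
  calc a * b = (a * b)⁻¹ := (inv_eq_of_mul_eq_one_right h2).symm
    _ = b⁻¹ * a⁻¹ := mul_inv_rev a b
    _ = b * a := by rw [inv_eq_of_mul_eq_one_right ha, inv_eq_of_mul_eq_one_right hb]

variable {X : Type*} [Group X] [Finite X]

/-- a four-group of `X / Q` permuted by an element of order three and centralising a section of order 8 -/
theorem witness (h4 : Cfsg.SectionalPRankLE 2 4 X) (Q A K : Subgroup X) [Q.Normal] (ρ a : X)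
    (hKA : K ≤ A) (hAQ : A ≤ Q) (hρ : ρ * ρ * ρ = 1)
    (hρA : ∀ p ∈ A, ρ * p * ρ⁻¹ ∈ A) (hρK : ∀ p ∈ K, ρ * p * ρ⁻¹ ∈ K)
    (hsq : ∀ p ∈ A, p * p ∈ K) (hAK : ∀ k ∈ K, ∀ p ∈ A, p * k * p⁻¹ ∈ K)
    (hcard : Nat.card A = 8 * Nat.card K)
    (haA : ∀ p ∈ A, a * p * a⁻¹ * p⁻¹ ∈ K) (ha2 : a * a ∈ K)
    (haQ : ∀ q ∈ Q, a * q * a⁻¹ * q⁻¹ ∈ A)
    (hfix : ∀ q ∈ Q, ρ * q * ρ⁻¹ * q⁻¹ ∈ A → q ∈ A)
    (h1 : a ∉ Q) (h2 : a * (ρ * a * ρ⁻¹) ∉ Q) (habc : a * (ρ * a * ρ⁻¹) * (ρ⁻¹ * a * ρ) ∈ Q) : False := by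
  obtain ⟨b, hb⟩ : ∃ b, b = ρ * a * ρ⁻¹ := ⟨_, rfl⟩
  obtain ⟨c, hc⟩ : ∃ c, c = ρ⁻¹ * a * ρ := ⟨_, rfl⟩
  obtain ⟨x, hx⟩ : ∃ x, x = a * b * c := ⟨_, rfl⟩
  rw [← hb] at h2
  rw [← hb, ← hc, ← hx] at habc
  have hρ' : ρ⁻¹ = ρ * ρ := inv_eq_of_mul_eq_one_left hρ
  have hρA' : ∀ p ∈ A, ρ⁻¹ * p * ρ ∈ A := fun p hp => by
    have := hρA _ (hρA p hp)
    rwa [show ρ * (ρ * p * ρ⁻¹) * ρ⁻¹ = (ρ * ρ) * p * (ρ * ρ)⁻¹ by group, ← hρ', inv_inv] at this
  have hρK' : ∀ p ∈ K, ρ⁻¹ * p * ρ ∈ K := fun p hp => by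
    have := hρK _ (hρK p hp)
    rwa [show ρ * (ρ * p * ρ⁻¹) * ρ⁻¹ = (ρ * ρ) * p * (ρ * ρ)⁻¹ by group, ← hρ', inv_inv] at this
  have haK : ∀ k ∈ K, a * k * a⁻¹ ∈ K := fun k hk => by
    simpa using mul_mem (haA k (hKA hk)) hk
  have hbA : ∀ p ∈ A, b * p * b⁻¹ * p⁻¹ ∈ K := fun p hp => by
    have := hρK _ (haA _ (hρA' p hp))
    rwa [show ρ * (a * (ρ⁻¹ * p * ρ) * a⁻¹ * (ρ⁻¹ * p * ρ)⁻¹) * ρ⁻¹ = b * p * b⁻¹ * p⁻¹ by rw [hb]; group] at this
  have hcA : ∀ p ∈ A, c * p * c⁻¹ * p⁻¹ ∈ K := fun p hp => by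
    have := hρK' _ (haA _ (hρA p hp))
    rwa [show ρ⁻¹ * (a * (ρ * p * ρ⁻¹) * a⁻¹ * (ρ * p * ρ⁻¹)⁻¹) * ρ = c * p * c⁻¹ * p⁻¹ by rw [hc]; group] at this
  have hbK : ∀ k ∈ K, b * k * b⁻¹ ∈ K := fun k hk => by simpa using mul_mem (hbA k (hKA hk)) hk
  have hcK : ∀ k ∈ K, c * k * c⁻¹ ∈ K := fun k hk => by simpa using mul_mem (hcA k (hKA hk)) hk
  have hb2 : b * b ∈ K := by
    have := hρK _ ha2
    rwa [show ρ * (a * a) * ρ⁻¹ = b * b by rw [hb]; group] at this
  have hc2 : c * c ∈ K := by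
    have := hρK' _ ha2
    rwa [show ρ⁻¹ * (a * a) * ρ = c * c by rw [hc]; group] at this
  -- the product of the three conjugates lies in `A`
  have hxA : x ∈ A := by
    refine hfix x habc ?_
    have hconj : a⁻¹ * x * a ∈ Q := by
      have := (inferInstance : Q.Normal).conj_mem x habc a⁻¹
      rwa [inv_inv] at this
    have hr : ρ * x * ρ⁻¹ = a⁻¹ * x * a := by
      have e1 : ρ * b * ρ⁻¹ = c := by
        rw [hb, hc, show ρ * (ρ * a * ρ⁻¹) * ρ⁻¹ = (ρ * ρ) * a * (ρ * ρ)⁻¹ by group, ← hρ', inv_inv]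
      have e2 : ρ * c * ρ⁻¹ = a := by rw [hc]; group
      rw [show ρ * x * ρ⁻¹ = (ρ * a * ρ⁻¹) * (ρ * b * ρ⁻¹) * (ρ * c * ρ⁻¹) by rw [hx]; group, ← hb, e1, e2, hx]
      group
    rw [hr]
    have := inv_mem (haQ _ hconj)
    rwa [show (a * (a⁻¹ * x * a) * a⁻¹ * (a⁻¹ * x * a)⁻¹)⁻¹ = a⁻¹ * x * a * x⁻¹ by group] at this
  -- work in the normaliser of `K`
  have hmemN : ∀ g : X, (∀ k ∈ K, g * k * g⁻¹ ∈ K) → g ∈ Subgroup.normalizer (K : Set X) := fun g hg => by
    rw [Subgroup.mem_normalizer_iff]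
    refine fun k => ⟨hg k, fun hk => ?_⟩
    haveI : Finite K := inferInstance
    have hinj : Function.Injective (fun k : K => (⟨g * k * g⁻¹, hg k k.2⟩ : K)) := fun u v h =>
      Subtype.ext (mul_left_cancel (mul_right_cancel (congrArg Subtype.val h)))
    obtain ⟨k', hk'⟩ := Finite.surjective_of_injective hinj ⟨_, hk⟩
    have : (k' : X) = k := mul_left_cancel (mul_right_cancel (congrArg Subtype.val hk'))
    exact this ▸ k'.2
  have haN := hmemN a haK
  have hbN := hmemN b hbK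
  have hcN := hmemN c hcK
  have hAN : A ≤ Subgroup.normalizer (K : Set X) := fun p hp => hmemN p fun k hk => hAK k hk p hp
  let G := Subgroup.normalizer (K : Set X)
  let f : G →* G ⧸ K.subgroupOf G := QuotientGroup.mk' _
  have hf1 : ∀ g : G, f g = 1 ↔ (g : X) ∈ K := fun g => by
    rw [show f g = ((g : G) : G ⧸ K.subgroupOf G) from rfl, QuotientGroup.eq_one_iff, Subgroup.mem_subgroupOf]
  have hcomm : ∀ g h : G, (g : X) * h * (g : X)⁻¹ * (h : X)⁻¹ ∈ K → f g * f h = f h * f g := fun g h hgh => by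
    rw [← mul_inv_eq_one, mul_inv_rev, ← mul_assoc, ← map_mul, ← map_inv, ← map_inv, ← map_mul, ← map_mul, hf1]
    simpa using hgh
  let a' : G := ⟨a, haN⟩
  let b' : G := ⟨b, hbN⟩
  let c' : G := ⟨c, hcN⟩
  let A' : Subgroup G := A.subgroupOf G
  have hA2 : ∀ p : G, (p : X) ∈ A → f p * f p = 1 := fun p hp => by
    rw [← map_mul, hf1]; exact hsq _ hp
  have hAA : ∀ p q : G, (p : X) ∈ A → (q : X) ∈ A → f p * f q = f q * f p := fun p q hp hq => by
    have h := hA2 (p * q) (mul_mem hp hq)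
    rw [map_mul] at h
    calc f p * f q = (f p * f q)⁻¹ := (inv_eq_of_mul_eq_one_right h).symm
      _ = (f q)⁻¹ * (f p)⁻¹ := mul_inv_rev _ _
      _ = f q * f p := by rw [inv_eq_of_mul_eq_one_right (hA2 p hp), inv_eq_of_mul_eq_one_right (hA2 q hq)]
  have hfa : f a' * f a' = 1 := by rw [← map_mul, hf1]; exact ha2
  have hfb : f b' * f b' = 1 := by rw [← map_mul, hf1]; exact hb2
  have hfc : f c' * f c' = 1 := by rw [← map_mul, hf1]; exact hc2
  have hab : f a' * f b' = f b' * f a' := by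
    refine invol_comm hfa hfb hfc (hA2 ⟨x, hAN hxA⟩ hxA) (hcomm c' ⟨x, hAN hxA⟩ (hcA x hxA)) ?_
    rw [← map_mul, ← map_mul]
    exact congrArg f (Subtype.ext hx.symm)
  let T : Set G := (A' : Set G) ∪ {a', b'}
  let Y : Subgroup G := Subgroup.closure T
  have hgen : ∀ p ∈ T, ∀ q ∈ T, f p * f q = f q * f p := by
    rintro p (hp | rfl | rfl) q (hq | rfl | rfl)
    · exact hAA p q hp hq
    · exact (hcomm _ p (haA _ hp)).symm
    · exact (hcomm _ p (hbA _ hp)).symm
    · exact hcomm _ q (haA _ hq)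
    · rfl
    · exact hab
    · exact hcomm _ q (hbA _ hq)
    · exact hab.symm
    · rfl
  have hgen2 : ∀ p ∈ T, f p * f p = 1 := by
    rintro p (hp | rfl | rfl)
    · exact hA2 p hp
    · exact hfa
    · exact hfb
  have hYcomm : ∀ p ∈ Y, ∀ q ∈ Y, f p * f q = f q * f p := by
    intro p hp q hq
    have hp' : f p ∈ Subgroup.closure (f '' T) := by
      rw [← MonoidHom.map_closure]; exact Subgroup.mem_map_of_mem f hp
    have hq' : f q ∈ Subgroup.closure (f '' T) := by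
      rw [← MonoidHom.map_closure]; exact Subgroup.mem_map_of_mem f hq
    have hle : Subgroup.closure (f '' T) ≤ Subgroup.centralizer (f '' T) := by
      rw [Subgroup.closure_le]
      rintro _ ⟨u, hu, rfl⟩ _ ⟨v, hv, rfl⟩
      exact hgen v hv u hu
    have hle' : Subgroup.closure (f '' T) ≤ Subgroup.centralizer (Subgroup.closure (f '' T) : Set (G ⧸ K.subgroupOf G)) := by
      rw [Subgroup.closure_le]
      intro u hu
      rw [SetLike.mem_coe, Subgroup.mem_centralizer_iff]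
      exact fun v hv => Subgroup.mem_centralizer_iff.mp (hle hv) u hu |>.symm
    exact Subgroup.mem_centralizer_iff.mp (hle' hq') _ hp'
  have hY2 : ∀ p ∈ Y, f p * f p = 1 := by
    intro p hp
    induction hp using Subgroup.closure_induction with
    | mem p hp => exact hgen2 p hp
    | one => simp
    | mul p q hp hq ihp ihq =>
      rw [map_mul, show f p * f q * (f p * f q) = f p * (f q * f p) * f q by group, ← hYcomm p hp q hq,
        show f p * (f p * f q) * f q = (f p * f p) * (f q * f q) by group, ihp, ihq, one_mul]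
    | inv p _ ih => rw [map_inv, ← mul_inv_rev, ih, inv_one]
  let g : Y →* G ⧸ K.subgroupOf G := f.comp Y.subtype
  have h16 := FGS82.ea_image_le h4 (G.subtype.comp Y.subtype)
    ((Subgroup.subtype_injective G).comp (Subgroup.subtype_injective Y)) g.rangeRestrict
    g.rangeRestrict_surjective (by
      rintro ⟨v, y, rfl⟩
      exact Subtype.ext (hY2 y.1 y.2))
  -- at least 32 elements
  let pick : Fin 2 → Fin 2 → G := fun i j => a' ^ (i : ℕ) * b' ^ (j : ℕ)
  have haT : a' ∈ T := Or.inr (Or.inl rfl)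
  have hbT : b' ∈ T := Or.inr (Or.inr rfl)
  have hpick : ∀ i j, pick i j ∈ Y := fun i j =>
    mul_mem (pow_mem (Subgroup.subset_closure haT) _) (pow_mem (Subgroup.subset_closure hbT) _)
  have hbQ : b ∉ Q := fun h => h1 (by
    have := (inferInstance : Q.Normal).conj_mem b h ρ⁻¹
    rwa [hb, show ρ⁻¹ * (ρ * a * ρ⁻¹) * ρ⁻¹⁻¹ = a by group] at this)
  let π := QuotientGroup.mk' Q
  have hpinj : ∀ i j k l, π (pick i j : X) = π (pick k l : X) → (i, j) = (k, l) := by
    have e00 : (pick 0 0 : X) = 1 := by simp [pick]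
    have e10 : (pick 1 0 : X) = a := by simp [pick, a']
    have e01 : (pick 0 1 : X) = b := by simp [pick, b']
    have e11 : (pick 1 1 : X) = a * b := by simp [pick, a', b']
    have n1 : π a ≠ 1 := fun h => h1 ((QuotientGroup.eq_one_iff a).mp h)
    have n2 : π b ≠ 1 := fun h => hbQ ((QuotientGroup.eq_one_iff b).mp h)
    have n3 : π (a * b) ≠ 1 := fun h => h2 ((QuotientGroup.eq_one_iff _).mp h)
    have n4 : π a ≠ π b := fun h => n3 (by
      rw [map_mul, ← h, ← map_mul]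
      exact (QuotientGroup.eq_one_iff _).mpr (hAQ (hKA ha2)))
    intro i j k l h
    fin_cases i <;> fin_cases j <;> fin_cases k <;> fin_cases l <;> simp only [Fin.zero_eta, Fin.mk_one] at h ⊢ <;>
      first
        | rfl
        | (exfalso; rw [e00, e10] at h; exact n1 (h.symm.trans π.map_one))
        | (exfalso; rw [e10, e00] at h; exact n1 (h.trans π.map_one))
        | (exfalso; rw [e00, e01] at h; exact n2 (h.symm.trans π.map_one))
        | (exfalso; rw [e01, e00] at h; exact n2 (h.trans π.map_one))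
        | (exfalso; rw [e00, e11] at h; exact n3 (h.symm.trans π.map_one))
        | (exfalso; rw [e11, e00] at h; exact n3 (h.trans π.map_one))
        | (exfalso; rw [e10, e01] at h; exact n4 h)
        | (exfalso; rw [e01, e10] at h; exact n4 h.symm)
        | (exfalso; rw [e10, e11] at h; rw [map_mul] at h; exact n2 (left_eq_mul.mp h))
        | (exfalso; rw [e11, e10] at h; rw [map_mul] at h; exact n2 (mul_eq_left.mp h))
        | (exfalso; rw [e01, e11] at h; rw [map_mul] at h; exact n1 (right_eq_mul.mp h))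
        | (exfalso; rw [e11, e01] at h; rw [map_mul] at h; exact n1 (mul_eq_right.mp h))
  let AK := A ⧸ K.subgroupOf A
  have hAKc : Nat.card AK = 8 := by
    have h := Subgroup.card_eq_card_quotient_mul_card_subgroup (K.subgroupOf A)
    rw [Nat.card_congr (Subgroup.subgroupOfEquivOfLe hKA).toEquiv, hcard] at h
    exact (Nat.eq_of_mul_eq_mul_right Nat.card_pos h).symm
  let Φ : Fin 2 × Fin 2 × AK → g.range := fun t =>
    g.rangeRestrict ⟨pick t.1 t.2.1 * ⟨(t.2.2.out : X), hAN t.2.2.out.2⟩,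
      mul_mem (hpick _ _) (Subgroup.subset_closure (Or.inl t.2.2.out.2))⟩
  have hΦ : Function.Injective Φ := by
    rintro ⟨i, j, u⟩ ⟨k, l, v⟩ h
    have h' : f (pick i j * ⟨(u.out : X), hAN u.out.2⟩) = f (pick k l * ⟨(v.out : X), hAN v.out.2⟩) :=
      congrArg Subtype.val h
    have hk : ((pick i j * ⟨(u.out : X), hAN u.out.2⟩ : G)⁻¹ * (pick k l * ⟨(v.out : X), hAN v.out.2⟩) : G).1 ∈ K := by
      rw [← hf1, map_mul, map_inv, h', inv_mul_cancel]
    simp only [Subgroup.coe_mul, Subgroup.coe_inv] at hk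
    have hQ' : π (pick i j : X) = π (pick k l : X) := by
      refine QuotientGroup.eq.mpr ?_
      have : (u.out : X) * (((pick i j : X) * u.out)⁻¹ * ((pick k l : X) * v.out)) * (v.out : X)⁻¹ ∈ Q :=
        mul_mem (mul_mem (hAQ u.out.2) (hAQ (hKA hk))) (inv_mem (hAQ v.out.2))
      rwa [show (u.out : X) * (((pick i j : X) * u.out)⁻¹ * ((pick k l : X) * v.out)) * (v.out : X)⁻¹ =
        (pick i j : X)⁻¹ * (pick k l : X) by group] at this
    obtain ⟨rfl, rfl⟩ := Prod.mk.inj (hpinj i j k l hQ')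
    rw [show ((pick i j : X) * u.out)⁻¹ * ((pick i j : X) * v.out) = (u.out : X)⁻¹ * v.out by group] at hk
    have : u = v := by
      rw [← QuotientGroup.out_eq' u, ← QuotientGroup.out_eq' v]
      exact QuotientGroup.eq.mpr (by rw [Subgroup.mem_subgroupOf]; simpa using hk)
    rw [this]
  have h32 := Nat.card_le_card_of_injective Φ hΦ
  rw [Nat.card_prod, Nat.card_prod, Nat.card_fin, hAKc] at h32
  omega

end Cfsg.Agent.Sec62
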